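import Groth.Agent.AlgSpLimit.SepLimit
import Groth.Agent.AlgSpFormal.Mono

/-!
# Closed immersions of limits of systems with closed transition morphisms
-/

set_option autoImplicit false
set_option backward.isDefEq.respectTransparency false
set_option linter.style.haveILetI false

universe u

open CategoryTheory CategoryTheory.Limits AlgebraicGeometry Opposite

namespace Groth.Agent.AlgSpLimit

open _root_.AlgSp Groth.Agent.AlgSpc

noncomputable section

variable {S : Scheme.{u}}

theorem mono_closed {X Y : Sp S} {u : X ⟶ Y} (h : RepWith @IsClosedImmersion u) : Mono u :=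
  mono_of_repWith (fun _ _ f (_ : IsClosedImmersion f) => inferInstance) h

theorem affine_closed {X Y : Sp S} {u : X ⟶ Y} (h : RepWith @IsClosedImmersion u) : IsAffineMor u :=
  (repWith_affineHom_iff _).2 (repWith_mono (fun _ _ f (_ : IsClosedImmersion f) => inferInstanceAs (IsAffineHom f)) h)

/-- The diagonal of a subspace is the base change of the diagonal. -/
theorem isPullback_diag_of_mono {X X' Y : Sp S} (u : X ⟶ X') (i : X' ⟶ Y) (f : X ⟶ Y) (hf : u ≫ i = f) [Mono u] :
    IsPullback u (pullback.diagonal f) (pullback.diagonal i)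
      (pullback.map f f i i u u (𝟙 Y) (by rw [hf, Category.comp_id]) (by rw [hf, Category.comp_id])) := by
  subst hf
  refine IsPullback.of_iso (pullback_map_diagonal_isPullback u u i) (asIso (pullback.diagonal u)).symm
    (Iso.refl _) (Iso.refl _) (Iso.refl _) ?_ ?_ (by simp) (by simp)
  · simp only [Iso.symm_hom, asIso_inv, Iso.refl_hom, Category.comp_id]
    rw [IsIso.eq_inv_comp, pullback.diagonal_fst_assoc]
  · simp only [Iso.symm_hom, asIso_inv, Iso.refl_hom, Category.comp_id]
    rw [IsIso.eq_inv_comp]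
    apply pullback.hom_ext <;> simp

/-- A system over a fixed space whose limit is a closed subspace is eventually a system of closed subspaces. -/
theorem eventually_closed_const {I : Type u} [SmallCategory I] [IsCofiltered I]
    {Y : Sp S} (hY : IsAlgSpace Y) (hYqc : IsQuasiCompactSp Y) (D : I ⥤ Sp S)
    (t : D ⟶ (Functor.const I).obj Y)
    (hDc : ∀ (i j : I) (φ : i ⟶ j), RepWith @IsClosedImmersion (D.map φ))
    (c : Cone D) (hc : IsLimit c) (g : c.pt ⟶ Y) (hg : ∀ i, c.π.app i ≫ t.app i = g) (i₀ : I)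
    (hr : ∀ (i : I) (_ : i ⟶ i₀), Representable (t.app i))
    (h₀ : RepWith (@QuasiCompact ⊓ @QuasiSeparated ⊓ @LocallyOfFiniteType) (t.app i₀))
    (hgl : RepWith @IsClosedImmersion g) :
    ∃ (k : I) (_ : k ⟶ i₀), ∀ (i : I) (_ : i ⟶ k), RepWith @IsClosedImmersion (t.app i) := by
  have : IsConnected (Over i₀) := isConnected_of_hasTerminal _
  let hc' : IsLimit (c.whisker (Over.forget i₀)) := (Functor.Initial.isLimitWhiskerEquiv _ _).symm hc
  let cY : Cone ((Functor.const (Over i₀)).obj Y) := constCone (Over i₀) Y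
  let top : Over i₀ := Over.mk (𝟙 i₀)
  let g' : Over.forget i₀ ⋙ D ⟶ (Functor.const (Over i₀)).obj Y :=
    { app := fun j => t.app j.left
      naturality := fun j k φ => t.naturality φ.left }
  obtain ⟨k, -, hk⟩ := eventually_closed g' (fun j l φ => (repWith_affineHom_iff _).2 (repWith_iso (P := @IsAffineHom) (𝟙 Y)))
    hc' (isLimitConstCone (Over i₀) Y) g
    (fun j => (hg j.left).trans (Category.comp_id _).symm) top hY hYqc
    (fun j => hr j.left j.hom) h₀
    (fun j φ => by
      haveI : IsIso (((Functor.const (Over i₀)).obj Y).map φ) := inferInstanceAs (IsIso (𝟙 Y))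
      rw [show pullback.lift ((Over.forget i₀ ⋙ D).map φ) (g'.app j) (g'.naturality φ) =
        D.map φ.left ≫ inv (pullback.fst (g'.app top) (((Functor.const (Over i₀)).obj Y).map φ)) from
          (IsIso.eq_comp_inv _).2 (pullback.lift_fst _ _ _)]
      exact repWith_comp (hDc _ _ _) (repWith_iso _))
    hgl
  exact ⟨k.left, k.hom, fun i η => hk (Over.mk (η ≫ k.hom)) (Over.homMk η rfl)⟩

set_option maxHeartbeats 400000 in
theorem eventually_closed_to_base [QuasiSeparatedSpace ↥S] {I : Type u} [SmallCategory I] [IsCofiltered I]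
    {Y : Sp S} (hY : IsAlgSpace Y) (D : I ⥤ Sp S) (hD : ∀ i, IsAlgSpace (D.obj i))
    (t : D ⟶ (Functor.const I).obj Y)
    (hDc : ∀ (i j : I) (φ : i ⟶ j), RepWith @IsClosedImmersion (D.map φ))
    (c : Cone D) (hc : IsLimit c) (g : c.pt ⟶ Y) (hg : ∀ i, c.π.app i ≫ t.app i = g)
    (hqc : ∀ i, IsQuasiCompactSp (D.obj i)) (hqs : ∀ i, IsQuasiSeparatedSp (D.obj i))
    (hYqc : IsQuasiCompactSp Y) (hYqs : IsQuasiSeparatedSp Y)
    (hft : ∀ i, LocP @LocallyOfFiniteType (t.app i)) (hX : RepWith @IsClosedImmersion g) :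
    ∃ i₀ : I, ∀ (i : I) (_ : i ⟶ i₀), RepWith @IsClosedImmersion (t.app i) := by
  have ht : ∀ {i j : I} (φ : i ⟶ j), D.map φ ≫ t.app j = t.app i := fun φ => (t.naturality φ).trans (Category.comp_id _)
  let Q : I ⥤ Sp S :=
    { obj := fun i => pullback (t.app i) (t.app i)
      map := fun {i j} φ => pullback.map _ _ _ _ (D.map φ) (D.map φ) (𝟙 Y)
        ((Category.comp_id _).trans (ht φ).symm) ((Category.comp_id _).trans (ht φ).symm)
      map_id := fun i => by apply pullback.hom_ext <;> simp
      map_comp := fun φ ψ => by apply pullback.hom_ext <;> simp }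
  let cQ : Cone Q :=
    { pt := pullback g g
      π := { app := fun i => pullback.map _ _ _ _ (c.π.app i) (c.π.app i) (𝟙 Y)
              (by rw [hg, Category.comp_id]) (by rw [hg, Category.comp_id])
             naturality := fun i j φ => by
              refine (Category.id_comp _).trans ?_
              apply pullback.hom_ext <;> simp [Q, c.w] } }
  let sl : Cone Q → Cone D := fun s =>
    { pt := s.pt
      π := { app := fun i => s.π.app i ≫ pullback.fst (t.app i) (t.app i)
             naturality := fun i j φ => by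
              refine (Category.id_comp _).trans ?_
              rw [← s.w φ]; simp [Q] } }
  have hgm : Mono g := mono_closed hX
  have hπm : ∀ i, Mono (c.π.app i) := fun i => by
    have : Mono (c.π.app i ≫ t.app i) := (hg i).symm ▸ hgm
    exact mono_of_mono (c.π.app i) (t.app i)
  obtain ⟨i₁⟩ := IsCofiltered.nonempty (C := I)
  have hfs : pullback.fst g g = pullback.snd g g := (cancel_mono g).1 pullback.condition
  have hs : ∀ (s : Cone Q), hc.lift (sl s) ≫ g = hc.lift (sl s) ≫ g := fun _ => rfl
  have hsnd : ∀ (s : Cone Q) (i : I),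
      hc.lift (sl s) ≫ c.π.app i = s.π.app i ≫ pullback.snd (t.app i) (t.app i) := fun s i => by
    let sr : Cone D :=
      { pt := s.pt
        π := { app := fun i => s.π.app i ≫ pullback.snd (t.app i) (t.app i)
               naturality := fun i j φ => by
                refine (Category.id_comp _).trans ?_
                rw [← s.w φ]; simp [Q] } }
    have : hc.lift (sl s) = hc.lift sr := by
      rw [← cancel_mono g, ← hg i, ← Category.assoc, ← Category.assoc, hc.fac, hc.fac]
      show (s.π.app i ≫ _) ≫ _ = (s.π.app i ≫ _) ≫ _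
      rw [Category.assoc, Category.assoc, pullback.condition]
    rw [this, hc.fac]
  let hcQ : IsLimit cQ :=
    { lift := fun s => pullback.lift (hc.lift (sl s)) (hc.lift (sl s)) (hs s)
      fac := fun s i => by
        apply pullback.hom_ext
        · simp only [cQ, Category.assoc, pullback.lift_fst, pullback.lift_fst_assoc]
          exact hc.fac (sl s) i
        · simp only [cQ, Category.assoc, pullback.lift_snd, pullback.lift_snd_assoc]
          exact hsnd s i
      uniq := fun s m hm => by
        have e : m ≫ pullback.fst g g = hc.lift (sl s) := hc.hom_ext fun i => by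
          rw [hc.fac]
          show (m ≫ pullback.fst g g) ≫ c.π.app i = s.π.app i ≫ _
          rw [← hm i]; simp [cQ]
        apply pullback.hom_ext
        · rw [pullback.lift_fst, e]
        · rw [pullback.lift_snd, ← hfs, e] }
  have hQa : ∀ (i j : I) (φ : i ⟶ j), IsAffineMor (Q.map φ) := fun i j φ =>
    isAffineMor_map_sq (t.app i) (D.map φ) (t.app j) (ht φ) (affine_closed (hDc _ _ φ))
  have sP := IsPullback.of_hasPullback (t.app i₁) (t.app i₁)
  have hP := isAlgSpace_of_isPullback (hD i₁) hY (hD i₁) sP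
  obtain ⟨hPc, -⟩ := AlgSpDesc.qcqs_pullback (hD i₁) hY (hD i₁) sP (hqc i₁) (hqs i₁) hYqs (hqc i₁) (hqs i₁)
  have hd := repWith_diagonal_qcqs (hD i₁) (hqs i₁) (t.app i₁)
  have hl := AlgSpFormal.repWith_of_locP (hD i₁) hP hd.1 (locP_lfp_diagonal (hD i₁) hY (hft i₁))
  haveI : IsIso (𝟙 cQ.pt) := IsIso.id _
  have hYsq : IsPullback (cQ.π.app i₁) (𝟙 cQ.pt) (𝟙 (Q.obj i₁)) (cQ.π.app i₁) := IsPullback.of_vert_isIso ⟨by simp⟩
  have hXsq : IsPullback (c.π.app i₁) (pullback.diagonal g) (pullback.diagonal (t.app i₁)) (cQ.π.app i₁) :=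
    haveI := hπm i₁
    isPullback_diag_of_mono (c.π.app i₁) (t.app i₁) g (hg i₁)
  obtain ⟨i, φ, h⟩ := descend_repWith Q hQa cQ hcQ LimSch.descends_isomorphisms hP (pullback.diagonal (t.app i₁))
    (𝟙 _) hPc ⟨hd.1, fun _ _ g fst snd sq => ⟨(hd.2 g fst snd sq).1, hl.2 g fst snd sq⟩⟩ hYsq hXsq
    (repWith_iso (pullback.diagonal g))
  have hmono : ∀ (k : I) (_ : k ⟶ i), Mono (t.app k) := fun k η => by
    haveI := mono_closed (hDc k i₁ (η ≫ φ))
    exact (AlgSpLoc.mono_iff_diagonal (hD k) _).2 (h k η _ _ (pullback.diagonal (t.app k)) (Q.map (η ≫ φ)) (𝟙 _)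
      (IsPullback.of_vert_isIso ⟨by simp⟩) (D.map (η ≫ φ))
      (isPullback_diag_of_mono (D.map (η ≫ φ)) (t.app i₁) (t.app k) (ht _)))
  have hrep : ∀ (k : I) (_ : k ⟶ i), Representable (t.app k) := fun k η =>
    haveI := hmono k η
    (AlgSpFormal.mono_lft_props (hD k) hY (hft k)).1
  have h₀ : RepWith (@QuasiCompact ⊓ @QuasiSeparated ⊓ @LocallyOfFiniteType) (t.app i) := by
    have hq := (repWith_quasiCompact_iff (hrep i (𝟙 i))).2
      (AlgSpDesc.isQuasiCompactMor_of_qc_qs (hD i) hY (hqc i) hYqs (t.app i))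
    have hl := AlgSpFormal.repWith_of_locP (hD i) hY (hrep i (𝟙 i)) (hft i)
    refine ⟨hrep i (𝟙 i), fun T W g fst snd sq => ⟨⟨hq.2 g fst snd sq, ?_⟩, hl.2 g fst snd sq⟩⟩
    haveI := hmono i (𝟙 i)
    haveI : Mono ((yon S).map snd) := sq.mono_snd_of_mono
    haveI : Mono snd := (yon S).mono_of_mono_map ‹_›
    haveI : Mono snd.left := inferInstanceAs (Mono ((Over.forget S).map snd))
    exact inferInstanceAs (QuasiSeparated snd.left)
  obtain ⟨k, -, hk⟩ := eventually_closed_const hY hYqc D t hDc c hc g hg i hrep h₀ hX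
  exact ⟨k, hk⟩

theorem exists_closed_scheme {I : Type u} [SmallCategory I] [IsCofiltered I]
    [CompactSpace S] [QuasiSeparatedSpace S]
    (D : I ⥤ Scheme.{u}) (t : D ⟶ (Functor.const I).obj S) (c : Cone D)
    (hc : IsLimit c) [∀ (i j : I) (f : i ⟶ j), IsClosedImmersion (D.map f)]
    [∀ i, CompactSpace (D.obj i)] [∀ i, QuasiSeparatedSpace (D.obj i)]
    [∀ i, LocallyOfFiniteType (t.app i)] (i₀ : I) [IsClosedImmersion (c.π.app i₀ ≫ t.app i₀)] :
    ∃ i : I, IsClosedImmersion (t.app i) := by
  have : IsConnected I := IsCofiltered.isConnected I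
  have ht : ∀ {i j : I} (φ : i ⟶ j), D.map φ ≫ t.app j = t.app i := fun φ => (t.naturality φ).trans (Category.comp_id _)
  let E : I ⥤ Over S :=
    { obj := fun i => Over.mk (t.app i)
      map := fun {i j} φ => Over.homMk (D.map φ) (ht φ) }
  let cE : Cone E :=
    { pt := Over.mk (c.π.app i₀ ≫ t.app i₀)
      π := { app := fun i => Over.homMk (c.π.app i) (by
              obtain ⟨m, u, v, -⟩ := IsCofilteredOrEmpty.cone_objs i i₀
              show c.π.app i ≫ t.app i = c.π.app i₀ ≫ t.app i₀
              rw [← c.w u, ← c.w v, Category.assoc, Category.assoc, ht u, ht v])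
             naturality := fun i j φ => by ext; exact (c.π.naturality φ) } }
  have hE : IsLimit cE := isLimitOfReflects (Over.forget S) (hc : IsLimit ((Over.forget S).mapCone cE))
  let base : Over S := Over.mk (𝟙 S)
  let q : ∀ i, E.obj i ⟶ base := fun i => Over.homMk (t.app i) (Category.comp_id _)
  haveI : CompactSpace base.left := ‹CompactSpace S›
  haveI : QuasiSeparatedSpace (((Functor.const I).obj S).obj i₀) := ‹QuasiSeparatedSpace S›
  obtain ⟨k, -, h⟩ := eventually_closed_const (IsAlgSpace.yon_obj base) isQuasiCompactSp_yon (E ⋙ yon S)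
    { app := fun i => (yon S).map (q i), naturality := fun _ _ _ => yon_toBase_unique _ _ }
    (fun i j φ => (repWith_yon_map_iff _ _).2 (inferInstanceAs (IsClosedImmersion (D.map φ))))
    ((yon S).mapCone cE) (isLimitOfPreserves (yon S) hE) ((yon S).map (Over.homMk (c.π.app i₀ ≫ t.app i₀) (Category.comp_id _)))
    (fun i => yon_toBase_unique _ _) i₀ (fun i _ => (IsAlgSpace.yon_obj base).representable_from_yon _)
    ((repWith_yon_map_iff _ _).2 ⟨⟨(inferInstance : QuasiCompact (t.app i₀)), (inferInstance : QuasiSeparated (t.app i₀))⟩,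
      (inferInstance : LocallyOfFiniteType (t.app i₀))⟩)
    ((repWith_yon_map_iff _ _).2 (inferInstanceAs (IsClosedImmersion (c.π.app i₀ ≫ t.app i₀))))
  exact ⟨k, (repWith_yon_map_iff _ (q k)).1 (h k (𝟙 k))⟩

end

end Groth.Agent.AlgSpLimit
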