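import Groth.Agent.AlgSpLimit.DescendLocP
import Groth.Agent.AlgSpDesc.QC
import Groth.Agent.AlgSpDesc.UnivInj
import Groth.Agent.AlgStB.SpDiag
import Groth.Agent.AlgSpFormal.Mono
import Groth.Agent.AlgSpFormal.UnramDiag
import Groth.Agent.ConstrFib.Descend
import Groth.Agent.FpqcDescent.Basic
import Mathlib.AlgebraicGeometry.Morphisms.FlatDescent

/-!
# Descent along limits of algebraic spaces: surjective morphisms, properties of representable morphisms
-/

set_option autoImplicit false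
set_option backward.isDefEq.respectTransparency false
set_option linter.style.haveILetI false

universe u

open CategoryTheory CategoryTheory.Limits AlgebraicGeometry Opposite

namespace Groth.Agent.AlgSpLimit

open _root_.AlgSp Groth.Agent.AlgSpc

noncomputable section

variable {S : Scheme.{u}}

/-- A property of a representable morphism can be checked on one etale atlas of the target. -/
theorem repWith_of_etale_cover {P : MorphismProperty Scheme.{u}} [P.IsStableUnderBaseChange]
    [P.DescendsAlong (@Surjective ⊓ @Flat ⊓ @LocallyOfFinitePresentation : MorphismProperty Scheme.{u})]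
    {X Y : Sp S} {f : X ⟶ Y} (hf : Representable f) {W W' : Over S} {b : (yon S).obj W ⟶ Y}
    {a : (yon S).obj W' ⟶ X} {v : W' ⟶ W} (sv : IsPullback a ((yon S).map v) f b)
    (hb : RepWith @Etale b) (hbs : RepWith @Surjective b) (hP : P v.left) : RepWith P f := by
  refine repWith_mk fun T g => ?_
  obtain ⟨V, fst, snd, sq⟩ := exists_sq hf g
  refine ⟨V, fst, snd, sq, ?_⟩
  obtain ⟨T', t, k, sT⟩ := exists_sq hb.1 g
  have : Etale k.left := hb.2 g t k sT
  have : Surjective k.left := hbs.2 g t k sT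
  have sV := (IsPullback.of_hasPullback snd k).map (yon S)
  have s1 : IsPullback ((yon S).map (pullback.fst snd k) ≫ fst) ((yon S).map (pullback.snd snd k)) f (t ≫ b) := by
    rw [sT.w]; exact sV.paste_horiz sq
  let e := sv.lift _ ((yon S).map (pullback.snd snd k) ≫ t) (s1.w.trans (Category.assoc _ _ _).symm)
  have s2 : IsPullback e ((yon S).map (pullback.snd snd k)) ((yon S).map v) t :=
    IsPullback.of_right (by rw [sv.lift_fst]; exact s1) (sv.lift_snd _ _ _) sv
  have h2 : P (pullback.snd snd k).left :=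
    ((repWith_yon_map_iff P v).2 hP).2 t e _ s2
  exact MorphismProperty.of_isPullback_of_descendsAlong
    (Q := @Surjective ⊓ @Flat ⊓ @LocallyOfFinitePresentation)
    (isPullback_left (IsPullback.of_hasPullback snd k)).flip
    ⟨⟨inferInstance, inferInstance⟩, inferInstance⟩ h2

/-- The self fibre product of a base change is the base change of the self fibre product. -/
theorem isPullback_map_self {X₀ Y₀ B B' X Y : Sp S} {f₀ : X₀ ⟶ Y₀} {b₀ : Y₀ ⟶ B} {d : B' ⟶ B}
    {f : X ⟶ Y} {pY : Y ⟶ Y₀} {qY : Y ⟶ B'} (hY : IsPullback pY qY b₀ d) {pX : X ⟶ X₀}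
    (hX : IsPullback pX f f₀ pY) :
    IsPullback (pullback.map f f f₀ f₀ pX pX pY hX.w.symm hX.w.symm) (pullback.fst f f ≫ f ≫ qY)
      (pullback.fst f₀ f₀ ≫ f₀ ≫ b₀) d := by
  have hXB : IsPullback pX (f ≫ qY) (f₀ ≫ b₀) d := hX.paste_vert hY
  have w : pullback.map f f f₀ f₀ pX pX pY hX.w.symm hX.w.symm ≫ pullback.fst f₀ f₀ ≫ f₀ ≫ b₀ =
      (pullback.fst f f ≫ f ≫ qY) ≫ d := by
    rw [pullback.lift_fst_assoc, Category.assoc, hXB.w]
    simp [Category.assoc]
  have h1 : ∀ s : PullbackCone (pullback.fst f₀ f₀ ≫ f₀ ≫ b₀) d,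
      (s.fst ≫ pullback.snd f₀ f₀) ≫ f₀ ≫ b₀ = s.snd ≫ d := fun s => by
    rw [Category.assoc, ← reassoc_of% (pullback.condition (f := f₀) (g := f₀)), s.condition]
  refine ⟨⟨w⟩, ⟨PullbackCone.IsLimit.mk w (fun s => pullback.lift
      (hXB.lift (s.fst ≫ pullback.fst f₀ f₀) s.snd (by rw [Category.assoc, s.condition]))
      (hXB.lift (s.fst ≫ pullback.snd f₀ f₀) s.snd (h1 s)) ?_)
    (fun s => ?_) (fun s => ?_) (fun s m hm₁ hm₂ => ?_)⟩⟩
  · apply hY.hom_ext
    · simp only [Category.assoc, ← hX.w, IsPullback.lift_fst_assoc, pullback.condition]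
    · simp only [Category.assoc, IsPullback.lift_snd]
  · apply pullback.hom_ext <;> simp
  · simp
  · apply pullback.hom_ext
    · apply hXB.hom_ext
      · have := congrArg (· ≫ pullback.fst f₀ f₀) hm₁
        simpa using this
      · simpa using hm₂
    · apply hXB.hom_ext
      · have := congrArg (· ≫ pullback.snd f₀ f₀) hm₁
        simpa using this
      · simp only [pullback.lift_snd, IsPullback.lift_snd]
        rw [← hm₂]
        simp [pullback.condition_assoc]

variable {I : Type u} [SmallCategory I] [IsCofiltered I] (D : I ⥤ Sp S)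
  (hDa : ∀ (i j : I) (φ : i ⟶ j), IsAffineMor (D.map φ))
  (c : Cone D) (hc : IsLimit c) {i₀ : I}

include hDa hc in
set_option maxHeartbeats 400000 in
/-- A property which is stable under base change, local for the etale topology on the target, and descends
along limits of schemes, descends along limits of algebraic spaces for representable morphisms. -/
theorem descend_repWith {P H : MorphismProperty Scheme.{u}} [P.IsStableUnderBaseChange] [H.RespectsIso]
    [P.DescendsAlong (@Surjective ⊓ @Flat ⊓ @LocallyOfFinitePresentation : MorphismProperty Scheme.{u})]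
    (hP : LimSch.Descends.{u} P H)
    {X₀ Y₀ : Sp S} (hY₀ : IsAlgSpace Y₀) (g₀ : X₀ ⟶ Y₀) (b₀ : Y₀ ⟶ D.obj i₀) (hYqc : IsQuasiCompactSp Y₀)
    (hg₀ : RepWith (@QuasiCompact ⊓ @QuasiSeparated ⊓ H) g₀)
    {X Y : Sp S} {f : X ⟶ Y} {pY : Y ⟶ Y₀} {qY : Y ⟶ c.pt}
    (hY : IsPullback pY qY b₀ (c.π.app i₀)) {pX : X ⟶ X₀} (hX : IsPullback pX f g₀ pY)
    (hf : RepWith P f) :
    ∃ (i : I) (φ : i ⟶ i₀), ∀ (k : I) (η : k ⟶ i) (Xi Yi : Sp S) (fi : Xi ⟶ Yi) (pYi : Yi ⟶ Y₀) (qYi : Yi ⟶ D.obj k)
      (_ : IsPullback pYi qYi b₀ (D.map (η ≫ φ))) (pXi : Xi ⟶ X₀) (_ : IsPullback pXi fi g₀ pYi),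
      RepWith P fi := by
  obtain ⟨V, b, hV, hb, hbs⟩ := (isQuasiCompactSp_iff_affine hY₀).1 hYqc
  obtain ⟨U, a, h, sU⟩ := exists_sq hg₀.1 b
  obtain ⟨⟨hqc, hqs⟩, hH⟩ := hg₀.2 b a h sU
  haveI : QuasiCompact h.left := hqc
  haveI : QuasiSeparated h.left := hqs
  obtain ⟨F, φ, ψ, hF, hsq, hφ, hψ⟩ := exists_affine_system D hDa (b ≫ b₀) hV
  obtain ⟨C, hC, φ₁, hsq₁⟩ := exists_affine_limit D c hc (b ≫ b₀) F φ ψ hF hsq hφ hψ
  let top : Over i₀ := Over.mk (𝟙 i₀)
  have : IsIso (ψ top) := by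
    have : IsIso (D.map top.hom) := by
      show IsIso (D.map (𝟙 i₀))
      infer_instance
    have : IsIso ((yon S).map (ψ top)) := (hsq top).isIso_snd_of_isIso
    exact isIso_of_fully_faithful (yon S) _
  have : IsIso (inv (ψ top)).left := inferInstanceAs (IsIso ((Over.forget S).map (inv (ψ top))))
  let D' := F ⋙ Over.forget S
  haveI : ∀ j, IsAffine (D'.obj j) := hF
  haveI : ∀ (j k : Over i₀) (t : j ⟶ k), IsAffineHom (D'.map t) := fun j k t => inferInstance
  let h₁ : U.left ⟶ D'.obj top := (h ≫ inv (ψ top)).left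
  haveI : QuasiCompact h₁ := inferInstanceAs (QuasiCompact (h.left ≫ (inv (ψ top)).left))
  haveI : QuasiSeparated h₁ := inferInstanceAs (QuasiSeparated (h.left ≫ (inv (ψ top)).left))
  have hH₁ : H h₁ := (H.cancel_right_of_respectsIso h.left (inv (ψ top)).left).2 hH
  -- charts of base changes
  have key : ∀ {B' Xi Yi : Sp S} {d : B' ⟶ D.obj i₀} {pYi : Yi ⟶ Y₀} {qYi : Yi ⟶ B'}
      (hYi : IsPullback pYi qYi b₀ d) {pXi : Xi ⟶ X₀} {fi : Xi ⟶ Yi} (hXi : IsPullback pXi fi g₀ pYi)
      {W : Over S} {φW : (yon S).obj W ⟶ B'} {ψW : W ⟶ V}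
      (_ : IsPullback φW ((yon S).map ψW) d (b ≫ b₀)),
      ∃ (b' : (yon S).obj W ⟶ Yi) (a' : (yon S).obj (pullback h ψW) ⟶ Xi), RepWith @Etale b' ∧
        RepWith @Surjective b' ∧ IsPullback a' ((yon S).map (pullback.snd h ψW)) fi b' := by
    intro B' Xi Yi d pYi qYi hYi pXi fi hXi W φW ψW hW
    let b' := hYi.lift ((yon S).map ψW ≫ b) φW (by rw [Category.assoc]; exact hW.w.symm)
    have sb : IsPullback ((yon S).map ψW) b' b pYi :=
      IsPullback.of_bot (by rw [hYi.lift_snd]; exact hW.flip) (hYi.lift_fst _ _ _).symm hYi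
    have s := ((IsPullback.of_hasPullback h ψW).map (yon S)).paste_horiz sU
    rw [show (yon S).map ψW ≫ b = b' ≫ pYi from (hYi.lift_fst _ _ _).symm] at s
    let a' := hXi.lift _ ((yon S).map (pullback.snd h ψW) ≫ b') (s.w.trans (Category.assoc _ _ _).symm)
    exact ⟨b', a', repWith_of_isPullback sb hb, repWith_of_isPullback sb hbs,
      IsPullback.of_right (by rw [hXi.lift_fst]; exact s) (hXi.lift_snd _ _ _) hXi⟩
  obtain ⟨b₁, a₁, -, -, s₁⟩ := key hY hX hsq₁
  have hP₁ := hf.2 b₁ a₁ _ s₁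
  have hsq' : IsPullback (pullback.fst h (C.π.app top ≫ ψ top)).left (pullback.snd h (C.π.app top ≫ ψ top)).left h₁
      (((Over.forget S).mapCone C).π.app top) :=
    isPullback_left (IsPullback.of_iso (IsPullback.of_hasPullback h (C.π.app top ≫ ψ top)) (Iso.refl _) (Iso.refl _)
      (Iso.refl _) (asIso (inv (ψ top))) (by simp) (by simp) (by simp) (by simp))
  obtain ⟨m, t, hm⟩ := hP D' _ hC top h₁ hH₁ _ _ hsq' hP₁
  refine ⟨m.left, m.hom, fun k η Xi Yi fi pYi qYi hYi pXi hXi => ?_⟩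
  let n : Over i₀ := Over.mk (η ≫ m.hom)
  let u : n ⟶ m := Over.homMk η rfl
  obtain ⟨b', a', hb', hb's, s'⟩ := key (hYi : IsPullback pYi qYi b₀ (D.map n.hom)) hXi (hsq n)
  refine repWith_of_etale_cover (representable_of_isPullback hXi hg₀.1) s' hb' hb's ?_
  have sk : IsPullback (pullback.fst h (ψ n)).left (pullback.snd h (ψ n)).left h₁ (D'.map (u ≫ t)) :=
    isPullback_left (IsPullback.of_iso (IsPullback.of_hasPullback h (ψ n)) (Iso.refl _) (Iso.refl _)
      (Iso.refl _) (asIso (inv (ψ top))) (by simp) (by simp) (by simp) (by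
        simp only [Iso.refl_hom, Category.id_comp, asIso_hom]
        rw [IsIso.comp_inv_eq]
        exact (hψ (u ≫ t)).symm))
  exact LimSch.of_isPullback_comp (IsPullback.of_hasPullback h₁ (D'.map t)) (D'.map u)
    (D'.map_comp u t ▸ sk) hm

include hDa hc in
set_option maxHeartbeats 400000 in
/-- Surjectivity descends along limits of algebraic spaces. -/
theorem descend_surjective [QuasiSeparatedSpace ↥S]
    {X₀ Y₀ : Sp S} (hX₀ : IsAlgSpace X₀) (hY₀ : IsAlgSpace Y₀) (f₀ : X₀ ⟶ Y₀) (b₀ : Y₀ ⟶ D.obj i₀)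
    (hXqc : IsQuasiCompactSp X₀) (hYqc : IsQuasiCompactSp Y₀) (hYqs : IsQuasiSeparatedSp Y₀)
    (hf₀ : LocP @LocallyOfFinitePresentation f₀)
    {X Y : Sp S} {f : X ⟶ Y} {pY : Y ⟶ Y₀} {qY : Y ⟶ c.pt}
    (hY : IsPullback pY qY b₀ (c.π.app i₀)) {pX : X ⟶ X₀} (hX : IsPullback pX f f₀ pY)
    (hf : IsSurjectiveMor f) :
    ∃ (i : I) (φ : i ⟶ i₀), ∀ (k : I) (η : k ⟶ i) (Xi Yi : Sp S) (fi : Xi ⟶ Yi) (pYi : Yi ⟶ Y₀) (qYi : Yi ⟶ D.obj k)
      (_ : IsPullback pYi qYi b₀ (D.map (η ≫ φ))) (pXi : Xi ⟶ X₀) (_ : IsPullback pXi fi f₀ pYi),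
      IsSurjectiveMor fi := by
  obtain ⟨V, b, hV, hb, hbs⟩ := (isQuasiCompactSp_iff_affine hY₀).1 hYqc
  have sP := IsPullback.of_hasPullback f₀ b
  have hP₀ := isAlgSpace_of_isPullback hX₀ hY₀ (IsAlgSpace.yon_obj V) sP
  obtain ⟨U, q, hU, hq, hqs⟩ := (isQuasiCompactSp_iff_affine hP₀).1
    (AlgSpDesc.isQuasiCompactMor_of_qc_qs hX₀ hY₀ hXqc hYqs f₀ (IsAlgSpace.yon_obj V) isQuasiCompactSp_yon b _ _ sP)
  let h : U ⟶ V := pre (q ≫ pullback.snd f₀ b)
  have hh : (yon S).map h = q ≫ pullback.snd f₀ b := map_pre _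
  let a : (yon S).obj U ⟶ X₀ := q ≫ pullback.fst f₀ b
  have w : a ≫ f₀ = (yon S).map h ≫ b := by rw [hh, Category.assoc, Category.assoc, pullback.condition]
  have hlfp : LocallyOfFinitePresentation h.left :=
    locP_base_change hX₀ hY₀ (IsAlgSpace.yon_obj V) sP hf₀ q (𝟙 _) h hq (repWith_iso _)
      (by rw [hh, Category.comp_id])
  obtain ⟨F, φ, ψ, hF, hsq, hφ, hψ⟩ := exists_affine_system D hDa (b ≫ b₀) hV
  obtain ⟨C, hC, φ₁, hsq₁⟩ := exists_affine_limit D c hc (b ≫ b₀) F φ ψ hF hsq hφ hψ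
  let top : Over i₀ := Over.mk (𝟙 i₀)
  have : IsIso (ψ top) := by
    have : IsIso (D.map top.hom) := by
      show IsIso (D.map (𝟙 i₀))
      infer_instance
    have : IsIso ((yon S).map (ψ top)) := (hsq top).isIso_snd_of_isIso
    exact isIso_of_fully_faithful (yon S) _
  have : IsIso (inv (ψ top)).left := inferInstanceAs (IsIso ((Over.forget S).map (inv (ψ top))))
  let D' := F ⋙ Over.forget S
  haveI : ∀ j, IsAffine (D'.obj j) := hF
  haveI : ∀ (j k : Over i₀) (t : j ⟶ k), IsAffineHom (D'.map t) := fun j k t => inferInstance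
  let h₁ : U.left ⟶ D'.obj top := (h ≫ inv (ψ top)).left
  have : LocallyOfFinitePresentation h₁ := inferInstanceAs (LocallyOfFinitePresentation (h.left ≫ (inv (ψ top)).left))
  have : IsAffine U.left := hU
  -- surjectivity at the limit
  let ψ₁ : C.pt ⟶ V := C.π.app top ≫ ψ top
  let b₁ := hY.lift ((yon S).map ψ₁ ≫ b) φ₁ (by rw [Category.assoc]; exact hsq₁.w.symm)
  have hsq' : IsPullback (pullback.fst h (C.π.app top ≫ ψ top)).left (pullback.snd h (C.π.app top ≫ ψ top)).left h₁
      (((Over.forget S).mapCone C).π.app top) :=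
    isPullback_left (IsPullback.of_iso (IsPullback.of_hasPullback h (C.π.app top ≫ ψ top)) (Iso.refl _) (Iso.refl _)
      (Iso.refl _) (asIso (inv (ψ top))) (by simp) (by simp) (by simp) (by simp))
  have hP₁ : Surjective (pullback.snd h ψ₁).left := ⟨fun x => by
    obtain ⟨z, hz⟩ := hf (Points.map b₁ (Points.ofScheme C.pt x))
    have e : Points.map f₀ (Points.map pX z) = Points.map b (Points.map ((yon S).map ψ₁) (Points.ofScheme C.pt x)) := by
      rw [← Points.map_comp, hX.w, Points.map_comp, hz, ← Points.map_comp, ← Points.map_comp]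
      exact congrArg (fun g => Points.map g (Points.ofScheme C.pt x)) (hY.lift_fst _ _ _)
    obtain ⟨p, -, hp⟩ := exists_point_of_isPullback sP _ _ e
    obtain ⟨w', hw'⟩ := surjective_ofPt hqs p
    rw [← hw', Points.map_ofPt, ← hh, ← Points.ofPt_eq_map_ofScheme, ofPt_pre, ofPt_pre, pre_map, pre_map] at hp
    have hpt : h.left w' = ψ₁.left x := (Points.schemeEquiv V).injective hp
    obtain ⟨y, -, hy⟩ := Scheme.exists_preimage_of_isPullback (isPullback_left (IsPullback.of_hasPullback h ψ₁)) _ _ hpt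
    exact ⟨y, hy⟩⟩
  obtain ⟨m, t, hm⟩ := ConstrFib.descends_surjective D' _ hC top h₁ ‹_› _ _ hsq' hP₁
  refine ⟨m.left, m.hom, fun k η Xi Yi fi pYi qYi hYi pXi hXi => ?_⟩
  let n : Over i₀ := Over.mk (η ≫ m.hom)
  let u : n ⟶ m := Over.homMk η rfl
  have hYn : IsPullback pYi qYi b₀ (D.map n.hom) := hYi
  have sk : IsPullback (pullback.fst h (ψ n)).left (pullback.snd h (ψ n)).left h₁ (D'.map (u ≫ t)) :=
    isPullback_left (IsPullback.of_iso (IsPullback.of_hasPullback h (ψ n)) (Iso.refl _) (Iso.refl _)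
      (Iso.refl _) (asIso (inv (ψ top))) (by simp) (by simp) (by simp) (by
        simp only [Iso.refl_hom, Category.id_comp, asIso_hom]
        rw [IsIso.comp_inv_eq]
        exact (hψ (u ≫ t)).symm))
  have hn : Surjective (pullback.snd h (ψ n)).left :=
    LimSch.of_isPullback_comp (P := @Surjective) (IsPullback.of_hasPullback h₁ (D'.map t)) (D'.map u)
      (D'.map_comp u t ▸ sk) hm
  let b' := hYn.lift ((yon S).map (ψ n) ≫ b) (φ n) (by rw [Category.assoc]; exact (hsq n).w.symm)
  have sb : IsPullback ((yon S).map (ψ n)) b' b pYi :=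
    IsPullback.of_bot (by rw [hYn.lift_snd]; exact (hsq n).flip) (hYn.lift_fst _ _ _).symm hYn
  intro y
  obtain ⟨v, rfl⟩ := surjective_ofPt (repWith_of_isPullback sb hbs) y
  obtain ⟨x, rfl⟩ := hn.surj v
  have w2 : ((yon S).map (pullback.fst h (ψ n)) ≫ a) ≫ f₀ = ((yon S).map (pullback.snd h (ψ n)) ≫ b') ≫ pYi := by
    rw [Category.assoc, w, Category.assoc, hYn.lift_fst, ← Category.assoc, ← Functor.map_comp,
      pullback.condition, Functor.map_comp, Category.assoc]
  refine ⟨Points.ofPt (hXi.lift _ _ w2) x, ?_⟩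
  rw [Points.map_ofPt, hXi.lift_snd, ofPt_comp]

/-- The diagonal of a universally injective morphism is surjective on points. -/
theorem surjective_diagonal_of_univInjective' {X Y : Sp S} {f : X ⟶ Y} (hi : IsUnivInjectiveMor f) :
    IsSurjectiveMor (pullback.diagonal f) := fun z => by
  induction z using Points.ind with
  | h p =>
  let a := p.toHom ≫ pullback.fst f f
  let b := p.toHom ≫ pullback.snd f f
  let x := Points.ofScheme p.pt (IsLocalRing.closedPoint p.K)
  let a' : (yon S).obj p.pt ⟶ pullback f (a ≫ f) := pullback.lift a (𝟙 _) (by simp)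
  let b' : (yon S).obj p.pt ⟶ pullback f (a ≫ f) := pullback.lift b (𝟙 _) (by simp [a, b, pullback.condition])
  have he : Points.map a' x = Points.map b' x :=
    hi (IsAlgSpace.yon_obj p.pt) (a ≫ f) _ _ (IsPullback.of_hasPullback f (a ≫ f)) (by
      show Points.map (pullback.snd f (a ≫ f)) (Points.map a' x) = Points.map (pullback.snd f (a ≫ f)) (Points.map b' x)
      rw [← Points.map_comp, ← Points.map_comp, pullback.lift_snd, pullback.lift_snd])
  obtain ⟨w, hw, -⟩ := exists_point_of_isPullback (IsPullback.of_hasPullback a' b') x x he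
  have e : pullback.fst a' b' = pullback.snd a' b' := by
    simpa [a', b'] using congrArg (· ≫ pullback.snd f (a ≫ f)) (pullback.condition (f := a') (g := b'))
  have e' : pullback.fst a' b' ≫ a = pullback.fst a' b' ≫ b := by
    conv_rhs => rw [e]
    simpa [a', b'] using congrArg (· ≫ pullback.fst f (a ≫ f)) (pullback.condition (f := a') (g := b'))
  refine ⟨Points.map (pullback.fst a' b' ≫ a) w, ?_⟩
  have e'' : (pullback.fst a' b' ≫ a) ≫ pullback.diagonal f = pullback.fst a' b' ≫ p.toHom := by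
    apply pullback.hom_ext
    · simp [a]
    · calc ((pullback.fst a' b' ≫ a) ≫ pullback.diagonal f) ≫ pullback.snd f f
          = pullback.fst a' b' ≫ a := by simp
        _ = pullback.fst a' b' ≫ b := e'
        _ = (pullback.fst a' b' ≫ p.toHom) ≫ pullback.snd f f := (Category.assoc _ _ _).symm
  rw [← Points.map_comp, e'', Points.map_comp, hw, ← Points.ofPt_eq_map_ofScheme, Points.ofPt_toHom]

/-- The diagonal of a morphism locally of finite type of algebraic spaces is locally of finite presentation. -/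
theorem locP_lfp_diagonal {X Y : Sp S} (hX : IsAlgSpace X) (hY : IsAlgSpace Y) {f : X ⟶ Y}
    (hf : LocP @LocallyOfFiniteType f) : LocP @LocallyOfFinitePresentation (pullback.diagonal f) := by
  have sq := IsPullback.of_hasPullback f f
  refine locP_of_comp (P := @LocallyOfFinitePresentation) (Q := @LocallyOfFiniteType)
    (fun h k (hk : LocallyOfFinitePresentation (h ≫ k)) (hk' : LocallyOfFiniteType k) =>
      FlatLocus.locallyOfFinitePresentation_of_comp h k)
    hX (isAlgSpace_of_isPullback hX hY hX sq) hX (by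
      rw [pullback.diagonal_fst]
      exact locP_of_repWith (fun e k (_ : Etale e) (_ : LocallyOfFinitePresentation k) =>
        (inferInstance : LocallyOfFinitePresentation (e ≫ k))) (repWith_iso (P := @LocallyOfFinitePresentation) (𝟙 X)))
    (locP_base_change hX hY hX sq.flip hf)

/-- The diagonal of a morphism out of a quasi-separated space is quasi-compact, quasi-separated and
locally of finite type. -/
theorem repWith_diagonal_qcqs {X Y : Sp S} (hX : IsAlgSpace X) (hXqs : IsQuasiSeparatedSp X) (f : X ⟶ Y) :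
    RepWith (@QuasiCompact ⊓ @QuasiSeparated ⊓ @LocallyOfFiniteType) (pullback.diagonal f) :=
  ⟨AlgSpLoc.representable_diagonal_mor hX f, fun _ _ g fst snd sq =>
    have h := (AlgStB.representable_lft_mono_diagonal hX f).2 g fst snd sq
    haveI : Mono snd.left := h.2
    ⟨⟨(AlgSpDesc.isQuasiSeparatedMor_of_sp hX hXqs f).2 g fst snd sq, inferInstanceAs (QuasiSeparated snd.left)⟩, h.1⟩⟩

end

end Groth.Agent.AlgSpLimit
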