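import Groth.Agent.AlgSpLimit.ClosedLimit

/-!
# Closed immersions into a limit, isomorphic stages, descent of closed immersions
-/

set_option autoImplicit false
set_option backward.isDefEq.respectTransparency false
set_option linter.style.haveILetI false

universe u

open CategoryTheory CategoryTheory.Limits AlgebraicGeometry Opposite

namespace Groth.Agent.AlgSpLimit

open _root_.AlgSp Groth.Agent.AlgSpc

noncomputable section

variable {S : Scheme.{u}}

/-- A section of a separated morphism is a closed immersion. -/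
theorem repWith_section {Y R : Sp S} (s : Y ⟶ R) (p : R ⟶ Y) (h : s ≫ p = 𝟙 Y) (hp : IsSeparatedMor p) :
    RepWith @IsClosedImmersion s := by
  let l : R ⟶ pullback p p := pullback.lift (𝟙 R) (p ≫ s) (by simp [h])
  have w : s ≫ pullback.diagonal p = s ≫ l := by
    apply pullback.hom_ext
    · simp [l]
    · simp [l, reassoc_of% h]
  refine repWith_of_isPullback (f := pullback.diagonal p) (g := l) (fst := s) ⟨⟨w⟩, ⟨PullbackCone.IsLimit.mk w (fun c => c.snd ≫ p) (fun c => ?_) (fun c => ?_) (fun c n hn _ => ?_)⟩⟩ hp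
  · have e1 := congrArg (· ≫ pullback.fst p p) c.condition
    have e2 := congrArg (· ≫ pullback.snd p p) c.condition
    simp [l] at e1 e2
    rw [e2, Category.assoc]
  · have e1 := congrArg (· ≫ pullback.fst p p) c.condition
    have e2 := congrArg (· ≫ pullback.snd p p) c.condition
    simp [l] at e1 e2
    rw [Category.assoc, ← e2, e1]
  · have e1 := congrArg (· ≫ pullback.fst p p) c.condition
    simp [l] at e1
    rw [← e1, ← hn, Category.assoc, h, Category.comp_id]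

/-- A morphism representable by isomorphisms is an isomorphism. -/
theorem isIso_of_repWith {F G : Sp S} {f : F ⟶ G} (h : RepWith (MorphismProperty.isomorphisms Scheme.{u}) f) :
    IsIso f := by
  haveI : Mono f := mono_of_repWith (fun _ _ g (hg : IsIso g) => inferInstance) h
  refine AlgSpLoc.isIso_of_mono_of_sq f fun T g => ?_
  obtain ⟨V, a, b, sq⟩ := exists_sq h.1 g
  have : IsIso b.left := h.2 g a b sq
  exact ⟨V, b, a, inferInstance, inferInstance, inferInstance, sq.w⟩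

variable {I : Type u} [SmallCategory I] [IsCofiltered I]

theorem eventually_closed_into_limit {B : Sp S} (hB : IsAlgSpace B) (D : I ⥤ Sp S)
    (hD : ∀ i, IsAlgSpace (D.obj i)) (t : D ⟶ (Functor.const I).obj B)
    (hDa : ∀ (i j : I) (φ : i ⟶ j), IsAffineMor (D.map φ))
    (c : Cone D) (hc : IsLimit c) (hqc : ∀ i, IsQuasiCompactSp (D.obj i))
    {Y : Sp S} (hY : IsAlgSpace Y) (y : Y ⟶ c.pt) (hy : RepWith @IsClosedImmersion y) (i₁ : I)
    (hYB : LocP @LocallyOfFiniteType (y ≫ c.π.app i₁ ≫ t.app i₁)) :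
    ∃ i₀ : I, ∀ (i : I) (_ : i ⟶ i₀), RepWith @IsClosedImmersion (y ≫ c.π.app i) := by
  have : IsConnected I := IsCofiltered.isConnected I
  let g : (Functor.const I).obj Y ⟶ D :=
    { app := fun i => y ≫ c.π.app i
      naturality := fun i j φ => by
        refine (Category.id_comp _).trans ?_
        rw [Category.assoc, c.w] }
  have haff : ∀ i, RepWith @IsAffineHom (y ≫ c.π.app i) := fun i =>
    repWith_comp (repWith_mono (fun _ _ f (_ : IsClosedImmersion f) => inferInstanceAs (IsAffineHom f)) hy)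
      ((repWith_affineHom_iff _).1 (isAffineMor_π D hDa c hc i))
  have hl : LocP @LocallyOfFiniteType (y ≫ c.π.app i₁) :=
    locP_of_comp (P := @LocallyOfFiniteType) (Q := ⊤)
      (fun h k (_ : LocallyOfFiniteType (h ≫ k)) _ => locallyOfFiniteType_of_comp h k)
      hY (hD i₁) hB (by rw [Category.assoc]; exact hYB) (locP_top _)
  have hl' := AlgSpFormal.repWith_of_locP hY (hD i₁) (haff i₁).1 hl
  obtain ⟨k, -, hk⟩ := eventually_closed g hDa (isLimitConstCone I Y) hc y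
    (fun i => Category.id_comp _) i₁ (hD i₁) (hqc i₁) (fun i => (haff i).1)
    ⟨(haff i₁).1, fun _ _ f fst snd sq =>
      haveI : IsAffineHom snd.left := (haff i₁).2 f fst snd sq
      ⟨⟨inferInstanceAs (QuasiCompact snd.left), inferInstanceAs (QuasiSeparated snd.left)⟩, hl'.2 f fst snd sq⟩⟩
    (fun j φ => repWith_section _ (pullback.fst _ _) (by rw [pullback.lift_fst]; rfl)
      (isSeparatedMor_of_repWith_affineHom (repWith_of_isPullback (IsPullback.of_hasPullback (g.app i₁) (D.map φ)).flip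
        ((repWith_affineHom_iff _).1 (hDa _ _ φ)))))
    hy
  exact ⟨k, hk⟩

theorem eventually_iso_of_closed {B : Sp S} (hB : IsAlgSpace B) (D : I ⥤ Sp S) (hD : ∀ i, IsAlgSpace (D.obj i))
    (t : D ⟶ (Functor.const I).obj B)
    (hDc : ∀ (i j : I) (φ : i ⟶ j), RepWith @IsClosedImmersion (D.map φ))
    (c : Cone D) (hc : IsLimit c)
    (hqc : ∀ i, IsQuasiCompactSp (D.obj i)) (hft : ∀ i, LocP @LocallyOfFiniteType (t.app i)) (i₁ : I)
    (hX : LocP @LocallyOfFinitePresentation (c.π.app i₁ ≫ t.app i₁)) :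
    ∃ i₀ : I, ∀ (i : I) (_ : i ⟶ i₀), IsIso (c.π.app i) := by
  have hDa : ∀ (i j : I) (φ : i ⟶ j), IsAffineMor (D.map φ) := fun i j φ => affine_closed (hDc i j φ)
  have hXa := isAlgSpace_limit D hDa c hc hD
  have hπm : ∀ i, Mono (c.π.app i) := fun i => ⟨fun {Z} a b e => hc.hom_ext fun j => by
    obtain ⟨m, u, v, -⟩ := IsCofilteredOrEmpty.cone_objs i j
    haveI := mono_closed (hDc m i u)
    have : a ≫ c.π.app m = b ≫ c.π.app m := by
      rw [← cancel_mono (D.map u), Category.assoc, Category.assoc, c.w]; exact e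
    rw [← c.w v, reassoc_of% this]⟩
  have ha := (repWith_affineHom_iff _).1 (isAffineMor_π D hDa c hc i₁)
  have hl : LocP @LocallyOfFinitePresentation (c.π.app i₁) :=
    locP_of_comp (P := @LocallyOfFinitePresentation) (Q := @LocallyOfFiniteType)
      (fun h k (_ : LocallyOfFinitePresentation (h ≫ k)) (_ : LocallyOfFiniteType k) =>
        FlatLocus.locallyOfFinitePresentation_of_comp h k) hXa (hD i₁) hB hX (hft i₁)
  have hl' := AlgSpFormal.repWith_of_locP hXa (hD i₁) ha.1 hl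
  haveI := hπm i₁
  haveI : IsIso (𝟙 c.pt) := IsIso.id _
  obtain ⟨i, φ, h⟩ := descend_repWith D hDa c hc LimSch.descends_isomorphisms (hD i₁) (c.π.app i₁) (𝟙 _) (hqc i₁)
    ⟨ha.1, fun _ _ f fst snd sq =>
      haveI : IsAffineHom snd.left := ha.2 f fst snd sq
      ⟨⟨inferInstanceAs (QuasiCompact snd.left), inferInstanceAs (QuasiSeparated snd.left)⟩, hl'.2 f fst snd sq⟩⟩
    (IsPullback.of_vert_isIso ⟨by simp⟩ : IsPullback (c.π.app i₁) (𝟙 c.pt) (𝟙 (D.obj i₁)) (c.π.app i₁))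
    (IsKernelPair.id_of_mono (c.π.app i₁)) (repWith_iso (𝟙 c.pt))
  refine ⟨i, fun k η => ?_⟩
  haveI := mono_closed (hDc k i₁ (η ≫ φ))
  have hw : 𝟙 c.pt ≫ c.π.app i₁ = c.π.app k ≫ D.map (η ≫ φ) := by rw [Category.id_comp, c.w]
  exact isIso_of_repWith (h k η c.pt (D.obj k) (c.π.app k) (D.map (η ≫ φ)) (𝟙 _) (IsPullback.of_vert_isIso ⟨by simp⟩) (𝟙 _)
    ⟨⟨hw⟩, ⟨PullbackCone.IsLimit.mk hw (fun s => s.fst) (fun s => Category.comp_id _)
      (fun s => by rw [← cancel_mono (D.map (η ≫ φ)), Category.assoc, c.w, s.condition])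
      fun s n h₁ _ => by simpa using h₁⟩⟩)

theorem descend_closed [QuasiSeparatedSpace ↥S] (D : I ⥤ Sp S) (hD : ∀ i, IsAlgSpace (D.obj i))
    (hDa : ∀ (i j : I) (φ : i ⟶ j), IsAffineMor (D.map φ))
    (c : Cone D) (hc : IsLimit c) (i₀ : I)
    (X₀ Y₀ : Space S) (f₀ : X₀.obj ⟶ Y₀.obj) (b₀ : Y₀.obj ⟶ D.obj i₀)
    (hXqc : IsQuasiCompactSp X₀.obj) (hXqs : IsQuasiSeparatedSp X₀.obj)
    (hYqc : IsQuasiCompactSp Y₀.obj) (hYqs : IsQuasiSeparatedSp Y₀.obj)
    (X Y : Sp S) (f : X ⟶ Y) (pY : Y ⟶ Y₀.obj) (qY : Y ⟶ c.pt)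
    (hY : IsPullback pY qY b₀ (c.π.app i₀)) (pX : X ⟶ X₀.obj) (hX : IsPullback pX f f₀ pY)
    (hf : RepWith @IsClosedImmersion f) (hf₀ : LocP @LocallyOfFiniteType f₀) :
    ∃ (i : I) (φ : i ⟶ i₀), ∀ (Xi Yi : Sp S) (fi : Xi ⟶ Yi) (pYi : Yi ⟶ Y₀.obj) (qYi : Yi ⟶ D.obj i)
      (_ : IsPullback pYi qYi b₀ (D.map φ)) (pXi : Xi ⟶ X₀.obj) (_ : IsPullback pXi fi f₀ pYi),
      RepWith @IsClosedImmersion fi := by
  haveI := mono_closed hf
  have sP := IsPullback.of_hasPullback f₀ f₀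
  have hP := isAlgSpace_of_isPullback X₀.property Y₀.property X₀.property sP
  obtain ⟨hPc, -⟩ := AlgSpDesc.qcqs_pullback X₀.property Y₀.property X₀.property sP hXqc hXqs hYqs hXqc hXqs
  have hd := repWith_diagonal_qcqs X₀.property hXqs f₀
  have hl := AlgSpFormal.repWith_of_locP X₀.property hP hd.1 (locP_lfp_diagonal X₀.property Y₀.property hf₀)
  obtain ⟨i₁, φ₁, h₁⟩ := descend_repWith D hDa c hc LimSch.descends_isomorphisms hP (pullback.diagonal f₀)
    (pullback.fst f₀ f₀ ≫ f₀ ≫ b₀) hPc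
    ⟨hd.1, fun _ _ g fst snd sq => ⟨(hd.2 g fst snd sq).1, hl.2 g fst snd sq⟩⟩
    (isPullback_map_self hY hX) (AlgSpLoc.isPullback_diagonal hX) (repWith_iso (pullback.diagonal f))
  -- the first stage
  let Y₁ := pullback b₀ (D.map φ₁)
  have sY : IsPullback (pullback.fst b₀ (D.map φ₁)) (pullback.snd b₀ (D.map φ₁)) b₀ (D.map φ₁) :=
    IsPullback.of_hasPullback _ _
  let X₁ := pullback f₀ (pullback.fst b₀ (D.map φ₁))
  let f₁ : X₁ ⟶ Y₁ := pullback.snd _ _
  have sX : IsPullback (pullback.fst f₀ (pullback.fst b₀ (D.map φ₁))) f₁ f₀ (pullback.fst b₀ (D.map φ₁)) :=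
    IsPullback.of_hasPullback _ _
  have hY₁ : IsAlgSpace Y₁ := isAlgSpace_of_isPullback Y₀.property (hD i₀) (hD i₁) sY
  have hX₁ : IsAlgSpace X₁ := isAlgSpace_of_isPullback X₀.property Y₀.property hY₁ sX
  have hpa : RepWith @IsAffineHom (pullback.fst b₀ (D.map φ₁)) :=
    repWith_of_isPullback sY.flip ((repWith_affineHom_iff _).1 (hDa _ _ φ₁))
  have hY₁c : IsQuasiCompactSp Y₁ :=
    isQuasiCompactMor_of_repWith (repWith_mono (fun _ _ g (_ : IsAffineHom g) => inferInstanceAs (QuasiCompact g)) hpa)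
      Y₀.property hYqc (𝟙 _) (𝟙 Y₁) (pullback.fst b₀ (D.map φ₁)) (IsPullback.of_horiz_isIso ⟨by simp⟩)
  have hY₁s : IsQuasiSeparatedSp Y₁ := by
    obtain ⟨q⟩ := AlgSpDesc.exists_toBase Y₀.property
    refine (repWith_diag_iff_base (pullback.fst b₀ (D.map φ₁) ≫ q)).2 (repWith_diagonal_comp ?_
      (AlgSpDesc.isQuasiSeparatedMor_of_sp Y₀.property hYqs q))
    exact repWith_mono (fun _ _ g (hg : IsClosedImmersion g) => inferInstanceAs (QuasiCompact g))
      (isSeparatedMor_of_repWith_affineHom hpa)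
  have hpX : RepWith @IsAffineHom (pullback.fst f₀ (pullback.fst b₀ (D.map φ₁))) :=
    repWith_of_isPullback sX.flip hpa
  have hX₁c : IsQuasiCompactSp X₁ :=
    isQuasiCompactMor_of_repWith (repWith_mono (fun _ _ g (_ : IsAffineHom g) => inferInstanceAs (QuasiCompact g)) hpX)
      X₀.property hXqc (𝟙 _) (𝟙 X₁) (pullback.fst f₀ (pullback.fst b₀ (D.map φ₁))) (IsPullback.of_horiz_isIso ⟨by simp⟩)
  have : Mono f₁ := (AlgSpLoc.mono_iff_diagonal hX₁ f₁).2 (h₁ i₁ (𝟙 i₁) _ _ (pullback.diagonal f₁) _ _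
    (by rw [Category.id_comp]; exact isPullback_map_self sY sX) _ (AlgSpLoc.isPullback_diagonal sX))
  have hl₁ : LocP @LocallyOfFiniteType f₁ := locP_base_change X₀.property Y₀.property hY₁ sX hf₀
  have hr := (AlgSpFormal.mono_lft_props hX₁ hY₁ hl₁).1
  have hq := (repWith_quasiCompact_iff hr).2 (AlgSpDesc.isQuasiCompactMor_of_qc_qs hX₁ hY₁ hX₁c hY₁s f₁)
  have hlr := AlgSpFormal.repWith_of_locP hX₁ hY₁ hr hl₁
  have h₀ : RepWith (@QuasiCompact ⊓ @QuasiSeparated ⊓ @LocallyOfFiniteType) f₁ := by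
    refine ⟨hr, fun T W g fst snd sq => ⟨⟨hq.2 g fst snd sq, ?_⟩, hlr.2 g fst snd sq⟩⟩
    haveI : Mono ((yon S).map snd) := sq.mono_snd_of_mono
    haveI : Mono snd := (yon S).mono_of_mono_map ‹_›
    haveI : Mono snd.left := inferInstanceAs (Mono ((Over.forget S).map snd))
    exact inferInstanceAs (QuasiSeparated snd.left)
  let lY : Y ⟶ Y₁ := sY.lift pY (qY ≫ c.π.app i₁) (by rw [Category.assoc, c.w]; exact hY.w)
  have hY' : IsPullback lY qY (pullback.snd b₀ (D.map φ₁)) (c.π.app i₁) :=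
    IsPullback.of_right (by rw [sY.lift_fst, c.w]; exact hY) (sY.lift_snd _ _ _) sY
  let lX : X ⟶ X₁ := sX.lift pX (f ≫ lY) (by rw [Category.assoc, sY.lift_fst]; exact hX.w)
  have hX' : IsPullback lX f f₁ lY :=
    IsPullback.of_right (by rw [sX.lift_fst, sY.lift_fst]; exact hX) (sX.lift_snd _ _ _) sX
  obtain ⟨i, φ, h⟩ := descend_repWith D hDa c hc LimSch.descends_isClosedImmersion hY₁ f₁
    (pullback.snd b₀ (D.map φ₁)) hY₁c h₀ hY' hX' hf
  refine ⟨i, φ ≫ φ₁, fun Xi Yi fi pYi qYi hYi pXi hXi => ?_⟩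
  let mY : Yi ⟶ Y₁ := sY.lift pYi (qYi ≫ D.map φ) (by rw [Category.assoc, ← D.map_comp]; exact hYi.w)
  have hYi' : IsPullback mY qYi (pullback.snd b₀ (D.map φ₁)) (D.map φ) :=
    IsPullback.of_right (by rw [sY.lift_fst, ← D.map_comp]; exact hYi) (sY.lift_snd _ _ _) sY
  let mX : Xi ⟶ X₁ := sX.lift pXi (fi ≫ mY) (by rw [Category.assoc, sY.lift_fst]; exact hXi.w)
  have hXi' : IsPullback mX fi f₁ mY :=
    IsPullback.of_right (by rw [sX.lift_fst, sY.lift_fst]; exact hXi) (sX.lift_snd _ _ _) sX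
  exact h i (𝟙 i) Xi Yi fi mY qYi (by rw [Category.id_comp]; exact hYi') mX hXi'

end

end Groth.Agent.AlgSpLimit
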