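import Groth.Agent.AlgSpLimit.Presheaf
import Groth.Agent.LimSch.DescendsFlat
import Groth.Agent.LimSch.DescendCover
import Groth.Prelude.Def_QuotSh
import Mathlib.AlgebraicGeometry.Sites.Fpqc
import Mathlib.AlgebraicGeometry.Sites.Etale

/-!
# Coverings of limits of affine schemes over `S`
-/

set_option autoImplicit false
set_option backward.isDefEq.respectTransparency false

universe u

open CategoryTheory CategoryTheory.Limits AlgebraicGeometry Opposite

namespace Groth.Agent.AlgSpLimit

noncomputable section

variable {S : Scheme.{u}}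

theorem isPullback_over_left {P X Y Z : Over S} {fst : P ⟶ X} {snd : P ⟶ Y} {f : X ⟶ Z} {g : Y ⟶ Z}
    (h : IsPullback fst snd f g) : IsPullback fst.left snd.left f.left g.left :=
  h.map (Over.forget S)

/-! ### Base change of a system -/

section Sys

variable {I : Type u} [SmallCategory I] (D : I ⥤ Over S) (c : Cone D) {i : I} {W : Over S}
  (w : W ⟶ D.obj i)

/-- The system `j ↦ D_j ×_{D_i} W`. -/
def sys : Over i ⥤ Over S where
  obj l := pullback (D.map l.hom) w
  map {l m} t := pullback.lift (pullback.fst _ _ ≫ D.map t.left) (pullback.snd _ _)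
    (by rw [Category.assoc, ← D.map_comp, Over.w t, pullback.condition])
  map_id l := by apply pullback.hom_ext <;> simp
  map_comp t t' := by apply pullback.hom_ext <;> simp

/-- The projection to the original system. -/
def sysFst : sys D w ⟶ Over.forget i ⋙ D where
  app l := pullback.fst (D.map l.hom) w
  naturality _ _ _ := pullback.lift_fst _ _ _

/-- The projection to `W`. -/
def sysSnd (l : Over i) : (sys D w).obj l ⟶ W := pullback.snd (D.map l.hom) w

theorem sysSnd_w (l : Over i) : (sysFst D w).app l ≫ D.map l.hom = sysSnd D w l ≫ w :=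
  pullback.condition

theorem sys_map_fst {l m : Over i} (t : l ⟶ m) :
    (sys D w).map t ≫ (sysFst D w).app m = (sysFst D w).app l ≫ D.map t.left :=
  pullback.lift_fst _ _ _

theorem sys_map_snd {l m : Over i} (t : l ⟶ m) :
    (sys D w).map t ≫ sysSnd D w m = sysSnd D w l :=
  pullback.lift_snd _ _ _

theorem isPullback_sys (l : Over i) :
    IsPullback ((sysFst D w).app l) (sysSnd D w l) (D.map l.hom) w :=
  IsPullback.of_hasPullback _ _

/-- The cone with point `T ×_{D_i} W`. -/
def sysCone : Cone (sys D w) where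
  pt := pullback (c.π.app i) w
  π :=
  { app := fun l => pullback.lift (pullback.fst _ _ ≫ c.π.app l.left) (pullback.snd _ _)
      (by rw [Category.assoc, c.w]; exact pullback.condition)
    naturality := fun l m t => by
      simp only [Functor.const_obj_obj, Functor.const_obj_map, Category.id_comp]
      apply pullback.hom_ext
      · simp [sys]
      · simp [sys] }

/-- The projection of the limit of the base change to the limit. -/
def conePr : (sysCone D c w).pt ⟶ c.pt := pullback.fst (c.π.app i) w

/-- The projection of the limit of the base change to `W`. -/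
def coneSnd : (sysCone D c w).pt ⟶ W := pullback.snd (c.π.app i) w

theorem isPullback_sysCone : IsPullback (conePr D c w) (coneSnd D c w) (c.π.app i) w :=
  IsPullback.of_hasPullback _ _

theorem sysCone_π_fst (l : Over i) :
    (sysCone D c w).π.app l ≫ (sysFst D w).app l = conePr D c w ≫ c.π.app l.left :=
  pullback.lift_fst _ _ _

theorem sysCone_π_snd (l : Over i) :
    (sysCone D c w).π.app l ≫ sysSnd D w l = coneSnd D c w :=
  pullback.lift_snd _ _ _

/-- The base change of a limit is a limit. -/
def isLimitSysCone [IsCofiltered I] (hc : IsLimit ((Over.forget S).mapCone c)) :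
    IsLimit ((Over.forget S).mapCone (sysCone D c w)) :=
  have : IsConnected (Over i) := isConnected_of_hasTerminal _
  isLimitOfIsPullbackOfIsConnected (Functor.whiskerRight (sysFst D w) (Over.forget S)) _ _
    (by exact { hom := (conePr D c w).left,
                w := fun l => (congrArg CommaMorphism.left (sysCone_π_fst D c w l)).symm })
    (fun l => by
      refine isPullback_over_left (IsPullback.of_right (h₁₂ := sysSnd D w l) (h₂₂ := D.map l.hom)
        (v₁₃ := w) ?_ (sysCone_π_fst D c w l) (isPullback_sys D w l).flip)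
      show IsPullback ((sysCone D c w).π.app l ≫ sysSnd D w l) (conePr D c w) w
        (c.π.app l.left ≫ D.map l.hom)
      rw [sysCone_π_snd, c.w]
      exact (isPullback_sysCone D c w).flip)
    ((Functor.Initial.isLimitWhiskerEquiv (Over.forget i) _).symm hc)

variable [IsAffine W.left]

theorem isAffine_sys (hD : ∀ j, IsAffine (D.obj j).left) (l : Over i) :
    IsAffine ((sys D w).obj l).left :=
  have := hD i
  have : IsAffine ((Over.forget i ⋙ D).obj l).left := hD l.left
  IsAffine.of_isPullback (isPullback_over_left (isPullback_sys D w l))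

theorem isAffine_sysCone (hD : ∀ j, IsAffine (D.obj j).left) (hT : IsAffine c.pt.left) :
    IsAffine (sysCone D c w).pt.left :=
  have := hD i
  IsAffine.of_isPullback (isPullback_over_left (isPullback_sysCone D c w))

end Sys

/-- A common refinement of finitely many stages over `i`. -/
theorem exists_common_stage {I : Type u} [SmallCategory I] [IsCofiltered I] {i : I} {ι : Type u}
    [Finite ι] (l : ι → Over i) : ∃ (m : Over i), ∀ k, Nonempty (m ⟶ l k) := by
  classical
  have := Fintype.ofFinite ι
  obtain ⟨m, hm⟩ := IsCofiltered.inf_objs_exists (Finset.univ.image l)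
  exact ⟨m, fun k => hm (Finset.mem_image_of_mem l (Finset.mem_univ k))⟩

/-! ### Coverings -/

/-- The topology on schemes over `S` defined by a property of morphisms. -/
abbrev TopP (P : MorphismProperty Scheme.{u}) (S : Scheme.{u}) : GrothendieckTopology (Over S) :=
  QuotSh.J (Scheme.precoverage P) S

/-- Properties of coverings which descend along limits of affine schemes. -/
class IsDescendingCover (P : MorphismProperty Scheme.{u}) : Prop where
  lfp : ∀ {X Y : Scheme.{u}} (f : X ⟶ Y), P f → LocallyOfFinitePresentation f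
  isOpenMap : ∀ {X Y : Scheme.{u}} (f : X ⟶ Y), P f → IsOpenMap ⇑f
  of_isOpenImmersion : ∀ {X Y : Scheme.{u}} (f : X ⟶ Y), IsOpenImmersion f → P f
  descends : LimSch.Descends.{u} P @LocallyOfFinitePresentation

instance : IsDescendingCover (@Flat ⊓ @LocallyOfFinitePresentation : MorphismProperty Scheme.{u}) where
  lfp _ h := h.2
  isOpenMap f h := by
    have : Flat f := h.1
    have : LocallyOfFinitePresentation f := h.2
    exact f.isOpenMap
  of_isOpenImmersion f _ := ⟨inferInstance, inferInstance⟩
  descends := fun D c hc _ i _ _ f₀ _ _ h X q f sq hf => by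
    obtain ⟨j, φ, hj⟩ := LimSch.descends_flat D c hc i f₀ h q f sq hf.1
    exact ⟨j, φ, hj, MorphismProperty.pullback_snd _ _ h⟩

instance : IsDescendingCover (@Etale : MorphismProperty Scheme.{u}) where
  lfp _ h := inferInstance
  isOpenMap f h := f.isOpenMap
  of_isOpenImmersion f _ := inferInstance
  descends := LimSch.descendsAff_etale.descends

section Cover

variable (P : MorphismProperty Scheme.{u}) [P.IsStableUnderBaseChange] [P.IsMultiplicative]
  [IsDescendingCover P]

/-- A finite affine covering family. -/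
structure IsAffCover {T : Over S} {ι : Type u} (U : ι → Over S) (v : ∀ k, U k ⟶ T) : Prop where
  finite : Finite ι
  affine : ∀ k, IsAffine (U k).left
  prop : ∀ k, P (v k).left
  surj : ∀ t : ↥T.left, ∃ k, t ∈ Set.range (v k).left

/-- A covering family generates a covering sieve. -/
theorem mem_topP_of_family {T : Over S} {ι : Type u} {U : ι → Over S} {v : ∀ k, U k ⟶ T}
    (hP : ∀ k, P (v k).left) (hs : ∀ t : ↥T.left, ∃ k, t ∈ Set.range (v k).left) :
    Sieve.ofArrows U v ∈ TopP P S T := by
  rw [GrothendieckTopology.mem_over_iff]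
  refine GrothendieckTopology.superset_covering _ ?_ (Precoverage.generate_mem_toGrothendieck
    ((Scheme.ofArrows_mem_precoverage_iff (P := P) (f := fun k => (v k).left)).mpr ⟨hs, hP⟩))
  rw [Sieve.generate_le_iff]
  rintro Z g ⟨k⟩
  rw [Sieve.overEquiv_iff]
  have h : Sieve.ofArrows U v
      ((Over.homMk (𝟙 (U k).left) (by simp) : Over.mk ((v k).left ≫ T.hom) ⟶ U k) ≫ v k) :=
    (Sieve.ofArrows U v).downward_closed (Sieve.ofArrows_mk U v k) _
  convert! h

/-- Covering sieves of affine schemes contain finite affine coverings. -/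
theorem exists_affCover {T : Over S} [CompactSpace ↥T.left] {R : Sieve T} (hR : R ∈ TopP P S T) :
    ∃ (ι : Type u) (U : ι → Over S) (v : ∀ k, U k ⟶ T), IsAffCover P U v ∧ ∀ k, R.arrows (v k) := by
  classical
  rw [GrothendieckTopology.mem_over_iff, Precoverage.mem_toGrothendieck_iff_of_isStableUnderComposition] at hR
  obtain ⟨R₀, hR₀, hle⟩ := hR
  rw [Precoverage.mem_iff_exists_zeroHypercover] at hR₀
  obtain ⟨𝒰, rfl⟩ := hR₀
  obtain ⟨h1, h2⟩ := (Scheme.ofArrows_mem_precoverage_iff _).mp 𝒰.mem₀
  choose a y hy using h1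
  have hV : ∀ t : ↥T.left, ∃ V : (𝒰.X (a t)).Opens, IsAffineOpen V ∧ y t ∈ V := fun t => by
    obtain ⟨V, hV, hxV, -⟩ := exists_isAffineOpen_mem_and_subset (X := 𝒰.X (a t)) (x := y t) (U := ⊤) trivial
    exact ⟨V, hV, hxV⟩
  choose V hV hyV using hV
  obtain ⟨s, hs⟩ := isCompact_univ.elim_finite_subcover (fun t => ⇑(𝒰.f (a t)) '' (V t : Set (𝒰.X (a t))))
    (fun t => IsDescendingCover.isOpenMap _ (h2 (a t)) _ (V t).isOpen)
    (fun t _ => Set.mem_iUnion.mpr ⟨t, y t, hyV t, hy t⟩)
  refine ⟨s, fun t => Over.mk (((V t.1).ι ≫ 𝒰.f (a t.1)) ≫ T.hom), fun t => Over.homMk ((V t.1).ι ≫ 𝒰.f (a t.1)) rfl,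
    ⟨inferInstance, fun t => hV t.1, fun t => ?_, fun x => ?_⟩, fun t => ?_⟩
  · exact P.comp_mem _ _ (IsDescendingCover.of_isOpenImmersion _ inferInstance) (h2 (a t.1))
  · obtain ⟨t, hts, z, hz, rfl⟩ := Set.mem_iUnion₂.mp (hs (Set.mem_univ x))
    exact ⟨⟨t, hts⟩, ⟨z, hz⟩, rfl⟩
  · have h := (Sieve.overEquiv_iff R _).1 (hle _ _ (Presieve.ofArrows.mk (a t.1)))
    have h' := R.downward_closed h (Over.homMk (V t.1).ι (by simp) :
      Over.mk (((V t.1).ι ≫ 𝒰.f (a t.1)) ≫ T.hom) ⟶ Over.mk (𝒰.f (a t.1) ≫ T.hom))
    convert! h'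

variable {I : Type u} [SmallCategory I] [IsCofiltered I] (D : I ⥤ Over S) (c : Cone D)

/-- Coverings of a limit of affine schemes come from a stage. -/
theorem exists_affCover_stage (hc : IsLimit ((Over.forget S).mapCone c))
    (hD : ∀ j, IsAffine (D.obj j).left) (hT : IsAffine c.pt.left) (i : I) {R : Sieve c.pt}
    (hR : R ∈ TopP P S c.pt) :
    ∃ (j : I) (_ : j ⟶ i) (ι : Type u) (V : ι → Over S) (v : ∀ k, V k ⟶ D.obj j),
      IsAffCover P V v ∧ ∀ k, R.arrows (conePr D c (v k)) := by
  classical
  obtain ⟨κ, U, u, hu, hRu⟩ := exists_affCover P hR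
  let D' : Over i ⥤ Scheme.{u} := Over.forget i ⋙ D ⋙ Over.forget S
  let c' : Cone D' := ((Over.forget S).mapCone c).whisker (Over.forget i)
  have hc' : IsLimit c' := (Functor.Initial.isLimitWhiskerEquiv (Over.forget i) _).symm hc
  have haff : ∀ l, IsAffine (D'.obj l) := fun l => hD l.left
  have : ∀ (l m : Over i) (t : l ⟶ m), IsAffineHom (D'.map t) := fun l m t => by
    have := haff l; have := haff m; infer_instance
  have := haff (Over.mk (𝟙 i))
  have : IsAffine c'.pt := hT
  have : ∀ k, IsAffine (U k).left := hu.affine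
  have : ∀ k, LocallyOfFinitePresentation (u k).left := fun k => IsDescendingCover.lfp _ (hu.prop k)
  have : ∀ k, QuasiCompact (u k).left := fun k => inferInstance
  have : ∀ k, QuasiSeparated (u k).left := fun k => inferInstance
  obtain ⟨l, n, V, v, a, e, hv, hcov, hsq⟩ := LimSch.exists_cover_stage P IsDescendingCover.descends
    (fun f _ h => IsDescendingCover.isOpenMap f h) D' c' hc' (Over.mk (𝟙 i)) (fun k => (U k).left)
    (fun k => (u k).left) hu.prop (fun x => by obtain ⟨k, z, hz⟩ := hu.surj x; exact ⟨k, z, hz⟩)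
  have := haff l
  have : ∀ j, CompactSpace ↥(V j) := fun j =>
    have := (hv j).2.2.1
    QuasiCompact.compactSpace_of_compactSpace (v j)
  let W : (Σ j : Fin n, ((V j).affineCover.finiteSubcover).I₀) → Scheme.{u} := fun p =>
    ((V p.1).affineCover.finiteSubcover).X p.2
  let o : ∀ p, W p ⟶ V p.1 := fun p => ((V p.1).affineCover.finiteSubcover).f p.2
  refine ⟨l.left, l.hom, ULift.{u} (Σ j : Fin n, ((V j).affineCover.finiteSubcover).I₀),
    fun p => Over.mk ((o p.down ≫ v p.down.1) ≫ (D.obj l.left).hom),
    fun p => Over.homMk (o p.down ≫ v p.down.1) rfl, ⟨inferInstance, fun p => ?_, fun p => ?_, fun x => ?_⟩,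
    fun p => ?_⟩
  · show IsAffine (W p.down)
    dsimp [W]
    infer_instance
  · exact P.comp_mem _ _ (IsDescendingCover.of_isOpenImmersion _ (by dsimp [o]; infer_instance)) (hv _).1
  · obtain ⟨j, y, rfl⟩ := hcov x
    obtain ⟨z, hz⟩ := ((V j).affineCover.finiteSubcover).covers y
    exact ⟨⟨⟨j, _⟩⟩, z, congrArg (v j) hz⟩
  · let vp : Over.mk ((o p.down ≫ v p.down.1) ≫ (D.obj l.left).hom) ⟶ D.obj l.left :=
      Over.homMk (o p.down ≫ v p.down.1) rfl
    have hp := isPullback_over_left (isPullback_sysCone D c vp)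
    let g : (sysCone D c vp).pt.left ⟶ (U (a p.down.1)).left :=
      (hsq p.down.1).lift ((coneSnd D c vp).left ≫ o p.down) (conePr D c vp).left
        ((Category.assoc _ _ _).trans hp.w.symm)
    have hg : g ≫ (u (a p.down.1)).left = (conePr D c vp).left := (hsq p.down.1).lift_snd _ _ _
    have h := R.downward_closed (hRu (a p.down.1)) (Over.homMk g (by
      rw [← Over.w (u (a p.down.1)), reassoc_of% hg, Over.w]) : (sysCone D c vp).pt ⟶ U (a p.down.1))
    convert! h
    exact Over.OverMorphism.ext hg.symm

end Cover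

end

end Groth.Agent.AlgSpLimit
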