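import Groth.Agent.AlgSpLimit.Basic
import Groth.Agent.AlgSpc.Compact
import Groth.Agent.AlgSpc.LocP
import Groth.Agent.LimSch.DescendsCores
import Groth.Agent.AlgSpLimit.LocalSys

/-!
# Properties local for the etale topology descend along limits of algebraic spaces
-/

set_option autoImplicit false
set_option backward.isDefEq.respectTransparency false
set_option linter.style.haveILetI false

universe u

open CategoryTheory CategoryTheory.Limits AlgebraicGeometry Opposite

namespace Groth.Agent.AlgSpLimit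

open _root_.AlgSp Groth.Agent.AlgSpc

noncomputable section

variable {S : Scheme.{u}}

/-- A quasi-compact space has an affine chart over any chart. -/
theorem exists_affine_chart {F : Sp S} {U : Over S} {p : (yon S).obj U ⟶ F}
    (hp : RepWith @Etale p) (hs : RepWith @Surjective p) [CompactSpace (Points F)] :
    ∃ (W : Over S) (k : W ⟶ U), IsAffine W.left ∧ Etale k.left ∧
      RepWith @Etale ((yon S).map k ≫ p) ∧ RepWith @Surjective ((yon S).map k ≫ p) := by
  have hopen : ∀ i : U.left.affineOpens,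
      IsOpen (Points.ofPt p '' (i.1 : Set U.left)) := fun i => isOpenMap_ofPt hp _ i.1.2
  have hcov : (Set.univ : Set (Points F)) ⊆ ⋃ i : U.left.affineOpens, Points.ofPt p '' (i.1 : Set U.left) := by
    intro x _
    obtain ⟨u, rfl⟩ := surjective_ofPt hs x
    obtain ⟨V, hV, hu, -⟩ := exists_isAffineOpen_mem_and_subset (show u ∈ (⊤ : U.left.Opens) from trivial)
    exact Set.mem_iUnion.2 ⟨⟨V, hV⟩, u, hu, rfl⟩
  obtain ⟨t, ht⟩ := isCompact_univ.elim_finite_subcover _ hopen hcov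
  let g : t → Scheme.{u} := fun i => i.1.1
  have : ∀ i, IsAffine (g i) := fun i => i.1.2
  let φ : (∐ g) ⟶ U.left := Sigma.desc fun i => i.1.1.ι
  have hφ : Etale φ := by
    refine IsZariskiLocalAtSource.of_openCover (P := @Etale) (sigmaOpenCover g) fun i => ?_
    change Etale (Sigma.ι g i ≫ φ)
    rw [Sigma.ι_desc]
    infer_instance
  let W : Over S := Over.mk (φ ≫ U.hom)
  let k : W ⟶ U := Over.homMk φ rfl
  have hk : RepWith @Etale ((yon S).map k ≫ p) :=
    repWith_comp ((repWith_yon_map_iff _ k).2 hφ) hp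
  refine ⟨W, k, inferInstanceAs (IsAffine (∐ g)), hφ, hk, (surjective_ofPt_iff hk.1).2 fun x => ?_⟩
  obtain ⟨i, hi, u, hu, rfl⟩ : ∃ i ∈ t, ∃ u ∈ (i.1 : Set U.left), Points.ofPt p u = x := by
    simpa [Set.mem_iUnion] using ht (Set.mem_univ x)
  refine ⟨Sigma.ι g ⟨i, hi⟩ ⟨u, hu⟩, (ofPt_comp k p _).trans ?_⟩
  congr 1
  change φ (Sigma.ι g ⟨i, hi⟩ ⟨u, hu⟩) = u
  rw [← Scheme.Hom.comp_apply, Sigma.ι_desc]
  rfl

/-- A morphism of quasi-compact spaces has a chart by affine schemes. -/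
theorem exists_affine_charts {X Y : Sp S} (hX : IsAlgSpace X) (hY : IsAlgSpace Y) (hXc : IsQuasiCompactSp X)
    (hYc : IsQuasiCompactSp Y) (f : X ⟶ Y) :
    ∃ (U V : Over S) (a : (yon S).obj U ⟶ X) (b : (yon S).obj V ⟶ Y) (h : U ⟶ V), IsAffine U.left ∧ IsAffine V.left ∧
      RepWith @Etale a ∧ RepWith @Surjective a ∧ RepWith @Etale b ∧ RepWith @Surjective b ∧
      a ≫ f = (yon S).map h ≫ b := by
  obtain ⟨V, b, hV, hb, hbs⟩ := (isQuasiCompactSp_iff_affine hY).1 hYc
  obtain ⟨U₀, a₀, h₁, h₂⟩ := hX.atlas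
  obtain ⟨U, a, h, ha, has, w⟩ := exists_chart_over f h₁ h₂ hb hbs
  have := compactSpace_points hXc
  obtain ⟨W, k, hW, -, hk, hks⟩ := exists_affine_chart ha has
  exact ⟨W, V, _, b, k ≫ h, hW, hV, hk, hks, hb, hbs, by rw [Category.assoc, w, Functor.map_comp, Category.assoc]⟩

variable {I : Type u} [SmallCategory I] [IsCofiltered I] (D : I ⥤ Sp S)
  (hDa : ∀ (i j : I) (φ : i ⟶ j), IsAffineMor (D.map φ))
  (c : Cone D) (hc : IsLimit c) {i₀ : I} {W₀ : Over S} (gW : (yon S).obj W₀ ⟶ D.obj i₀)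

include hDa in
omit [IsCofiltered I] in
/-- The base change of the system to an affine scheme over a stage is a system of affine schemes. -/
theorem exists_affine_system (hW₀ : IsAffine W₀.left) :
    ∃ (F : Over i₀ ⥤ Over S) (φ : ∀ j, (yon S).obj (F.obj j) ⟶ D.obj j.left) (ψ : ∀ j, F.obj j ⟶ W₀),
      (∀ j, IsAffine (F.obj j).left) ∧
      (∀ j, IsPullback (φ j) ((yon S).map (ψ j)) (D.map j.hom) gW) ∧
      (∀ {j k : Over i₀} (t : j ⟶ k), (yon S).map (F.map t) ≫ φ k = φ j ≫ D.map t.left) ∧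
      (∀ {j k : Over i₀} (t : j ⟶ k), F.map t ≫ ψ k = ψ j) := by
  choose W w fst sq hW using fun j : Over i₀ => hDa _ _ j.hom hW₀ gW
  have hw : ∀ {j k : Over i₀} (t : j ⟶ k), (fst j ≫ D.map t.left) ≫ D.map k.hom = (yon S).map (w j) ≫ gW := by
    intro j k t
    rw [Category.assoc, ← D.map_comp, Over.w t, (sq j).w]
  let F : Over i₀ ⥤ Over S :=
    { obj := W
      map := fun {j k} t => (yon S).preimage ((sq k).lift _ _ (hw t))
      map_id := fun j => (yon S).map_injective ((sq j).hom_ext (by simp) (by simp))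
      map_comp := fun {j k l} t t' => (yon S).map_injective ((sq l).hom_ext
        (by simp [IsPullback.lift_fst_assoc]) (by simp [IsPullback.lift_snd_assoc])) }
  exact ⟨F, fst, w, hW, sq, fun t => by simp [F], fun t => (yon S).map_injective (by simp [F])⟩

include hc in
/-- The base change of the limit to an affine scheme over a stage is the limit of the affine system. -/
theorem exists_affine_limit' (F : Over i₀ ⥤ Over S) (φ : ∀ j, (yon S).obj (F.obj j) ⟶ D.obj j.left)
    (ψ : ∀ j, F.obj j ⟶ W₀) (hF : ∀ j, IsAffine (F.obj j).left)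
    (hsq : ∀ j, IsPullback (φ j) ((yon S).map (ψ j)) (D.map j.hom) gW)
    (hφ : ∀ {j k : Over i₀} (t : j ⟶ k), (yon S).map (F.map t) ≫ φ k = φ j ≫ D.map t.left)
    (hψ : ∀ {j k : Over i₀} (t : j ⟶ k), F.map t ≫ ψ k = ψ j) :
    ∃ (C : Cone F) (_ : IsLimit ((Over.forget S).mapCone C)) (φ₁ : (yon S).obj C.pt ⟶ c.pt),
      IsPullback φ₁ ((yon S).map (C.π.app (Over.mk (𝟙 i₀)) ≫ ψ (Over.mk (𝟙 i₀)))) (c.π.app i₀) gW ∧
        ∀ j : Over i₀, φ₁ ≫ c.π.app j.left = (yon S).map (C.π.app j) ≫ φ j := by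
  have : IsConnected (Over i₀) := isConnected_of_hasTerminal _
  let G : Over i₀ ⥤ AffineScheme.{u} :=
    { obj := fun j => haveI := hF j; AffineScheme.of (F.obj j).left
      map := fun {j k} t => haveI := hF j; haveI := hF k; AffineScheme.ofHom (F.map t).left
      map_id := fun j => AffineScheme.forgetToScheme.map_injective (by simp [AffineScheme.ofHom]; rfl)
      map_comp := fun t t' => AffineScheme.forgetToScheme.map_injective (by simp [AffineScheme.ofHom]; rfl) }
  have : HasLimit (G ⋙ AffineScheme.forgetToScheme.{u}) :=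
    ⟨⟨⟨_, isLimitOfPreserves AffineScheme.forgetToScheme.{u} (limit.isLimit G)⟩⟩⟩
  have : HasLimit (F ⋙ Over.forget S) :=
    hasLimit_of_iso (F := G ⋙ AffineScheme.forgetToScheme.{u})
      (NatIso.ofComponents (fun j => Iso.refl _) (fun t => by simp [G, AffineScheme.ofHom]))
  have : HasLimit F := hasLimit_of_created F (Over.forget S)
  let C := limit.cone F
  let hC' : IsLimit ((Over.forget S).mapCone C) := isLimitOfPreserves (Over.forget S) (limit.isLimit F)
  let hCy : IsLimit ((yon S).mapCone C) := isLimitOfPreserves (yon S) (limit.isLimit F)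
  let top : Over i₀ := Over.mk (𝟙 i₀)
  let ψ₁ : C.pt ⟶ W₀ := C.π.app top ≫ ψ top
  have hψ₁ : ∀ j, C.π.app j ≫ ψ j = ψ₁ := fun j => by
    simp only [ψ₁, ← C.w (Over.homMk j.hom (by simp [top]) : j ⟶ top), Category.assoc, hψ]
  -- the map to the limit
  have hcomp : ∀ {i : I} (a b : Over i₀) (u : a.left ⟶ i) (v : b.left ⟶ i),
      ∃ (m : Over i₀) (ta : m ⟶ a) (tb : m ⟶ b), ta.left ≫ u = tb.left ≫ v := by
    intro i a b u v
    obtain ⟨m, ta, tb, -⟩ := IsCofilteredOrEmpty.cone_objs a b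
    obtain ⟨k, e, he⟩ := IsCofilteredOrEmpty.cone_maps (ta.left ≫ u) (tb.left ≫ v)
    exact ⟨Over.mk (e ≫ m.hom), Over.homMk e ≫ ta, Over.homMk e ≫ tb, by simpa using he⟩
  have hlow : ∀ i : I, ∃ (a : Over i₀), Nonempty (a.left ⟶ i) := fun i => by
    obtain ⟨m, u, v, -⟩ := IsCofilteredOrEmpty.cone_objs i₀ i
    exact ⟨Over.mk u, ⟨v⟩⟩
  choose a ha using hlow
  let comp : ∀ i : I, (yon S).obj C.pt ⟶ D.obj i := fun i =>
    (yon S).map (C.π.app (a i)) ≫ φ (a i) ≫ D.map (ha i).some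
  have hcomp' : ∀ {i : I} (b : Over i₀) (v : b.left ⟶ i),
      (yon S).map (C.π.app b) ≫ φ b ≫ D.map v = comp i := by
    intro i b v
    obtain ⟨m, ta, tb, he⟩ := hcomp (a i) b (ha i).some v
    simp only [comp, ← C.w tb, ← C.w ta, Functor.map_comp, Category.assoc]
    rw [reassoc_of% (hφ tb), reassoc_of% (hφ ta), ← D.map_comp, ← D.map_comp, he]
  let L : Cone D :=
    { pt := (yon S).obj C.pt
      π := { app := comp
             naturality := fun i i' v => by
              simp only [Functor.const_obj_map, Category.id_comp]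
              rw [← hcomp' (a i) ((ha i).some ≫ v), D.map_comp]
              simp [comp] } }
  let φ₁ : (yon S).obj C.pt ⟶ c.pt := hc.lift L
  have hφ₁ : ∀ b : Over i₀, φ₁ ≫ c.π.app b.left = (yon S).map (C.π.app b) ≫ φ b := fun b => by
    rw [hc.fac, show L.π.app b.left = comp b.left from rfl, ← hcomp' b (𝟙 _), D.map_id, Category.comp_id]
  have w₁ : φ₁ ≫ c.π.app i₀ = (yon S).map ψ₁ ≫ gW := by
    have := (hsq top).w
    rw [show D.map top.hom = 𝟙 _ from D.map_id i₀, Category.comp_id] at this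
    show φ₁ ≫ c.π.app top.left = _
    rw [hφ₁ top]
    simp only [ψ₁, Functor.map_comp, Category.assoc, this]
  let sc : PullbackCone (c.π.app i₀) gW → Cone (F ⋙ yon S) := fun s =>
    { pt := s.pt
      π := { app := fun j => (hsq j).lift (s.fst ≫ c.π.app j.left) s.snd
              (by rw [Category.assoc, c.w, s.condition])
             naturality := fun j k t => by
              simp only [Functor.const_obj_map, Functor.comp_map]
              apply (hsq k).hom_ext
              · simp only [Category.assoc]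
                rw [hφ t, IsPullback.lift_fst_assoc, IsPullback.lift_fst, Category.assoc, c.w]
                exact Category.id_comp _
              · simp only [Category.assoc]
                rw [← Functor.map_comp, hψ t, IsPullback.lift_snd, IsPullback.lift_snd]
                exact Category.id_comp _ } }
  have hsc : ∀ s j, hCy.lift (sc s) ≫ (yon S).map (C.π.app j) = (sc s).π.app j := fun s j => hCy.fac (sc s) j
  refine ⟨C, hC', φ₁, IsPullback.of_isLimit' ⟨w₁⟩ (PullbackCone.IsLimit.mk _ (fun s => hCy.lift (sc s)) ?_ ?_ ?_), hφ₁⟩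
  · intro s
    refine hc.hom_ext fun i => ?_
    obtain ⟨v⟩ := ha i
    rw [Category.assoc, ← c.w v, reassoc_of% (hφ₁ (a i)), ← Category.assoc, hsc]
    show (hsq (a i)).lift _ _ _ ≫ _ ≫ _ = _
    rw [IsPullback.lift_fst_assoc]
    exact Category.assoc _ _ _
  · intro s
    rw [Functor.map_comp, ← Category.assoc, hsc]
    exact IsPullback.lift_snd _ _ _ _
  · intro s m hm₁ hm₂
    refine hCy.hom_ext fun j => ?_
    rw [hCy.fac]
    apply (hsq j).hom_ext
    · rw [IsPullback.lift_fst, ← hm₁, Category.assoc, Category.assoc, hφ₁]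
      rfl
    · rw [IsPullback.lift_snd, ← hm₂, Category.assoc]
      show m ≫ (yon S).map (C.π.app j) ≫ _ = m ≫ (yon S).map ψ₁
      rw [← Functor.map_comp, hψ₁]

include hc in
/-- The base change of the limit to an affine scheme over a stage is the limit of the affine system. -/
theorem exists_affine_limit (F : Over i₀ ⥤ Over S) (φ : ∀ j, (yon S).obj (F.obj j) ⟶ D.obj j.left)
    (ψ : ∀ j, F.obj j ⟶ W₀) (hF : ∀ j, IsAffine (F.obj j).left)
    (hsq : ∀ j, IsPullback (φ j) ((yon S).map (ψ j)) (D.map j.hom) gW)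
    (hφ : ∀ {j k : Over i₀} (t : j ⟶ k), (yon S).map (F.map t) ≫ φ k = φ j ≫ D.map t.left)
    (hψ : ∀ {j k : Over i₀} (t : j ⟶ k), F.map t ≫ ψ k = ψ j) :
    ∃ (C : Cone F) (_ : IsLimit ((Over.forget S).mapCone C)) (φ₁ : (yon S).obj C.pt ⟶ c.pt),
      IsPullback φ₁ ((yon S).map (C.π.app (Over.mk (𝟙 i₀)) ≫ ψ (Over.mk (𝟙 i₀)))) (c.π.app i₀) gW := by
  obtain ⟨C, hC, φ₁, h, -⟩ := exists_affine_limit' D c hc gW F φ ψ hF hsq hφ hψ
  exact ⟨C, hC, φ₁, h⟩

/-- Charts of a base change from charts of a morphism. -/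
theorem exists_chart_bc {X₀ Y₀ B B' Xi Yi : Sp S} {f₀ : X₀ ⟶ Y₀} {b₀ : Y₀ ⟶ B} {d : B' ⟶ B}
    {pY : Yi ⟶ Y₀} {qY : Yi ⟶ B'} (hY : IsPullback pY qY b₀ d) {pX : Xi ⟶ X₀} {fi : Xi ⟶ Yi}
    (hX : IsPullback pX fi f₀ pY) {U V W : Over S} {a : (yon S).obj U ⟶ X₀} {b : (yon S).obj V ⟶ Y₀} {h : U ⟶ V}
    (ha : RepWith @Etale a) (has : RepWith @Surjective a) (hb : RepWith @Etale b) (hbs : RepWith @Surjective b)
    (w : a ≫ f₀ = (yon S).map h ≫ b) {φ : (yon S).obj W ⟶ B'} {ψ : W ⟶ V}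
    (hW : IsPullback φ ((yon S).map ψ) d (b ≫ b₀)) :
    ∃ (a' : (yon S).obj (pullback h ψ) ⟶ Xi) (b' : (yon S).obj W ⟶ Yi), RepWith @Etale a' ∧
      RepWith @Surjective a' ∧ RepWith @Etale b' ∧ RepWith @Surjective b' ∧
      a' ≫ fi = (yon S).map (pullback.snd h ψ) ≫ b' := by
  let b' := hY.lift ((yon S).map ψ ≫ b) φ (by rw [Category.assoc]; exact hW.w.symm)
  have sb : IsPullback ((yon S).map ψ) b' b pY :=
    IsPullback.of_bot (by rw [hY.lift_snd]; exact hW.flip) (hY.lift_fst _ _ _).symm hY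
  have sU := (IsPullback.of_hasPullback h ψ).map (yon S)
  have s := sU.paste_vert sb
  rw [← w] at s
  let a' := hX.lift ((yon S).map (pullback.fst h ψ) ≫ a) ((yon S).map (pullback.snd h ψ) ≫ b')
    (by rw [Category.assoc]; exact s.w)
  have sa : IsPullback ((yon S).map (pullback.fst h ψ)) a' a pX :=
    IsPullback.of_bot (by rw [hX.lift_snd]; exact s) (hX.lift_fst _ _ _).symm hX
  exact ⟨a', b', repWith_of_isPullback sa ha, repWith_of_isPullback sa has, repWith_of_isPullback sb hb,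
    repWith_of_isPullback sb hbs, hX.lift_snd _ _ _⟩

include hDa hc in
set_option maxHeartbeats 400000 in
/-- A property of morphisms which is local for the etale topology and descends along limits of affine
schemes descends along limits of algebraic spaces, at all sufficiently large stages. -/
theorem descend_locP_refine {P : MorphismProperty Scheme.{u}} [EtLoc P] [P.IsStableUnderBaseChange]
    (hP : LimSch.DescendsAff.{u} P @LocallyOfFinitePresentation)
    (X₀ Y₀ : Space S) (f₀ : X₀.obj ⟶ Y₀.obj) (b₀ : Y₀.obj ⟶ D.obj i₀)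
    (hXqc : IsQuasiCompactSp X₀.obj) (hYqc : IsQuasiCompactSp Y₀.obj)
    {X Y : Sp S} {f : X ⟶ Y} {pY : Y ⟶ Y₀.obj} {qY : Y ⟶ c.pt}
    (hY : IsPullback pY qY b₀ (c.π.app i₀)) {pX : X ⟶ X₀.obj} (hX : IsPullback pX f f₀ pY)
    (hf : LocP P f) (hf₀ : LocP @LocallyOfFinitePresentation f₀) :
    ∃ (i : I) (φ : i ⟶ i₀), ∀ (k : I) (η : k ⟶ i) (Xi Yi : Sp S) (fi : Xi ⟶ Yi) (pYi : Yi ⟶ Y₀.obj)
      (qYi : Yi ⟶ D.obj k) (_ : IsPullback pYi qYi b₀ (D.map (η ≫ φ))) (pXi : Xi ⟶ X₀.obj) (_ : IsPullback pXi fi f₀ pYi),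
      LocP P fi := by
  obtain ⟨U, V, a, b, h, hU, hV, ha, has, hb, hbs, w⟩ := exists_affine_charts X₀.property Y₀.property hXqc hYqc f₀
  obtain ⟨F, φ, ψ, hF, hsq, hφ, hψ⟩ := exists_affine_system D hDa (b ≫ b₀) hV
  obtain ⟨C, hC, φ₁, hsq₁⟩ := exists_affine_limit D c hc (b ≫ b₀) F φ ψ hF hsq hφ hψ
  let top : Over i₀ := Over.mk (𝟙 i₀)
  have : IsIso (ψ top) := by
    have : IsIso (D.map top.hom) := by
      show IsIso (D.map (𝟙 i₀))
      infer_instance
    have : IsIso ((yon S).map (ψ top)) := (hsq top).isIso_snd_of_isIso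
    exact isIso_of_fully_faithful (yon S) _
  obtain ⟨a₁, b₁, ha₁, -, hb₁, -, w₁⟩ := exists_chart_bc hY hX ha has hb hbs w hsq₁
  have hP₁ := hf a₁ b₁ _ ha₁ hb₁ w₁
  let D' := F ⋙ Over.forget S
  haveI : ∀ j, IsAffine (D'.obj j) := hF
  haveI : ∀ (j k : Over i₀) (t : j ⟶ k), IsAffineHom (D'.map t) := fun j k t => inferInstance
  let h₁ : U.left ⟶ D'.obj top := (h ≫ inv (ψ top)).left
  have hlfp : LocallyOfFinitePresentation h.left := hf₀ a b h ha hb w
  have : IsIso (inv (ψ top)).left := inferInstanceAs (IsIso ((Over.forget S).map (inv (ψ top))))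
  have : LocallyOfFinitePresentation h₁ := by
    show LocallyOfFinitePresentation (h.left ≫ (inv (ψ top)).left)
    infer_instance
  have : IsAffine U.left := hU
  have hsq' : IsPullback (pullback.fst h (C.π.app top ≫ ψ top)).left (pullback.snd h (C.π.app top ≫ ψ top)).left h₁
      (((Over.forget S).mapCone C).π.app top) :=
    isPullback_left (IsPullback.of_iso (IsPullback.of_hasPullback h (C.π.app top ≫ ψ top)) (Iso.refl _) (Iso.refl _)
      (Iso.refl _) (asIso (inv (ψ top))) (by simp) (by simp) (by simp) (by simp))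
  obtain ⟨k, t, hk⟩ := hP D' _ hC top h₁ ‹_› _ _ hsq' hP₁
  refine ⟨k.left, k.hom, fun k' η Xi Yi fi pYi qYi hYi pXi hXi => ?_⟩
  let n : Over i₀ := Over.mk (η ≫ k.hom)
  let u : n ⟶ k := Over.homMk η rfl
  obtain ⟨a', b', ha', has', hb', -, w'⟩ :=
    exists_chart_bc (hYi : IsPullback pYi qYi b₀ (D.map n.hom)) hXi ha has hb hbs w (hsq n)
  refine locP_of_chart ha' has' hb' w' ?_
  have sk : IsPullback (pullback.fst h (ψ n)).left (pullback.snd h (ψ n)).left h₁ (D'.map (u ≫ t)) :=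
    isPullback_left (IsPullback.of_iso (IsPullback.of_hasPullback h (ψ n)) (Iso.refl _) (Iso.refl _)
      (Iso.refl _) (asIso (inv (ψ top))) (by simp) (by simp) (by simp) (by
        simp only [Iso.refl_hom, Category.id_comp, asIso_hom]
        rw [IsIso.comp_inv_eq]
        exact (hψ (u ≫ t)).symm))
  exact LimSch.of_isPullback_comp (IsPullback.of_hasPullback h₁ (D'.map t)) (D'.map u)
    (D'.map_comp u t ▸ sk) hk

include hDa hc in
/-- A property of morphisms which is local for the etale topology and descends along limits of affine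
schemes descends along limits of algebraic spaces. -/
theorem descend_locP {P : MorphismProperty Scheme.{u}} [EtLoc P] [P.IsStableUnderBaseChange]
    (hP : LimSch.DescendsAff.{u} P @LocallyOfFinitePresentation)
    (X₀ Y₀ : Space S) (f₀ : X₀.obj ⟶ Y₀.obj) (b₀ : Y₀.obj ⟶ D.obj i₀)
    (hXqc : IsQuasiCompactSp X₀.obj) (hYqc : IsQuasiCompactSp Y₀.obj)
    {X Y : Sp S} {f : X ⟶ Y} {pY : Y ⟶ Y₀.obj} {qY : Y ⟶ c.pt}
    (hY : IsPullback pY qY b₀ (c.π.app i₀)) {pX : X ⟶ X₀.obj} (hX : IsPullback pX f f₀ pY)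
    (hf : LocP P f) (hf₀ : LocP @LocallyOfFinitePresentation f₀) :
    ∃ (i : I) (φ : i ⟶ i₀), ∀ (Xi Yi : Sp S) (fi : Xi ⟶ Yi) (pYi : Yi ⟶ Y₀.obj) (qYi : Yi ⟶ D.obj i)
      (_ : IsPullback pYi qYi b₀ (D.map φ)) (pXi : Xi ⟶ X₀.obj) (_ : IsPullback pXi fi f₀ pYi),
      LocP P fi := by
  obtain ⟨i, φ, h⟩ := descend_locP_refine D hDa c hc hP X₀ Y₀ f₀ b₀ hXqc hYqc hY hX hf hf₀
  exact ⟨i, φ, fun Xi Yi fi pYi qYi hYi pXi hXi =>
    h i (𝟙 i) Xi Yi fi pYi qYi (by rwa [Category.id_comp]) pXi hXi⟩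

end

end Groth.Agent.AlgSpLimit
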