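import Groth.Agent.AlgSpLimit.DescendLocP
import Groth.Agent.AlgSpc.TestedMor
import Groth.Agent.AlgStB.RepSp
import Groth.Agent.AlgSpLoc.DescendPropSp
import Groth.Agent.LimSch.Reduced

/-!
# The limit of a system of algebraic spaces with affine transition morphisms
-/

set_option autoImplicit false
set_option backward.isDefEq.respectTransparency false
set_option linter.style.haveILetI false

universe u

open CategoryTheory CategoryTheory.Limits AlgebraicGeometry Opposite

namespace Groth.Agent.AlgSpLimit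

open _root_.AlgSp Groth.Agent.AlgSpc

noncomputable section

variable {S : Scheme.{u}} {I : Type u} [SmallCategory I] [IsCofiltered I] (D : I ⥤ Sp S)
  (hDa : ∀ (i j : I) (φ : i ⟶ j), IsAffineMor (D.map φ))
  (c : Cone D) (hc : IsLimit c)

/-- The source of a representable morphism to an algebraic space is an algebraic space. -/
theorem isAlgSpace_of_representable {F G : Sp S} {a : F ⟶ G} (ha : Representable a) (hG : IsAlgSpace G) :
    IsAlgSpace F :=
  AlgStB.isAlgSpace_of_repBySp a ((_root_.AlgSp.repBySp_hom_iff a).2 fun U ξ F' fst snd sq => by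
    obtain ⟨V, fst', snd', sq'⟩ := exists_sq ha ξ
    exact (IsAlgSpace.yon_obj V).of_iso (sq'.isoIsPullback _ _ sq)) hG

include hDa hc in
theorem isAffineMor_π (i : I) : IsAffineMor (c.π.app i) := by
  intro Z hZ g
  obtain ⟨F, φ, ψ, hF, hsq, hφ, hψ⟩ := exists_affine_system D hDa g hZ
  obtain ⟨C, hC, φ₁, hsq₁⟩ := exists_affine_limit D c hc g F φ ψ hF hsq hφ hψ
  haveI : ∀ j, IsAffine ((F ⋙ Over.forget S).obj j) := hF
  exact ⟨C.pt, _, φ₁, hsq₁, Scheme.isAffine_of_isLimit ((Over.forget S).mapCone C) hC⟩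

include hDa hc in
theorem isAlgSpace_limit (hD : ∀ i, IsAlgSpace (D.obj i)) : IsAlgSpace c.pt :=
  isAlgSpace_of_representable
    ((repWith_affineHom_iff _).1 (isAffineMor_π D hDa c hc (IsCofiltered.nonempty (C := I)).some)).1 (hD _)

include hDa hc in
theorem nonempty_points (i : I) (hqc : IsQuasiCompactSp (D.obj i)) (hD : IsAlgSpace (D.obj i))
    (hne : ∀ i, Nonempty (Points (D.obj i))) : Nonempty (Points c.pt) := by
  obtain ⟨V, b, hV, hb, hbs⟩ := (isQuasiCompactSp_iff_affine hD).1 hqc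
  obtain ⟨F, φ, ψ, hF, hsq, hφ, hψ⟩ := exists_affine_system D hDa b hV
  obtain ⟨C, hC, φ₁, hsq₁⟩ := exists_affine_limit D c hc b F φ ψ hF hsq hφ hψ
  let D' := F ⋙ Over.forget S
  haveI : ∀ j, IsAffine (D'.obj j) := hF
  haveI : ∀ {j k : Over i} (t : j ⟶ k), IsAffineHom (D'.map t) := fun t => inferInstance
  haveI : ∀ j, Nonempty (D'.obj j) := fun j => by
    obtain ⟨x⟩ := hne j.left
    obtain ⟨v, -⟩ := surjective_ofPt (repWith_of_isPullback (hsq j).flip hbs) x
    exact ⟨v⟩
  obtain ⟨x⟩ := Scheme.nonempty_of_isLimit D' _ hC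
  exact ⟨Points.ofPt φ₁ x⟩

omit [IsCofiltered I] in
/-- An etale chart of a reduced space is reduced. -/
theorem isReduced_chart {X : Sp S} (hX : IsAlgSpace X) (hr : IsReducedSp X) {V : Over S}
    {a : (yon S).obj V ⟶ X} (ha : RepWith @Etale a) : IsReduced V.left := by
  obtain ⟨U, p, hp, hps, hU⟩ := hr
  obtain ⟨R, r, k, sq⟩ := exists_sq hp.1 a
  have : Etale k.left := hp.2 a r k sq
  have : Surjective k.left := hps.2 a r k sq
  have : Etale (pre r).left := (repWith_pre r).1 (repWith_of_isPullback sq.flip ha) |> id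
  have := SmoothReduced.isReduced_of_smooth_scheme (pre r).left
  exact FpqcDescent.isReduced_of_flat_surjective k.left

include hDa hc in
theorem isReducedSp_limit (hred : ∀ i, IsReducedSp (D.obj i)) (hD : ∀ i, IsAlgSpace (D.obj i)) :
    IsReducedSp c.pt := by
  let i : I := (IsCofiltered.nonempty (C := I)).some
  obtain ⟨U, p, hp, hps⟩ := (hD i).atlas
  obtain ⟨W, q, k, sq⟩ := exists_sq ((repWith_affineHom_iff _).1 (isAffineMor_π D hDa c hc i)).1 p
  refine ⟨W, q, repWith_of_isPullback sq.flip hp, repWith_of_isPullback sq.flip hps, ?_⟩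
  have key : ∀ A : U.left.affineOpens, IsReduced (k.left ⁻¹ᵁ (A : U.left.Opens)).toScheme := fun A => by
    let T : Over S := Over.mk (A.1.ι ≫ U.hom)
    let m : T ⟶ U := Over.homMk A.1.ι rfl
    let P : Over S := Over.mk ((k.left ⁻¹ᵁ A.1).ι ≫ W.hom)
    let x : P ⟶ W := Over.homMk (k.left ⁻¹ᵁ A.1).ι rfl
    let y : P ⟶ T := Over.homMk (k.left ∣_ A.1) (by
      change (k.left ∣_ A.1) ≫ A.1.ι ≫ U.hom = (k.left ⁻¹ᵁ A.1).ι ≫ W.hom
      rw [← Category.assoc, morphismRestrict_ι, Category.assoc, Over.w k])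
    have so : IsPullback x y k m := IsPullback.of_map (Over.forget S)
      (Over.OverMorphism.ext (morphismRestrict_ι k.left A.1).symm) (isPullback_morphismRestrict k.left A.1).flip
    have sP := (so.map (yon S)).paste_horiz sq
    have hT : IsAffine T.left := A.2
    obtain ⟨F, φ, ψ, hF, hsq, hφ, hψ⟩ := exists_affine_system D hDa ((yon S).map m ≫ p) hT
    obtain ⟨C, hC, φ₁, hsq₁⟩ := exists_affine_limit D c hc ((yon S).map m ≫ p) F φ ψ hF hsq hφ hψ
    let D' := F ⋙ Over.forget S
    haveI : ∀ j, IsAffine (D'.obj j) := hF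
    haveI : ∀ (j l : Over i) (t : j ⟶ l), IsAffineHom (D'.map t) := fun _ _ t => inferInstance
    have hm : RepWith @Etale ((yon S).map m ≫ p) :=
      repWith_comp ((repWith_yon_map_iff _ m).2 (inferInstanceAs (Etale A.1.ι))) hp
    have : IsReduced C.pt.left := LimSch.isReduced_of_cofinal hC fun j =>
      ⟨j, 𝟙 j, isReduced_chart (hD j.left) (hred j.left) (repWith_of_isPullback (hsq j).flip hm)⟩
    let e : P ≅ C.pt := (Functor.FullyFaithful.ofFullyFaithful (yon S)).preimageIso (sP.isoIsPullback _ _ hsq₁)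
    exact isReduced_of_isOpenImmersion e.hom.left
  have (w : W.left) : _root_.IsReduced (W.left.presheaf.stalk w) := by
    obtain ⟨_, ⟨A, hA, rfl⟩, hwA, -⟩ := U.left.isBasis_affineOpens.exists_subset_of_mem_open
      (Set.mem_univ (k.left w)) isOpen_univ
    let O := k.left ⁻¹ᵁ A
    have : IsReduced O.toScheme := key ⟨A, hA⟩
    exact isReduced_of_injective (O.stalkIso ⟨w, hwA⟩).inv.hom
      (O.stalkIso ⟨w, hwA⟩).symm.commRingCatIsoToRingEquiv.injective
  exact isReduced_of_isReduced_stalk _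

end

end Groth.Agent.AlgSpLimit
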