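import Groth.Agent.AlgSpLimit.PointsLimit
import Groth.Agent.AlgSpLimit.ClosedLimit
import Groth.Agent.AlgSpLoc.Cover
import Groth.Agent.AlgSpDesc.DiagCancel

/-!
# Closures of points of a limit of algebraic spaces
-/

set_option autoImplicit false
set_option backward.isDefEq.respectTransparency false
set_option linter.style.haveILetI false

universe u

open CategoryTheory CategoryTheory.Limits AlgebraicGeometry Opposite

namespace Groth.Agent.AlgSpLimit

open _root_.AlgSp Groth.Agent.AlgSpc

noncomputable section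

variable {S : Scheme.{u}}

/-- A morphism from a reduced space with image in a closed subspace factors through it. -/
theorem exists_factor_closed {L X Z : Sp S} (hL : IsReducedSp L) (f : L ⟶ X) (i : Z ⟶ X)
    (hi : RepWith @IsClosedImmersion i) (h : Set.range (Points.map f) ⊆ Set.range (Points.map i)) :
    ∃ g : L ⟶ Z, g ≫ i = f := by
  haveI := mono_closed hi
  obtain ⟨U, p, hp, hps, hU⟩ := hL
  obtain ⟨P, fst, snd, sq⟩ := exists_sq hi.1 (p ≫ f)
  haveI : IsClosedImmersion snd.left := hi.2 (p ≫ f) fst snd sq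
  haveI : Surjective snd.left := ⟨fun u => by
    obtain ⟨z, hz⟩ := h ⟨Points.ofPt p u, Points.map_ofPt p f u⟩
    obtain ⟨v, -, hv⟩ := exists_point_of_isPullback sq z (Points.ofScheme U u)
      (by rw [← Points.ofPt_eq_map_ofScheme]; exact hz)
    obtain ⟨v', rfl⟩ := (Points.schemeHomeo P).surjective v
    exact ⟨v', (Points.schemeHomeo U).injective ((Points.map_yon_map_apply snd v').symm.trans hv)⟩⟩
  haveI := hU
  haveI : IsIso snd.left := isIso_of_isClosedImmersion_of_surjective snd.left
  haveI : IsIso ((Over.forget S).map snd) := ‹IsIso snd.left›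
  haveI : IsIso snd := isIso_of_reflects_iso snd (Over.forget S)
  let m : (yon S).obj U ⟶ Z := inv ((yon S).map snd) ≫ fst
  have hm : m ≫ i = p ≫ f := by simp [m, sq.w]
  clear_value m
  obtain ⟨g, hg⟩ := AlgSpLoc.exists_desc_of_atlas hp hps m (fun T a b w => by
    rw [← cancel_mono i, Category.assoc, Category.assoc, hm, reassoc_of% w])
  refine ⟨g, ?_⟩
  haveI := AlgSpLoc.epi_of_repWith hp hps
  rw [← cancel_epi p, reassoc_of% hg, hm]

variable {I : Type u} [SmallCategory I] [IsCofiltered I] (D : I ⥤ Sp S)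
  (hDa : ∀ (i j : I) (φ : i ⟶ j), IsAffineMor (D.map φ))
  (c : Cone D) (hc : IsLimit c)

include hDa hc in
/-- The closure of a point of the limit is the limit of the closures of its images. -/
theorem closure_point_limit (hD : ∀ i, IsAlgSpace (D.obj i)) (x : Points c.pt) :
    closure {x} = {x' | ∀ i, Points.map (c.π.app i) x' ∈ closure {Points.map (c.π.app i) x}} := by
  ext x'
  constructor
  · exact fun h i => map_mem_closure (Points.continuous_map (c.π.app i)) h (fun y hy => by rw [Set.mem_singleton_iff.1 hy]; rfl)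
  · intro h
    rw [← specializes_iff_mem_closure, Specializes, topology_limit D hDa c hc hD, nhds_iInf, nhds_iInf]
    refine iInf_mono fun i => ?_
    rw [nhds_induced, nhds_induced]
    exact Filter.comap_mono (specializes_iff_mem_closure.2 (h i))

set_option maxHeartbeats 800000 in
include hDa hc in
/-- The reduced closure of a point of the limit is the limit of the reduced closures of its images. -/
theorem isLimit_closure_point (hD : ∀ i, IsAlgSpace (D.obj i)) (x : Points c.pt) {Z : Sp S} (zι : Z ⟶ c.pt)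
    (hz : IsRedInduced (closure {x}) zι) (DZ : I ⥤ Sp S) (hDZ : ∀ i, IsAlgSpace (DZ.obj i)) (ι : DZ ⟶ D)
    (hι : ∀ i, IsRedInduced (closure {Points.map (c.π.app i) x}) (ι.app i))
    (ξ : (Functor.const I).obj Z ⟶ DZ) (hξ : ∀ i, ξ.app i ≫ ι.app i = zι ≫ c.π.app i) :
    Nonempty (IsLimit (Cone.mk Z ξ)) := by
  haveI := mono_closed hz.1
  haveI : ∀ i, Mono (ι.app i) := fun i => mono_closed (hι i).1
  have hZa : ∀ (i j : I) (φ : i ⟶ j), IsAffineMor (DZ.map φ) := fun i j φ => (repWith_affineHom_iff _).2 (by
    refine Groth.Agent.AlgSpDesc.repWith_of_comp_diagonal (DZ.map φ) (ι.app j) ?_ ?_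
    · rw [ι.naturality φ]
      exact repWith_comp ((repWith_affineHom_iff _).1 (affine_closed (hι i).1)) ((repWith_affineHom_iff _).1 (hDa _ _ φ))
    · exact repWith_mono (fun _ _ k (hk : IsClosedImmersion k) => inferInstanceAs (IsAffineHom k))
        (isSeparatedMor_of_repWith_affineHom ((repWith_affineHom_iff _).1 (affine_closed (hι j).1))))
  let L := limit.cone DZ
  let l : L.pt ⟶ c.pt := hc.lift ((Cone.postcompose ι).obj L)
  have hl : ∀ i, l ≫ c.π.app i = L.π.app i ≫ ι.app i := fun i => hc.fac _ i
  have hLr : IsReducedSp L.pt := isReducedSp_limit DZ hZa L (limit.isLimit DZ) (fun i => (hι i).2.2) hDZ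
  obtain ⟨k, hk⟩ := exists_factor_closed hLr l zι hz.1 (by
    rintro _ ⟨p, rfl⟩
    rw [hz.2.1, closure_point_limit D hDa c hc hD x]
    intro i
    rw [← Points.map_comp, hl, Points.map_comp, ← (hι i).2.1]
    exact ⟨_, rfl⟩)
  have hkξ : ∀ i, k ≫ ξ.app i = L.π.app i := fun i => by
    rw [← cancel_mono (ι.app i), Category.assoc, hξ, reassoc_of% hk, hl]
  refine ⟨{ lift := fun s => (limit.isLimit DZ).lift s ≫ k, fac := fun s i => ?_, uniq := fun s m hm => ?_ }⟩
  · show ((limit.isLimit DZ).lift s ≫ k) ≫ ξ.app i = _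
    rw [Category.assoc, hkξ]
    exact (limit.isLimit DZ).fac s i
  · rw [← cancel_mono zι, Category.assoc, hk]
    refine hc.hom_ext fun i => ?_
    rw [Category.assoc, Category.assoc, hl, ← hξ, ← Category.assoc, ← Category.assoc, (limit.isLimit DZ).fac s i]
    exact congrArg (· ≫ ι.app i) (hm i)

end

end Groth.Agent.AlgSpLimit
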