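import Mathlib.RingTheory.Smooth.NoetherianDescent
import Mathlib.AlgebraicGeometry.Morphisms.Etale
import Mathlib.AlgebraicGeometry.Morphisms.FlatMono
import Mathlib.AlgebraicGeometry.Limits

/-!
# A model of finite type over the integers of an etale covering of affine schemes
-/

set_option autoImplicit false
set_option backward.isDefEq.respectTransparency false

universe u

open CategoryTheory CategoryTheory.Limits AlgebraicGeometry

namespace Groth.Agent.AlgSpLimit

open TensorProduct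

theorem exists_etale_model {C X : Scheme.{u}} [IsAffine C] [IsAffine X] (h : C ⟶ X) [Etale h] [Surjective h] :
    ∃ (T U : Scheme.{u}) (v : U ⟶ T) (a : X ⟶ T) (b : C ⟶ U),
      IsAffine U ∧ T.IsSeparated ∧ CompactSpace ↥T ∧ LocallyOfFinitePresentation (terminal.from T) ∧
      LocallyOfFinitePresentation (terminal.from U) ∧
      Etale v ∧ Surjective v ∧ IsAffineHom v ∧ IsPullback b h v a := by
  have hQ : h.appTop.hom.Etale := HasRingHomProperty.appTop (P := @Etale) h inferInstance
  algebraize [h.appTop.hom]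
  obtain ⟨A₀, B₀, iC, iA, hfg, hB₀, ⟨e⟩⟩ := Algebra.Etale.exists_subalgebra_fg (R := ℤ) (A := Γ(X, ⊤)) (B := Γ(C, ⊤))
  let g₀ : CommRingCat.of A₀ ⟶ CommRingCat.of B₀ := CommRingCat.ofHom (algebraMap A₀ B₀)
  let u := Spec.map g₀
  have hu : Etale u := (HasRingHomProperty.Spec_iff (P := @Etale)).2 (RingHom.etale_algebraMap.2 hB₀)
  let inc : CommRingCat.of A₀ ⟶ Γ(X, ⊤) := CommRingCat.ofHom (algebraMap A₀ Γ(X, ⊤))
  let incB : CommRingCat.of B₀ ⟶ Γ(C, ⊤) :=
    CommRingCat.ofHom (e.symm.toRingEquiv.toRingHom.comp Algebra.TensorProduct.includeRight.toRingHom)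
  have hpo : IsPushout inc g₀ h.appTop incB :=
    (CommRingCat.isPushout_tensorProduct A₀ Γ(X, ⊤) B₀).of_iso (Iso.refl _) (Iso.refl _) (Iso.refl _)
      e.symm.toRingEquiv.toCommRingCatIso (by simp [inc]) (by simp [g₀])
      (by ext x; exact e.symm.commutes x) (by ext x; rfl)
  let a₀ : X ⟶ Spec (.of A₀) := X.isoSpec.hom ≫ Spec.map inc
  let b₀ : C ⟶ Spec (.of B₀) := C.isoSpec.hom ≫ Spec.map incB
  have sq : IsPullback b₀ h u a₀ :=
    (isPullback_SpecMap_of_isPushout _ _ _ _ hpo).flip.of_iso C.isoSpec.symm (Iso.refl _) X.isoSpec.symm (Iso.refl _)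
      (by simp [b₀]) (by simp [← Scheme.isoSpec_inv_naturality]) (by simp [u]) (by simp [a₀])
  let T : (Spec (CommRingCat.of A₀)).Opens := ⟨Set.range u, u.isOpenMap.isOpen_range⟩
  let v : Spec (.of B₀) ⟶ T := IsOpenImmersion.lift T.ι u (by simp [T, Scheme.Opens.range_ι])
  have hv : v ≫ T.ι = u := IsOpenImmersion.lift_fac _ _ _
  have hr : Set.range a₀ ⊆ (T : Set (Spec (CommRingCat.of A₀))) := by
    rintro _ ⟨x, rfl⟩
    obtain ⟨y, rfl⟩ := h.surjective x
    exact ⟨b₀ y, by rw [← Scheme.Hom.comp_apply, ← Scheme.Hom.comp_apply, sq.w]⟩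
  let a : X ⟶ T := IsOpenImmersion.lift T.ι a₀ (by simpa [Scheme.Opens.range_ι] using hr)
  have ha : a ≫ T.ι = a₀ := IsOpenImmersion.lift_fac _ _ _
  have : Algebra.FiniteType ℤ A₀ := (Subalgebra.fg_iff_finiteType A₀).1 hfg
  have hlA : LocallyOfFinitePresentation (terminal.from (Spec (CommRingCat.of A₀))) := by
    let f₀ : ULift.{u} ℤ →+* A₀ := (algebraMap ℤ A₀).comp ULift.ringEquiv.toRingHom
    have hf : f₀.FiniteType := (RingHom.finiteType_algebraMap.2 inferInstance).comp
      (RingHom.FiniteType.of_surjective _ ULift.ringEquiv.surjective)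
    haveI : IsNoetherianRing (ULift.{u} ℤ) := isNoetherianRing_of_ringEquiv ℤ ULift.ringEquiv.symm
    rw [← terminal.comp_from (Spec.map (CommRingCat.ofHom f₀))]
    have := isIso_of_isTerminal specULiftZIsTerminal.{u} terminalIsTerminal (terminal.from _)
    have := (LocallyOfFinitePresentation.SpecMap_iff (CommRingCat.ofHom f₀)).2 ((RingHom.FinitePresentation.of_finiteType
      (f := f₀)).1 hf)
    infer_instance
  have hTs : IsSeparated (terminal.from (T : Scheme)) := by
    rw [← terminal.comp_from T.ι]; infer_instance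
  have : IsAffineHom (v ≫ terminal.from (T : Scheme)) := inferInstance
  refine ⟨T, Spec (.of B₀), v, a, b₀, inferInstance, ⟨hTs⟩, ?_, ?_, ?_, ?_, ?_, ?_, ?_⟩
  · exact isCompact_iff_compactSpace.1 (isCompact_range u.continuous)
  · rw [← terminal.comp_from T.ι]; infer_instance
  · rw [← terminal.comp_from u]; infer_instance
  · have : Etale (v ≫ T.ι) := hv ▸ hu
    exact Etale.of_comp v T.ι
  · refine ⟨fun x => ?_⟩
    obtain ⟨y, hy⟩ := x.2
    exact ⟨y, T.ι.isOpenEmbedding.injective (by rw [← Scheme.Hom.comp_apply, hv]; exact hy)⟩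
  · exact IsAffineHom.of_comp v (terminal.from (T : Scheme))
  · have w : b₀ ≫ v = h ≫ a := by
      rw [← cancel_mono T.ι, Category.assoc (f := h), ha, Category.assoc, hv, sq.w]
    refine ⟨⟨w⟩, ⟨PullbackCone.IsLimit.mk w (fun s => sq.lift s.fst s.snd
      (by rw [← hv, ← ha, ← Category.assoc, ← Category.assoc, s.condition]))
      (fun s => sq.lift_fst _ _ _) (fun s => sq.lift_snd _ _ _)
      (fun s m h₁ h₂ => sq.hom_ext (by simp [h₁]) (by simp [h₂]))⟩⟩

end Groth.Agent.AlgSpLimit
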