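import Groth.Agent.AlgSpLimit.DescendMap
import Groth.Agent.AlgSpLimit.EtaleModel
import Groth.Agent.AlgSpLimit.ClosedApps
import Groth.Agent.AlgSpLimit.DescendRep
import Groth.Agent.AlgSpc.AffineLocal
import Groth.Agent.AlgSpc.Compact
import Groth.Agent.AlgSpDesc.DiagCancel
import Groth.Agent.LimSch.DescendsCores

/-!
# An affine limit of algebraic spaces has an affine stage
-/

set_option autoImplicit false
set_option backward.isDefEq.respectTransparency false
set_option linter.style.haveILetI false

universe u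

open CategoryTheory CategoryTheory.Limits AlgebraicGeometry Opposite

namespace Groth.Agent.AlgSpLimit

open _root_.AlgSp Groth.Agent.AlgSpc

noncomputable section

variable {S : Scheme.{u}}

/-- A morphism from an affine scheme to a quasi-separated scheme is quasi-affine. -/
theorem isQuasiAffineMor_yon_map [QuasiSeparatedSpace ↥S] {W U : Over S} [IsAffine W.left]
    [QuasiSeparatedSpace ↥U.left] (j : W ⟶ U) : IsQuasiAffineMor ((yon S).map j) := by
  intro Z hZ l
  refine ⟨pullback j (pre l), pullback.snd j (pre l), (yon S).map (pullback.fst j (pre l)), ?_, ?_⟩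
  · simpa using (IsPullback.of_hasPullback j (pre l)).map (yon S)
  · haveI : IsAffine Z.left := hZ
    have sq := (IsPullback.of_hasPullback j (pre l)).map (Over.forget S)
    simp only [Over.forget_obj, Over.forget_map] at sq
    let e := sq.isoPullback
    haveI : QuasiCompact j.left := quasiCompact_of_compactSpace j.left
    haveI : CompactSpace ↥(pullback j.left (pre l).left) := QuasiCompact.compactSpace_of_compactSpace (pullback.snd j.left (pre l).left)
    haveI : IsImmersion (pullback.mapDesc j.left (pre l).left (terminal.from U.left)) :=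
      MorphismProperty.of_isPullback (pullback_map_diagonal_isPullback j.left (pre l).left (terminal.from U.left))
        (inferInstance : IsImmersion (pullback.diagonal (terminal.from U.left)))
    haveI := Scheme.IsQuasiAffine.of_isImmersion (pullback.mapDesc j.left (pre l).left (terminal.from U.left))
    let k : (pullback j (pre l)).left ⟶ pullback j.left (pre l).left := e.hom
    haveI : IsIso k := inferInstanceAs (IsIso e.hom)
    haveI : CompactSpace ↥((pullback j (pre l)).left) := (inv k).homeomorph.compactSpace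
    exact Scheme.IsQuasiAffine.of_isImmersion k

/-- The base changes of a morphism from a quasi-separated scheme are quasi-separated. -/
theorem quasiSeparated_of_sq {Y : Sp S} {V : Over S} [QuasiSeparatedSpace ↥V.left] (b : (yon S).obj V ⟶ Y)
    {W W' : Over S} (g : (yon S).obj W ⟶ Y) (fst : (yon S).obj W' ⟶ (yon S).obj V) (snd : W' ⟶ W)
    (sq : IsPullback fst ((yon S).map snd) b g) : QuasiSeparated snd.left := by
  let k : W'.left ⟶ pullback V.hom W.hom := pullback.lift (pre fst).left snd.left (by simp)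
  haveI : Mono k := ⟨fun {Z} x y w => by
    have w₁ : x ≫ (pre fst).left = y ≫ (pre fst).left := by simpa [k] using congrArg (· ≫ pullback.fst _ _) w
    have w₂ : x ≫ snd.left = y ≫ snd.left := by simpa [k] using congrArg (· ≫ pullback.snd _ _) w
    let Z' : Over S := Over.mk (x ≫ W'.hom)
    let x' : Z' ⟶ W' := Over.homMk x rfl
    let y' : Z' ⟶ W' := Over.homMk y (by
      show y ≫ W'.hom = x ≫ W'.hom
      rw [← Over.w snd, reassoc_of% w₂])
    have : x' = y' := (yon S).map_injective (sq.hom_ext
      (by rw [← map_pre fst, ← Functor.map_comp, ← Functor.map_comp]; congr 1; ext1; exact w₁)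
      (by rw [← Functor.map_comp, ← Functor.map_comp]; congr 1; ext1; exact w₂))
    exact congrArg CommaMorphism.left this⟩
  haveI : QuasiSeparated (V.hom ≫ terminal.from S) := by
    rw [terminal.comp_from]; exact (quasiSeparatedSpace_iff_quasiSeparated _).1 inferInstance
  haveI : QuasiSeparated V.hom := QuasiSeparated.of_comp V.hom (terminal.from S)
  haveI : QuasiSeparated (pullback.snd V.hom W.hom) := MorphismProperty.pullback_snd _ _ inferInstance
  rw [show snd.left = k ≫ pullback.snd V.hom W.hom from (pullback.lift_snd _ _ _).symm]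
  infer_instance

variable {I : Type u} [SmallCategory I] [IsCofiltered I] (D : I ⥤ Sp S)
  (hDa : ∀ (i j : I) (φ : i ⟶ j), IsAffineMor (D.map φ))
  (c : Cone D) (hc : IsLimit c)

set_option maxHeartbeats 1000000 in
include hDa hc in
/-- If the limit is affine, a stage is a quasi-compact and quasi-separated scheme. -/
theorem exists_scheme_stage [QuasiSeparatedSpace ↥S] (hD : ∀ i, IsAlgSpace (D.obj i))
    (hqc : ∀ i, IsQuasiCompactSp (D.obj i)) (hqs : ∀ i, IsQuasiSeparatedSp (D.obj i))
    (X : Over S) (hX : IsAffine X.left) (e : (yon S).obj X ≅ c.pt) :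
    ∃ (i : I) (W : Over S), CompactSpace ↥W.left ∧ QuasiSeparatedSpace ↥W.left ∧
      Nonempty ((yon S).obj W ≅ D.obj i) := by
  haveI := hX
  obtain ⟨i₁⟩ := IsCofiltered.nonempty (C := I)
  obtain ⟨V, b, hV, hb, hbs⟩ := (isQuasiCompactSp_iff_affine (hD i₁)).1 (hqc i₁)
  obtain ⟨F, φ, ψ, hF, hsq, hφ, hψ⟩ := exists_affine_system D hDa b hV
  obtain ⟨C, hC, φ₁, hsq₁, hφ₁⟩ := exists_affine_limit' D c hc b F φ ψ hF hsq hφ hψ
  let D' := F ⋙ Over.forget S
  haveI : ∀ k, IsAffine (D'.obj k) := hF
  haveI : ∀ {k l : Over i₁} (t : k ⟶ l), IsAffineHom (D'.map t) := fun t => inferInstance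
  haveI : IsAffine C.pt.left := Scheme.isAffine_of_isLimit ((Over.forget S).mapCone C) hC
  have hφe : RepWith @Etale φ₁ := repWith_of_isPullback hsq₁.flip hb
  have hφs : RepWith @Surjective φ₁ := repWith_of_isPullback hsq₁.flip hbs
  let h : C.pt ⟶ X := pre (φ₁ ≫ e.inv)
  have hh : (yon S).map h = φ₁ ≫ e.inv := map_pre _
  haveI : Etale h.left := (repWith_yon_map_iff _ h).1 (hh ▸ repWith_comp hφe (repWith_iso _))
  haveI : Surjective h.left := (repWith_yon_map_iff _ h).1 (hh ▸ repWith_comp hφs (repWith_iso _))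
  obtain ⟨T, U, v, a, bb, hU, hTs, hTc, hTf, hUf, hve, hvs, hva, hsqm⟩ := exists_etale_model h.left
  haveI := hU
  haveI := hve
  haveI := hvs
  haveI := hva
  haveI := hTf
  haveI := hUf
  haveI := hTs
  obtain ⟨m₁, gT, hgT, hinv⟩ := exists_stage_hom D hDa c hc hD (hqs i₁) hV hF hsq hφ hψ hC hsq₁ hφ₁ (h.left ≫ a)
    (fun W x y w => by
      have : x ≫ h = y ≫ h := (yon S).map_injective (by rw [Functor.map_comp, Functor.map_comp, hh, reassoc_of% w])
      rw [← Category.assoc, ← Category.assoc, ← Over.comp_left, ← Over.comp_left, this])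
  let TS : Over S := Over.mk (pullback.snd (terminal.from T) (terminal.from S))
  let US : Over S := Over.mk (pullback.snd v (pullback.fst (terminal.from T) (terminal.from S)) ≫ TS.hom)
  let vS : US ⟶ TS := Over.homMk (pullback.snd v (pullback.fst (terminal.from T) (terminal.from S))) rfl
  haveI : Etale vS.left := MorphismProperty.pullback_snd _ _ hve
  haveI : Surjective vS.left := MorphismProperty.pullback_snd _ _ hvs
  haveI : IsAffineHom vS.left := MorphismProperty.pullback_snd _ _ hva
  let γ : F.obj m₁ ⟶ TS := Over.homMk (pullback.lift gT (F.obj m₁).hom (terminal.hom_ext _ _)) (pullback.lift_snd _ _ _)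
  have hb₁ : RepWith @Etale (φ m₁) := repWith_of_isPullback (hsq m₁).flip hb
  obtain ⟨n, hn⟩ := AlgSpLoc.exists_desc_of_atlas hb₁ (repWith_of_isPullback (hsq m₁).flip hbs) ((yon S).map γ)
    (fun W x y w => by
      rw [← Functor.map_comp, ← Functor.map_comp]
      congr 1
      ext1
      apply pullback.hom_ext
      · simpa [γ] using hinv x y w
      · simp [γ])
  let tt : D' ⟶ (Functor.const (Over i₁)).obj (⊤_ Scheme.{u}) :=
    { app := fun _ => terminal.from _, naturality := fun _ _ _ => terminal.hom_ext _ _ }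
  obtain ⟨m₂, gU, hgU, -⟩ := Scheme.exists_π_app_comp_eq_of_locallyOfFinitePresentation D' tt
    (terminal.from U) ((Over.forget S).mapCone C) hC bb (by ext j; exact terminal.hom_ext _ _)
  obtain ⟨m, t₂, t₁, hm⟩ := Scheme.exists_hom_hom_comp_eq_comp_of_locallyOfFiniteType D' tt (terminal.from T)
    ((Over.forget S).mapCone C) hC (gU ≫ v) (terminal.hom_ext _ _) gT (terminal.hom_ext _ _) (by
      rw [← Category.assoc]
      erw [hgU, hgT]
      exact hsqm.w)
  let gS : F.obj m ⟶ US := Over.homMk (pullback.lift ((F.map t₂).left ≫ gU) (F.map t₁ ≫ γ).left (by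
      rw [Category.assoc, Over.comp_left, Category.assoc]
      simpa [γ, D', ← Category.assoc] using hm)) (by
      show _ ≫ pullback.snd _ _ ≫ TS.hom = _
      rw [pullback.lift_snd_assoc]
      exact Over.w _)
  have hgS : gS ≫ vS = F.map t₁ ≫ γ := by
    ext1
    exact pullback.lift_snd _ _ _
  let n' : D.obj m.left ⟶ (yon S).obj TS := D.map t₁.left ≫ n
  have hn' : φ m ≫ n' = (yon S).map gS ≫ (yon S).map vS := by
    rw [← Functor.map_comp, hgS, Functor.map_comp, ← hn, reassoc_of% (hφ t₁)]
  have hvR : ∀ {P : MorphismProperty Scheme.{u}} [P.IsStableUnderBaseChange], P vS.left →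
      RepWith P ((yon S).map vS) := fun hP => (repWith_yon_map_iff _ vS).2 hP
  let Y₀ := pullback n' ((yon S).map vS)
  let b₀ : Y₀ ⟶ D.obj m.left := pullback.fst _ _
  have hY₀ : IsAlgSpace Y₀ := isAlgSpace_of_isPullback (hD _) (IsAlgSpace.yon_obj TS) (IsAlgSpace.yon_obj US)
    (IsPullback.of_hasPullback n' ((yon S).map vS))
  have hb₀ : ∀ {P : MorphismProperty Scheme.{u}} [P.IsStableUnderBaseChange], P vS.left → RepWith P b₀ :=
    fun hP => repWith_of_isPullback (IsPullback.of_hasPullback n' ((yon S).map vS)).flip (hvR hP)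
  have hY₀c : IsQuasiCompactSp Y₀ :=
    (isQuasiCompactMor_of_repWith (hb₀ (P := @QuasiCompact) inferInstance)) (hD _) (hqc _) (𝟙 _) _ _
      (IsPullback.id_vert b₀).flip
  let g₀ : (yon S).obj (F.obj m) ⟶ Y₀ := pullback.lift (φ m) ((yon S).map gS) hn'
  have hg₀b : g₀ ≫ b₀ = φ m := pullback.lift_fst _ _ _
  -- the chart of the stage is quasi-compact, separated and etale
  have hφm : RepWith (@QuasiCompact ⊓ @QuasiSeparated ⊓ @LocallyOfFinitePresentation) (g₀ ≫ b₀) := by
    rw [hg₀b]
    refine repWith_of_isPullback (hsq m).flip ⟨hb.1, fun W W' g fst snd sq => ⟨⟨?_, ?_⟩, ?_⟩⟩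
    · exact ((repWith_quasiCompact_iff hb.1).2 (AlgSpDesc.isQuasiCompactMor_of_qc_qs (IsAlgSpace.yon_obj V) (hD i₁)
        isQuasiCompactSp_yon (hqs i₁) b)).2 g fst snd sq
    · exact quasiSeparated_of_sq b g fst snd sq
    · haveI : Etale snd.left := hb.2 g fst snd sq
      exact inferInstanceAs (LocallyOfFinitePresentation snd.left)
  have hbd : RepWith (@QuasiCompact ⊓ @QuasiSeparated ⊓ @LocallyOfFinitePresentation) (pullback.diagonal b₀) :=
    repWith_diagonal_of_repWith (P := @IsAffineHom ⊓ @Etale)
      (fun _ _ k hk => by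
        haveI : IsAffineHom k := hk.1
        haveI : Etale k := hk.2
        exact ⟨⟨inferInstance, inferInstance⟩, inferInstance⟩) (hb₀ ⟨inferInstance, inferInstance⟩)
  have hg₀ : RepWith (@QuasiCompact ⊓ @QuasiSeparated ⊓ @LocallyOfFinitePresentation) g₀ :=
    Groth.Agent.AlgSpDesc.repWith_of_comp_diagonal g₀ b₀ hφm hbd
  -- base changes
  have gen : ∀ {B : Sp S} (d : B ⟶ D.obj m.left) {W : Over S} (φW : (yon S).obj W ⟶ B) (k : W ⟶ F.obj m),
      IsPullback ((yon S).map k) φW (φ m) d →
      ∃ (pY : pullback (d ≫ n') ((yon S).map vS) ⟶ Y₀) (f : (yon S).obj W ⟶ pullback (d ≫ n') ((yon S).map vS)),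
        IsPullback pY (pullback.fst _ _) b₀ d ∧ IsPullback ((yon S).map k) f g₀ pY ∧
        f ≫ pullback.fst _ _ = φW ∧ f ≫ pullback.snd _ _ = (yon S).map (k ≫ gS) := by
    intro B d W φW k hk
    let pY : pullback (d ≫ n') ((yon S).map vS) ⟶ Y₀ := pullback.lift (pullback.fst _ _ ≫ d) (pullback.snd _ _)
      (by rw [Category.assoc, pullback.condition])
    have hY : IsPullback pY (pullback.fst _ _) b₀ d :=
      IsPullback.of_right (by rw [pullback.lift_snd]; exact (IsPullback.of_hasPullback _ _).flip)
        (pullback.lift_fst _ _ _) (IsPullback.of_hasPullback n' ((yon S).map vS)).flip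
    let f : (yon S).obj W ⟶ pullback (d ≫ n') ((yon S).map vS) := pullback.lift φW ((yon S).map (k ≫ gS))
      (by rw [Functor.map_comp, Category.assoc, ← hn', ← Category.assoc, ← hk.w, Category.assoc])
    refine ⟨pY, f, hY, IsPullback.of_bot ?_ ?_ hY, pullback.lift_fst _ _ _, pullback.lift_snd _ _ _⟩
    · rw [pullback.lift_fst, hg₀b]; exact hk
    · apply pullback.hom_ext
      · rw [Category.assoc, Category.assoc, pullback.lift_fst, pullback.lift_fst, pullback.lift_fst_assoc, hk.w]
      · rw [Category.assoc, Category.assoc, pullback.lift_snd, pullback.lift_snd, pullback.lift_snd,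
          Functor.map_comp]
  -- at the limit
  have hψC : C.π.app m ≫ ψ m = C.π.app (Over.mk (𝟙 i₁)) ≫ ψ (Over.mk (𝟙 i₁)) := by
    rw [← C.w (Over.homMk m.hom (by simp) : m ⟶ Over.mk (𝟙 i₁)), Category.assoc, hψ]
  have hsqC : IsPullback ((yon S).map (C.π.app m)) φ₁ (φ m) (c.π.app m.left) := by
    refine IsPullback.of_right ?_ (hφ₁ m).symm (hsq m).flip
    rw [← Functor.map_comp, hψC, c.w]
    exact hsq₁.flip
  obtain ⟨pY, f, hY, hXf, hf₁, hf₂⟩ := gen (c.π.app m.left) φ₁ (C.π.app m) hsqC
  have hlim : IsPullback φ₁ ((yon S).map (C.π.app m ≫ gS)) (c.π.app m.left ≫ n') ((yon S).map vS) := by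
    let aS : X ⟶ TS := Over.homMk (pullback.lift a X.hom (terminal.hom_ext _ _)) (pullback.lift_snd _ _ _)
    have e₁ : h ≫ aS = C.π.app m ≫ gS ≫ vS := by
      rw [hgS]
      ext1
      apply pullback.hom_ext
      · simp only [aS, γ, Over.comp_left, Over.homMk_left, Category.assoc, pullback.lift_fst]
        rw [← Category.assoc (C.π.app m).left, ← Over.comp_left, C.w]
        exact hgT.symm
      · simp [aS, γ]
    have e₂ : c.π.app m.left ≫ n' = e.inv ≫ (yon S).map aS := by
      have := AlgSpLoc.epi_of_repWith hφe hφs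
      rw [← cancel_epi φ₁, reassoc_of% (hφ₁ m), hn', ← reassoc_of% hh, ← Functor.map_comp, ← Functor.map_comp,
        ← Functor.map_comp, e₁]
    have e₃ : (C.π.app m ≫ gS).left ≫ pullback.fst v _ = bb := by
      rw [Over.comp_left, Category.assoc]
      simp only [gS, Over.homMk_left, pullback.lift_fst]
      rw [← Category.assoc, ← Over.comp_left, C.w]
      exact hgU
    have e₄ : aS.left ≫ pullback.fst _ _ = a := pullback.lift_fst _ _ _
    have w : (C.π.app m ≫ gS) ≫ vS = h ≫ aS := by rw [e₁, Category.assoc]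
    have s₁ : IsPullback (C.π.app m ≫ gS).left h.left vS.left aS.left :=
      IsPullback.of_right (h₁₂ := pullback.fst v _) (h₂₂ := pullback.fst _ _) (by rw [e₃, e₄]; exact hsqm)
        (by rw [← Over.comp_left, ← Over.comp_left, w]) (IsPullback.of_hasPullback v _)
    rw [e₂]
    exact ((IsPullback.of_map (Over.forget S) w s₁).map (yon S)).flip.of_iso (Iso.refl _) e (Iso.refl _) (Iso.refl _)
      (by simp [hh]) (by simp) (by simp) (by simp)
  have hfi : IsIso f := by
    have : f = hlim.isoPullback.hom := pullback.hom_ext (by rw [hf₁, IsPullback.isoPullback_hom_fst])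
      (by rw [hf₂, IsPullback.isoPullback_hom_snd])
    rw [this]; infer_instance
  obtain ⟨i, φi, hi⟩ := descend_repWith D hDa c hc (LimSch.descends_isomorphisms) hY₀ g₀ b₀ hY₀c hg₀ hY hXf
    (repWith_iso f)
  let M : Over i₁ := Over.mk (φi ≫ m.hom)
  let tM : M ⟶ m := Over.homMk φi rfl
  have hsqM : IsPullback ((yon S).map (F.map tM)) (φ M) (φ m) (D.map φi) := by
    refine IsPullback.of_right ?_ (hφ tM) (hsq m).flip
    rw [← Functor.map_comp, hψ, ← Functor.map_comp]
    exact (hsq M).flip
  obtain ⟨pYM, fM, hYM, hXM, hM₁, hM₂⟩ := gen (D.map φi) (φ M) (F.map tM) hsqM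
  haveI : IsIso fM := isIso_of_repWith (hi i (𝟙 i) _ _ fM pYM (pullback.fst _ _) (by simpa using hYM) _ hXM)
  have sqM : IsPullback (φ M) ((yon S).map (F.map tM ≫ gS)) (D.map φi ≫ n') ((yon S).map vS) :=
    (IsPullback.of_hasPullback (D.map φi ≫ n') ((yon S).map vS)).of_iso (asIso fM).symm (Iso.refl _) (Iso.refl _)
      (Iso.refl _) (by simp [hM₁]) (by simp [hM₂]) (by simp) (by simp)
  haveI : QuasiSeparatedSpace ↥US.left := by
    haveI : QuasiSeparated (terminal.from T) := inferInstance
    haveI : QuasiSeparated (pullback.snd (terminal.from T) (terminal.from S)) :=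
      MorphismProperty.pullback_snd _ _ inferInstance
    haveI : QuasiSeparated TS.hom := inferInstanceAs (QuasiSeparated (pullback.snd (terminal.from T) (terminal.from S)))
    haveI : QuasiSeparated (pullback.snd v (pullback.fst (terminal.from T) (terminal.from S))) :=
      MorphismProperty.pullback_snd _ _ inferInstance
    haveI : QuasiSeparated US.hom := MorphismProperty.comp_mem @QuasiSeparated
      (pullback.snd v (pullback.fst (terminal.from T) (terminal.from S))) TS.hom inferInstance inferInstance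
    exact quasiSeparatedSpace_of_quasiSeparated US.hom
  haveI : IsAffine (F.obj M).left := hF M
  obtain ⟨hr, -⟩ := AlgSpc.isQuasiAffineMor_of_atlas (hD _) (IsAlgSpace.yon_obj TS)
    (hvR (P := @Etale) inferInstance) (hvR (P := @Surjective) inferInstance) sqM (isQuasiAffineMor_yon_map _)
  obtain ⟨W, fst, snd, sW⟩ := exists_sq hr (𝟙 _)
  haveI : IsIso fst := sW.isIso_fst_of_isIso
  refine ⟨i, W, ?_, ?_, ⟨asIso fst⟩⟩
  · haveI := compactSpace_points (isQuasiCompactSp_of_surjective (IsAlgSpace.yon_obj W) (f := inv fst)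
      (fun x => ⟨Points.map fst x, by rw [← Points.map_comp, IsIso.hom_inv_id, Points.map_id]⟩) (hqc i))
    exact (Points.schemeHomeo W).symm.compactSpace
  · let k : W ⟶ Over.mk (𝟙 S) := Over.homMk W.hom (by simp)
    have hd := repWith_diagonal_base_change
      (IsPullback.of_horiz_isIso (fst := fst) (snd := (yon S).map k) (f := inv fst ≫ (yon S).map k) (g := 𝟙 _) ⟨by simp⟩)
      (AlgSpDesc.isQuasiSeparatedMor_of_sp (hD i) (hqs i) (inv fst ≫ (yon S).map k))
    haveI : QuasiSeparated W.hom := (isQuasiSeparatedMor_yon_map_iff k).1 hd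
    exact quasiSeparatedSpace_of_quasiSeparated W.hom

set_option maxHeartbeats 1000000 in
include hDa hc in
/-- An affine limit has an affine stage, and all later stages are affine. -/
theorem exists_affine_stage [QuasiSeparatedSpace ↥S] (hD : ∀ i, IsAlgSpace (D.obj i))
    (hqc : ∀ i, IsQuasiCompactSp (D.obj i)) (hqs : ∀ i, IsQuasiSeparatedSp (D.obj i))
    (X : Over S) (hX : IsAffine X.left) (e : (yon S).obj X ≅ c.pt) :
    ∃ i : I, ∀ (k : I) (_ : k ⟶ i), ∃ W : Over S, IsAffine W.left ∧ Nonempty ((yon S).obj W ≅ D.obj k) := by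
  obtain ⟨m, Wm, hWc, hWs, ⟨em⟩⟩ := exists_scheme_stage D hDa c hc hD hqc hqs X hX e
  haveI := hWc
  haveI := hWs
  have hW : ∀ j : Over m, ∃ (W : Over S) (w : W ⟶ Wm) (ej : (yon S).obj W ≅ D.obj j.left),
      ej.hom ≫ D.map j.hom = (yon S).map w ≫ em.hom ∧ IsAffineHom w.left := fun j => by
    have hr := (repWith_affineHom_iff _).1 (hDa _ _ j.hom)
    obtain ⟨W, fst, w, sq⟩ := exists_sq hr.1 em.hom
    haveI : IsIso fst := sq.isIso_fst_of_isIso
    exact ⟨W, w, asIso fst, sq.w, hr.2 _ fst w sq⟩
  choose W w ej hw hwa using hW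
  let K : Over m ⥤ Over S :=
    { obj := W
      map := fun {j l} t => pre ((ej j).hom ≫ D.map t.left ≫ (ej l).inv)
      map_id := fun j => (yon S).map_injective (by simp)
      map_comp := fun {j l n} t t' => (yon S).map_injective (by simp) }
  have hK : ∀ {j l : Over m} (t : j ⟶ l), (yon S).map (K.map t) ≫ (ej l).hom = (ej j).hom ≫ D.map t.left :=
    fun t => by simp [K]
  let α : K ⋙ yon S ≅ Over.forget m ⋙ D := NatIso.ofComponents ej (fun t => hK t)
  let ck : Cone K :=
    { pt := X
      π :=
        { app := fun j => pre (e.hom ≫ c.π.app j.left ≫ (ej j).inv)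
          naturality := fun j l t => (yon S).map_injective (by
            rw [Functor.map_comp, Functor.map_comp, ← cancel_mono (ej l).hom]
            simp [hK]) } }
  have hck : IsLimit ck := isLimitOfReflects (yon S) (by
    refine (IsLimit.postcomposeHomEquiv α _).1 ?_
    refine IsLimit.ofIsoLimit ((Functor.Initial.isLimitWhiskerEquiv (Over.forget m) c).symm hc)
      (Cone.ext e.symm (fun j => ?_))
    simp [α, ck])
  have : IsConnected (Over m) := isConnected_of_hasTerminal _
  have hlim : IsLimit ((Over.forget S).mapCone ck) := isLimitOfPreserves (Over.forget S) hck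
  let K' := K ⋙ Over.forget S
  have hwK : ∀ {j l : Over m} (t : j ⟶ l), K.map t ≫ w l = w j := fun {j l} t => (yon S).map_injective (by
    rw [Functor.map_comp, ← cancel_mono em.hom, Category.assoc, ← hw, ← hw, reassoc_of% (hK t), ← D.map_comp,
      Over.w t])
  haveI : ∀ {j l : Over m} (t : j ⟶ l), IsAffineHom (K'.map t) := fun {j l} t => by
    haveI := hwa l
    haveI : IsAffineHom ((K.map t).left ≫ (w l).left) := by
      rw [← Over.comp_left, hwK]; exact hwa j
    exact IsAffineHom.of_comp (K.map t).left (w l).left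
  haveI : ∀ j, CompactSpace ↥(K'.obj j) := fun j => by
    haveI := hwa j
    exact QuasiCompact.compactSpace_of_compactSpace (w j).left
  haveI : ∀ j, QuasiSeparatedSpace ↥(K'.obj j) := fun j => by
    haveI := hwa j
    exact quasiSeparatedSpace_of_quasiSeparated (w j).left
  haveI : IsAffine ((Over.forget S).mapCone ck).pt := hX
  obtain ⟨j, hj⟩ := Scheme.exists_isAffine_of_isLimit K' _ hlim
  refine ⟨j.left, fun k η => ?_⟩
  let t : Over.mk (η ≫ j.hom) ⟶ j := Over.homMk η rfl
  haveI : IsAffine (K'.obj j) := hj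
  exact ⟨W _, isAffine_of_isAffineHom (K'.map t), ⟨ej (Over.mk (η ≫ j.hom))⟩⟩

end

end Groth.Agent.AlgSpLimit
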