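import Groth.Agent.LimSch.DescendCover
import Groth.Agent.LimSch.DescendsHom
import Groth.Agent.LimSch.DescendsSmooth
import Groth.Agent.ConstrFib.Descend
import Groth.Agent.AlgSpc.EtLocInst
import Groth.Agent.AlgSpc.LocSurj
import Groth.Agent.AlgSpc.LfpCancel
import Groth.Agent.AlgSpc.Listed

/-!
# Limits of affine schemes over `S`: auxiliary facts
-/

set_option autoImplicit false
set_option backward.isDefEq.respectTransparency false

universe u

open CategoryTheory CategoryTheory.Limits AlgebraicGeometry Opposite

namespace Groth.Agent.AlgSpLimit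

open _root_.AlgSp Groth.Agent.AlgSpc

noncomputable section

variable {S : Scheme.{u}}

/-- A square in `Over S` is mapped to a pullback square of schemes. -/
theorem isPullback_left {P X Y Z : Over S} {fst : P ⟶ X} {snd : P ⟶ Y} {f : X ⟶ Z} {g : Y ⟶ Z}
    (h : IsPullback fst snd f g) : IsPullback fst.left snd.left f.left g.left :=
  h.map (Over.forget S)

/-- Morphisms of schemes over `S` which are etale surjective give epimorphisms of sheaves. -/
theorem epi_yon_of_etale {W T : Over S} (p : W ⟶ T) [Etale p.left] [Surjective p.left] :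
    Epi ((yon S).map p) := by
  have : Sheaf.IsLocallySurjective ((yon S).map p) := isLocallySurjective_of_exists fun T' g => by
    have h := (IsPullback.of_hasPullback p (pre g))
    have h' := isPullback_left h
    have : Etale (pullback.snd p (pre g)).left := MorphismProperty.of_isPullback h' inferInstance
    have : Surjective (pullback.snd p (pre g)).left :=
      MorphismProperty.of_isPullback h' inferInstance
    refine ⟨_, pullback.snd p (pre g), (yon S).map (pullback.fst p (pre g)), inferInstance, inferInstance,
      inferInstance, ?_⟩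
    rw [← Functor.map_comp, pullback.condition, Functor.map_comp, map_pre]
  infer_instance

/-- An affine etale cover of an etale surjection onto an affine scheme. -/
theorem exists_affine_cover {P Z : Over S} (p : P ⟶ Z) [Etale p.left] [Surjective p.left]
    [CompactSpace ↥Z.left] :
    ∃ (W : Over S) (w : W ⟶ P), IsAffine W.left ∧ Etale w.left ∧ Surjective (w ≫ p).left := by
  obtain ⟨W, w, hW, hw, -, hs⟩ := exists_affine_etale_surjective p.left
  refine ⟨Over.mk (w ≫ P.hom), Over.homMk w, hW, hw, ?_⟩
  rw [Over.comp_left]
  exact hs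

variable {I : Type u} [SmallCategory I] [IsCofiltered I] (D : I ⥤ Over S) (c : Cone D)
  (hc : IsLimit ((Over.forget S).mapCone c))

/-- The system of schemes underlying an affine system is a system with affine transition maps. -/
theorem isAffineHom_forget (hD : ∀ i, IsAffine (D.obj i).left) (i j : I) (f : i ⟶ j) :
    IsAffineHom ((D ⋙ Over.forget S).map f) := by
  have : IsAffine ((D ⋙ Over.forget S).obj i) := hD i
  have : IsAffine ((D ⋙ Over.forget S).obj j) := hD j
  infer_instance

include hc in
/-- A lift along a morphism locally of finite presentation over an object at a stage descends. -/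
theorem exists_stage_factor (hD : ∀ i, IsAffine (D.obj i).left) {i : I} {P E : Over S}
    (p : P ⟶ D.obj i) [CompactSpace ↥P.left] [QuasiSeparatedSpace ↥P.left] (e : E ⟶ P)
    [LocallyOfFinitePresentation e.left] {PT : Over S} {q : PT ⟶ P} {pT : PT ⟶ c.pt}
    (hsq : IsPullback q pT p (c.π.app i)) (m : PT ⟶ E) (hm : m ≫ e = q) :
    ∃ (j : I) (φ : j ⟶ i) (g : pullback p (D.map φ) ⟶ E), g ≫ e = pullback.fst p (D.map φ) ∧
      pullback.lift q (pT ≫ c.π.app j) (by rw [Category.assoc, c.w]; exact hsq.w) ≫ g = m := by
  have := isAffineHom_forget D hD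
  have : ∀ j, CompactSpace ↥((D ⋙ Over.forget S).obj j) := fun j =>
    have : IsAffine ((D ⋙ Over.forget S).obj j) := hD j
    inferInstance
  have : ∀ j, QuasiSeparatedSpace ↥((D ⋙ Over.forget S).obj j) := fun j =>
    have : IsAffine ((D ⋙ Over.forget S).obj j) := hD j
    inferInstance
  let D' := D ⋙ Over.forget S
  let c' : Cone D' := (Over.forget S).mapCone c
  let xi : P.left ⟶ D'.obj i := p.left
  have hX : IsPullback q.left pT.left xi (c'.π.app i) := isPullback_left hsq
  have : ∀ {a b : Over i} (v : a ⟶ b), IsAffineHom ((LimSch.bcDiag D' i xi).map v) := fun v => inferInstance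
  have : ∀ j, CompactSpace ((LimSch.bcDiag D' i xi).obj j) := fun j => inferInstance
  have : ∀ j, QuasiSeparatedSpace ((LimSch.bcDiag D' i xi).obj j) := fun j => inferInstance
  obtain ⟨l, g, hg₁, hg₂⟩ := Scheme.exists_π_app_comp_eq_of_locallyOfFinitePresentation
    (LimSch.bcDiag D' i xi) (LimSch.bcSnd D' i xi) e.left
    (LimSch.bcCone D' c' i xi pT.left q.left hX.flip)
    (LimSch.isLimitBcCone D' c' i xi hc pT.left q.left hX.flip) m.left (by
      ext j : 2
      show pullback.lift (pT.left ≫ c'.π.app j.left) q.left _ ≫ pullback.snd _ _ = m.left ≫ e.left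
      rw [pullback.lift_snd, ← Over.comp_left, hm])
  have hsqS := isPullback_left (IsPullback.of_hasPullback p (D.map l.hom))
  let ψ : (pullback p (D.map l.hom)).left ⟶ (LimSch.bcDiag D' i xi).obj l :=
    pullback.lift (pullback.snd p (D.map l.hom)).left (pullback.fst p (D.map l.hom)).left hsqS.w.symm
  have hψ : ψ ≫ pullback.snd (D'.map l.hom) xi = (pullback.fst p (D.map l.hom)).left :=
    pullback.lift_snd _ _ _
  have hge : g ≫ e.left = pullback.snd (D'.map l.hom) xi := hg₂
  refine ⟨l.left, l.hom, Over.homMk (ψ ≫ g) ?_, Over.OverMorphism.ext ?_, Over.OverMorphism.ext ?_⟩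
  · rw [Category.assoc, ← Over.w e, reassoc_of% hge, reassoc_of% hψ]
    exact Over.w (pullback.fst p (D.map l.hom))
  · simp only [Over.comp_left, Over.homMk_left, Category.assoc, hge]
    exact hψ
  · simp only [Over.comp_left, Over.homMk_left]
    rw [← hg₁, ← Category.assoc]
    congr 1
    show _ = pullback.lift (pT.left ≫ c'.π.app l.left) q.left _
    apply pullback.hom_ext
    · rw [Category.assoc, pullback.lift_fst, pullback.lift_fst, ← Over.comp_left, pullback.lift_snd]
      rfl
    · rw [Category.assoc, pullback.lift_snd, pullback.lift_snd, ← Over.comp_left, pullback.lift_fst]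

end

end Groth.Agent.AlgSpLimit
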