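import Groth.Agent.AlgSpLimit.Lifts
import Groth.Agent.LimSch.OpenMap
import Groth.Prelude.Def_AlgSpRep

/-!
# Locally of finite presentation is being relatively limit preserving
-/

set_option autoImplicit false
set_option backward.isDefEq.respectTransparency false

universe u

open CategoryTheory CategoryTheory.Limits AlgebraicGeometry Opposite

namespace Groth.Agent.AlgSpLimit

open _root_.AlgSp Groth.Agent.AlgSpc Groth.Agent.AlgSpLoc

noncomputable section

variable {S : Scheme.{u}}

/-- Surjectivity of the comparison map for affine limits. -/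
def HasLifts {X Y : Sp S} (f : X ⟶ Y) : Prop :=
  ∀ ⦃I : Type u⦄ [SmallCategory I] [IsCofiltered I] (D : I ⥤ Over S) (c : Cone D),
    IsLimit ((Over.forget S).mapCone c) → (∀ i, IsAffine (D.obj i).left) → IsAffine c.pt.left →
    ∀ (x : (yon S).obj c.pt ⟶ X) (i : I) (y : (yon S).obj (D.obj i) ⟶ Y),
      x ≫ f = (yon S).map (c.π.app i) ≫ y →
      ∃ (i' : I) (φ : i' ⟶ i) (x' : (yon S).obj (D.obj i') ⟶ X),
        (yon S).map (c.π.app i') ≫ x' = x ∧ x' ≫ f = (yon S).map (D.map φ) ≫ y

section Chart

variable {X Y : Sp S} {f : X ⟶ Y} {U V : Over S} {a : (yon S).obj U ⟶ X} {b : (yon S).obj V ⟶ Y}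
  {h : U ⟶ V}

/-- The chart morphism has `P` on a piece which is a limit of schemes with `P` over the target. -/
theorem prop_of_system (P : MorphismProperty Scheme.{u}) [P.IsStableUnderComposition]
    (hP₁ : ∀ {A B : Scheme.{u}} (e : A ⟶ B), Etale e → P e)
    (hP₂ : ∀ {A B : Scheme.{u}} (e : A ⟶ B), P e → LocallyOfFiniteType e)
    (hP₃ : ∀ {A B C : Scheme.{u}} (e : A ⟶ B) (g : B ⟶ C), P (e ≫ g) → LocallyOfFiniteType g → P e)
    (hf : HasLifts f) (ha : RepWith @Etale a) (hb : RepWith @Etale b)
    (w : a ≫ f = (yon S).map h ≫ b) {I : Type u} [SmallCategory I] [IsCofiltered I]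
    (D₀ : I ⥤ Scheme.{u}) (c₀ : Cone D₀) (hc₀ : IsLimit c₀) (hD : ∀ i, IsAffine (D₀.obj i))
    (hpt : IsAffine c₀.pt) (v : D₀ ⟶ (Functor.const I).obj V.left) (hv : ∀ i, P (v.app i))
    (m : c₀.pt ⟶ U.left) [IsOpenImmersion m] (hm : ∀ i, c₀.π.app i ≫ v.app i = m ≫ h.left) :
    P (m ≫ h.left) := by
  obtain ⟨i⟩ := IsCofiltered.nonempty (C := I)
  have hnat : ∀ {j k : I} (φ : j ⟶ k), D₀.map φ ≫ v.app k = v.app j := fun φ => by simpa using v.naturality φ
  let D : I ⥤ Over S :=
    { obj := fun j => Over.mk (v.app j ≫ V.hom)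
      map := fun {j k} φ => Over.homMk (D₀.map φ) (by simp only [Over.mk_hom]; rw [reassoc_of% hnat φ])
      map_id := fun j => Over.OverMorphism.ext (D₀.map_id j)
      map_comp := fun φ ψ => Over.OverMorphism.ext (D₀.map_comp φ ψ) }
  let c : Cone D :=
    { pt := Over.mk (m ≫ U.hom)
      π :=
        { app := fun j => Over.homMk (c₀.π.app j) (by
            simp only [D, Over.mk_hom, Functor.const_obj_obj, reassoc_of% hm j, Over.w h])
          naturality := fun j k φ => Over.OverMorphism.ext (by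
            simpa [D] using (c₀.w φ).symm) } }
  have hc : IsLimit ((Over.forget S).mapCone c) :=
    IsLimit.ofIsoLimit hc₀ (Cone.ext (Iso.refl _) (fun j => (Category.id_comp _).symm))
  let vi : D.obj i ⟶ V := Over.homMk (v.app i) rfl
  let ι₀ : c.pt ⟶ U := Over.homMk m rfl
  have hι : c.π.app i ≫ vi = ι₀ ≫ h := Over.OverMorphism.ext (hm i)
  obtain ⟨i', φ, x', hx', hx'f⟩ := hf D c hc hD hpt ((yon S).map ι₀ ≫ a) i ((yon S).map vi ≫ b) (by
    rw [Category.assoc, w, ← Functor.map_comp_assoc, ← Functor.map_comp_assoc, hι])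
  obtain ⟨Q, gQ, q₂, sqQ⟩ := exists_sq ha.1 x'
  have : Etale q₂.left := ha.2 x' gQ q₂ sqQ
  obtain ⟨RV, rs, rt, sqV⟩ := exists_sq hb.1 b
  have hrt : Etale rt.left := hb.2 b rs rt sqV
  let Δ : V ⟶ RV := pre (sqV.lift (𝟙 _) (𝟙 _) rfl)
  have hΔ₁ : Δ ≫ pre rs = 𝟙 V := (yon S).map_injective (by simp [Δ])
  have hΔ₂ : Δ ≫ rt = 𝟙 V := (yon S).map_injective (by simp [Δ])
  have : Etale Δ.left := by
    have : Etale (Δ.left ≫ rt.left) := by
      rw [← Over.comp_left, hΔ₂]; exact inferInstanceAs (Etale (𝟙 V.left))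
    exact MorphismProperty.of_postcomp (W := @Etale) (W' := @Etale) Δ.left rt.left hrt this
  let v' : Q ⟶ V := q₂ ≫ D.map φ ≫ vi
  have hQ : (yon S).map (pre gQ ≫ h) ≫ b = (yon S).map v' ≫ b := by
    rw [Functor.map_comp_assoc, ← w, map_pre, reassoc_of% sqQ.w, hx'f]
    simp [v']
  let ω : Q ⟶ RV := pre (sqV.lift _ _ hQ)
  have hω₁ : ω ≫ pre rs = pre gQ ≫ h := (yon S).map_injective (by simp [ω])
  have hω₂ : ω ≫ rt = v' := (yon S).map_injective (by simp [ω])
  have : Etale (pullback.fst ω Δ).left :=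
    MorphismProperty.of_isPullback (isPullback_left (IsPullback.of_hasPullback ω Δ)).flip inferInstance
  let r : pullback ω Δ ⟶ U := pullback.fst ω Δ ≫ pre gQ
  have hr : r ≫ h = pullback.fst ω Δ ≫ v' := by
    have e₁ : r ≫ h = pullback.snd ω Δ := by
      simp only [r, Category.assoc, ← hω₁, pullback.condition_assoc, hΔ₁, Category.comp_id]
    have e₂ : pullback.fst ω Δ ≫ v' = pullback.snd ω Δ := by
      simp only [← hω₂, pullback.condition_assoc, hΔ₂, Category.comp_id]
    rw [e₁, e₂]
  have hrP : P (r.left ≫ h.left) := by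
    rw [← Over.comp_left, hr]
    simp only [v', Over.comp_left]
    refine P.comp_mem _ _ (hP₁ _ inferInstance) (P.comp_mem _ _ (hP₁ _ inferInstance) ?_)
    have : (D.map φ).left ≫ vi.left = v.app i' := hnat φ
    rw [this]
    exact hv i'
  let s : c.pt ⟶ Q := pre (sqQ.lift ((yon S).map ι₀) ((yon S).map (c.π.app i')) hx'.symm)
  have hs₁ : s ≫ pre gQ = ι₀ := (yon S).map_injective (by simp [s])
  have hs₂ : s ≫ q₂ = c.π.app i' := (yon S).map_injective (by simp [s])
  let s₂ : c.pt ⟶ pullback ω Δ := pullback.lift s (ι₀ ≫ h) ((yon S).map_injective (sqV.hom_ext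
    (by
      have : (s ≫ ω) ≫ pre rs = ((ι₀ ≫ h) ≫ Δ) ≫ pre rs := by
        rw [Category.assoc, hω₁, reassoc_of% hs₁, Category.assoc, hΔ₁, Category.comp_id]
      simpa only [Functor.map_comp, map_pre, Category.assoc] using congrArg (yon S).map this)
    (by
      have : (s ≫ ω) ≫ rt = ((ι₀ ≫ h) ≫ Δ) ≫ rt := by
        rw [Category.assoc, hω₂, Category.assoc _ Δ, hΔ₂, Category.comp_id]
        simp only [v', reassoc_of% hs₂, reassoc_of% (c.w φ), hι]
      simpa only [Functor.map_comp, Category.assoc] using congrArg (yon S).map this)))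
  have hs₂r : s₂ ≫ r = ι₀ := by simp only [s₂, r, pullback.lift_fst_assoc, hs₁]
  have hlftr : LocallyOfFiniteType r.left :=
    have : LocallyOfFiniteType (r.left ≫ h.left) := hP₂ _ hrP
    locallyOfFiniteType_of_comp r.left h.left
  have hs₂P : P s₂.left := hP₃ _ r.left (by
    rw [← Over.comp_left, hs₂r]
    exact hP₁ _ (inferInstanceAs (Etale m))) hlftr
  have : m ≫ h.left = s₂.left ≫ r.left ≫ h.left := by
    rw [← Category.assoc, ← Over.comp_left, hs₂r]
    rfl
  rw [this]
  exact P.comp_mem _ _ hs₂P hrP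

end Chart

/-- An algebra of finite type is the union of a system of algebras of finite presentation. -/
def relIdeal {P : Type u} [CommRing P] (J : Ideal P) (s : Finset J) : Ideal P :=
  Ideal.span (Subtype.val '' (s : Set J))

theorem relIdeal_mono {P : Type u} [CommRing P] (J : Ideal P) {s t : Finset J} (h : s ≤ t) :
    relIdeal J s ≤ relIdeal J t :=
  Ideal.span_mono (Set.image_mono (Finset.coe_subset.mpr h))

theorem relIdeal_le {P : Type u} [CommRing P] (J : Ideal P) (s : Finset J) : relIdeal J s ≤ J :=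
  Ideal.span_le.mpr (by rintro _ ⟨x, -, rfl⟩; exact x.2)

section Rel

variable {P B : Type u} [CommRing P] [CommRing B] (π : P →+* B) (hπ : Function.Surjective π)

theorem factor_refl (s : Finset (RingHom.ker π)) (h : relIdeal _ s ≤ relIdeal _ s) :
    Ideal.Quotient.factor h = RingHom.id (P ⧸ relIdeal (RingHom.ker π) s) :=
  Ideal.Quotient.ringHom_ext (RingHom.ext fun x => Ideal.Quotient.factor_mk h x)

theorem factor_trans {s t u' : Finset (RingHom.ker π)} (h₁ : relIdeal _ s ≤ relIdeal _ t)
    (h₂ : relIdeal _ t ≤ relIdeal _ u') (h₃ : relIdeal (RingHom.ker π) s ≤ relIdeal _ u') :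
    Ideal.Quotient.factor h₃ = (Ideal.Quotient.factor h₂).comp (Ideal.Quotient.factor h₁) :=
  Ideal.Quotient.ringHom_ext (RingHom.ext fun x => by
    simp only [RingHom.comp_apply, Ideal.Quotient.factor_mk])

/-- The rings `P / (finitely many relations)`. -/
def relFun : Finset (RingHom.ker π) ⥤ CommRingCat.{u} where
  obj s := CommRingCat.of (P ⧸ relIdeal _ s)
  map {s t} φ := CommRingCat.ofHom (Ideal.Quotient.factor (relIdeal_mono _ φ.le))
  map_id s := CommRingCat.hom_ext (factor_refl π s le_rfl)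
  map_comp f g := CommRingCat.hom_ext (factor_trans π (relIdeal_mono _ f.le) (relIdeal_mono _ g.le) (relIdeal_mono _ (f ≫ g).le))

/-- The projection to `B`. -/
def relProj (s : Finset (RingHom.ker π)) : P ⧸ relIdeal (RingHom.ker π) s →+* B :=
  Ideal.Quotient.lift (relIdeal _ s) π (fun _ hx => relIdeal_le _ s hx)

theorem relProj_mk (s : Finset (RingHom.ker π)) (x : P) :
    relProj π s (Ideal.Quotient.mk _ x) = π x :=
  Ideal.Quotient.lift_mk _ _ _

theorem relProj_factor {s t : Finset (RingHom.ker π)} (h : relIdeal _ s ≤ relIdeal _ t) :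
    (relProj π t).comp (Ideal.Quotient.factor h) = relProj π s :=
  Ideal.Quotient.ringHom_ext (RingHom.ext fun x => by
    simp only [RingHom.comp_apply, Ideal.Quotient.factor_mk, relProj_mk])

/-- The cocone with vertex `B`. -/
def relCocone : Cocone (relFun π) where
  pt := CommRingCat.of B
  ι :=
    { app := fun s => (CommRingCat.ofHom (relProj π s) : CommRingCat.of (P ⧸ relIdeal (RingHom.ker π) s) ⟶ CommRingCat.of B)
      naturality := fun s t φ => CommRingCat.hom_ext (relProj_factor π (relIdeal_mono _ φ.le)) }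

include hπ in
/-- `Spec B` is the limit. -/
theorem nonempty_isLimit_relCone :
    Nonempty (IsLimit (Scheme.Spec.mapCone (relCocone π).op)) := by
  classical
  have : ReflectsColimit (relFun π) (forget CommRingCat.{u}) :=
    reflectsColimit_of_reflectsIsomorphisms _ _
  have hcol : IsColimit (relCocone π) := by
    refine isColimitOfReflects (forget CommRingCat.{u}) (Types.FilteredColimit.isColimitOf _ _
      (fun b => ?_) fun i j xi xj h => ?_)
    · obtain ⟨p, rfl⟩ := hπ b
      exact ⟨∅, Ideal.Quotient.mk (relIdeal (RingHom.ker π) ∅) p, (relProj_mk π ∅ p).symm⟩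
    · obtain ⟨p, rfl⟩ := Ideal.Quotient.mk_surjective xi
      obtain ⟨q, rfl⟩ := Ideal.Quotient.mk_surjective xj
      have h' : relProj π i (Ideal.Quotient.mk _ p) = relProj π j (Ideal.Quotient.mk _ q) := h
      rw [relProj_mk, relProj_mk] at h'
      have hpq : p - q ∈ RingHom.ker π := by
        rw [RingHom.mem_ker, map_sub, sub_eq_zero]
        exact h'
      let k : Finset (RingHom.ker π) := i ∪ j ∪ {⟨p - q, hpq⟩}
      have hik : i ≤ k := fun x hx => by simp [k, hx]
      have hjk : j ≤ k := fun x hx => by simp [k, hx]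
      refine ⟨k, homOfLE hik, homOfLE hjk, ?_⟩
      show Ideal.Quotient.factor (relIdeal_mono _ hik) (Ideal.Quotient.mk _ p) =
        Ideal.Quotient.factor (relIdeal_mono _ hjk) (Ideal.Quotient.mk _ q)
      rw [Ideal.Quotient.factor_mk, Ideal.Quotient.factor_mk]
      exact Ideal.Quotient.eq.mpr (Ideal.subset_span ⟨⟨p - q, hpq⟩, by simp [k], rfl⟩)
  exact ⟨isLimitOfPreserves Scheme.Spec hcol.op⟩

end Rel

theorem finitePresentation_rel {A B : Type u} [CommRing A] [CommRing B] [Algebra A B] {n : ℕ}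
    (π : MvPolynomial (Fin n) A →ₐ[A] B) (s : Finset (RingHom.ker π.toRingHom)) :
    ((Ideal.Quotient.mk (relIdeal _ s)).comp MvPolynomial.C).FinitePresentation := by
  have : Algebra.FinitePresentation A (MvPolynomial (Fin n) A ⧸ relIdeal (RingHom.ker π.toRingHom) s) :=
    Algebra.FinitePresentation.quotient (Submodule.fg_span (s.finite_toSet.image _))
  exact RingHom.finitePresentation_algebraMap.mpr this

/-- Lifting points of affine limits implies local finite presentation. -/
theorem locP_lfp_of_hasLifts {X Y : Sp S} (hX : IsAlgSpace X) (hY : IsAlgSpace Y) (f : X ⟶ Y)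
    (hf : HasLifts f) : LocP @LocallyOfFinitePresentation f := by
  obtain ⟨U, V, a, b, h, ha, has, hb, -, w⟩ := exists_chart hX hY f
  have := (listed_etLoc (P := @LocallyOfFinitePresentation) (by simp)).1
  refine locP_of_chart ha has hb w ?_
  have hpiece : ∀ (V₀ : V.left.affineOpens) (U₀ : U.left.affineOpens) (_ : U₀.1 ≤ h.left ⁻¹ᵁ V₀.1),
      LocallyOfFinitePresentation (U₀.2.fromSpec ≫ h.left) := by
    intro V₀ U₀ e
    let A : Type u := Γ(V.left, V₀.1)
    let B : Type u := Γ(U.left, U₀.1)
    let σ := h.left.appLE V₀.1 U₀.1 e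
    algebraize [σ.hom]
    have hσ : Spec.map σ ≫ V₀.2.fromSpec = U₀.2.fromSpec ≫ h.left := V₀.2.SpecMap_appLE_fromSpec _ U₀.2 e
    -- finite type
    let T : Finset B → Subalgebra A B := fun s => Algebra.adjoin A (s : Set B)
    have hT : Monotone T := fun s t hst => Algebra.adjoin_mono hst
    have hcov : ∀ x : B, ∃ s, x ∈ T s := fun x => ⟨{x}, Algebra.subset_adjoin (by simp)⟩
    let vT : LimSch.subalgDiag T hT ⟶ (Functor.const _).obj V.left :=
      { app := fun s => Spec.map (CommRingCat.ofHom (algebraMap A (T s.unop))) ≫ V₀.2.fromSpec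
        naturality := fun s t φ => by
          simp only [LimSch.subalgDiag, Functor.comp_map, Functor.op_map, Scheme.Spec_map,
            Quiver.Hom.unop_op, Functor.const_obj_map, Category.comp_id, ← Spec.map_comp_assoc]
          rfl }
    have hT' := prop_of_system (P := @LocallyOfFiniteType) (fun e _ => inferInstance) (fun _ h => h)
      (fun e g _ _ => locallyOfFiniteType_of_comp e g) hf ha hb w (LimSch.subalgDiag T hT)
      (LimSch.subalgCone T hT) (LimSch.isLimitSubalgCone T hT hcov)
      (fun s => by dsimp [LimSch.subalgDiag]; infer_instance) (inferInstanceAs (IsAffine (Spec _))) vT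
      (fun s => by
        have : Algebra.FiniteType A (T s.unop) :=
          (Subalgebra.fg_iff_finiteType _).mp ⟨s.unop, rfl⟩
        have : LocallyOfFiniteType (Spec.map (CommRingCat.ofHom (algebraMap A (T s.unop)))) :=
          (HasRingHomProperty.Spec_iff (P := @LocallyOfFiniteType)).mpr
            (RingHom.finiteType_algebraMap.mpr this)
        exact inferInstanceAs (LocallyOfFiniteType (_ ≫ _)))
      U₀.2.fromSpec (fun s => by
        rw [← hσ]
        show Spec.map _ ≫ Spec.map _ ≫ _ = _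
        rw [← Spec.map_comp_assoc]
        rfl)
    have : LocallyOfFiniteType (Spec.map σ) := by
      have : LocallyOfFiniteType (Spec.map σ ≫ V₀.2.fromSpec) := by rw [hσ]; exact hT'
      exact locallyOfFiniteType_of_comp _ V₀.2.fromSpec
    have hft : Algebra.FiniteType A B := (HasRingHomProperty.Spec_iff (P := @LocallyOfFiniteType)).mp this
    obtain ⟨n, π, hπ⟩ := Algebra.FiniteType.iff_quotient_mvPolynomial''.mp hft
    obtain ⟨hlim⟩ := nonempty_isLimit_relCone π.toRingHom hπ
    let vR : (relFun π.toRingHom).op ⋙ Scheme.Spec ⟶ (Functor.const _).obj V.left :=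
      { app := fun s => Spec.map (CommRingCat.ofHom
          ((Ideal.Quotient.mk (relIdeal _ s.unop)).comp MvPolynomial.C)) ≫ V₀.2.fromSpec
        naturality := fun s t φ => by
          simp only [Functor.comp_map, Functor.op_map, Scheme.Spec_map, Quiver.Hom.unop_op,
            Functor.const_obj_map, Category.comp_id, ← Spec.map_comp_assoc]
          rfl }
    exact prop_of_system (P := @LocallyOfFinitePresentation) (fun e _ => inferInstance)
      (fun e _ => inferInstance) (fun e g _ _ => lfp_of_comp e g) hf ha hb w _ _ hlim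
      (fun s => by dsimp; infer_instance) (inferInstanceAs (IsAffine (Spec _))) vR
      (fun s => by
        have : LocallyOfFinitePresentation (Spec.map (CommRingCat.ofHom
            ((Ideal.Quotient.mk (relIdeal (RingHom.ker π.toRingHom) s.unop)).comp MvPolynomial.C))) :=
          (HasRingHomProperty.Spec_iff (P := @LocallyOfFinitePresentation)).mpr (finitePresentation_rel π s.unop)
        exact inferInstanceAs (LocallyOfFinitePresentation (_ ≫ _)))
      U₀.2.fromSpec (fun s => by
        rw [← hσ]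
        show Spec.map _ ≫ Spec.map _ ≫ _ = _
        rw [← Spec.map_comp_assoc]
        congr 2
        exact CommRingCat.hom_ext (RingHom.ext fun r => π.commutes r))
  have hsub : ∀ x : U.left, ∃ (V₀ : V.left.affineOpens) (U₀ : U.left.affineOpens),
      x ∈ U₀.1 ∧ U₀.1 ≤ h.left ⁻¹ᵁ V₀.1 := fun x => by
    obtain ⟨V₀, hV₀, hxV, -⟩ := exists_isAffineOpen_mem_and_subset (x := h.left x) (U := ⊤) trivial
    obtain ⟨U₀, hU₀, hxU, hle⟩ := exists_isAffineOpen_mem_and_subset (x := x) (U := h.left ⁻¹ᵁ V₀) hxV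
    exact ⟨⟨V₀, hV₀⟩, ⟨U₀, hU₀⟩, hxU, hle⟩
  choose V₀ U₀ hx hle using hsub
  refine (IsZariskiLocalAtSource.iff_of_iSup_eq_top (P := @LocallyOfFinitePresentation)
    (fun x => (U₀ x).1) (top_le_iff.1 fun x _ => TopologicalSpace.Opens.mem_iSup.2 ⟨x, hx x⟩)).2 fun x => ?_
  have := hpiece _ _ (hle x)
  rw [show (U₀ x).1.ι = (U₀ x).2.isoSpec.hom ≫ (U₀ x).2.fromSpec by
    rw [IsAffineOpen.fromSpec, Iso.hom_inv_id_assoc]]
  rw [Category.assoc]
  infer_instance

/-! ### Relation with `IsRelLimitPreserving` -/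

theorem equiv_map {F : Sp S} {T T' : Over S} (q : T' ⟶ T) (g : (yon S).obj T ⟶ F) :
    (J S).uliftYonedaEquiv.{u + 1} ((yon S).map q ≫ g) =
      F.obj.map q.op ((J S).uliftYonedaEquiv.{u + 1} g) :=
  ((J S).uliftYonedaEquiv_naturality g q).symm

theorem equiv_comp {F G : Sp S} {T : Over S} (g : (yon S).obj T ⟶ F) (a : F ⟶ G) :
    (J S).uliftYonedaEquiv.{u + 1} (g ≫ a) = a.hom.app (op T) ((J S).uliftYonedaEquiv.{u + 1} g) :=
  GrothendieckTopology.uliftYonedaEquiv_comp (J S) g a

theorem isRelLimitPreserving_of_locP {X Y : Sp S} (hX : IsAlgSpace X) (hY : IsAlgSpace Y) (f : X ⟶ Y)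
    (hf : LocP @LocallyOfFinitePresentation f) : IsRelLimitPreserving f.hom := by
  intro T y I _ _ D c hc hD hT
  let D' : I ⥤ Over S := D ⋙ Over.map T.hom
  let c' : Cone D' := (Over.map T.hom).mapCone c
  have hc' : IsLimit ((Over.forget S).mapCone c') :=
    IsLimit.ofIsoLimit hc (Cone.ext (Iso.refl _) (fun j => (Category.id_comp _).symm))
  let e := fun (F : Sp S) (T : Over S) =>
    ((J S).uliftYonedaEquiv.{u + 1} : ((yon S).obj T ⟶ F) ≃ F.obj.obj (op T))
  refine ⟨Types.FilteredColimit.isColimitOf' _ _ (fun ξ => ?_) (fun i ξ₁ ξ₂ h => ?_)⟩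
  · obtain ⟨i⟩ := IsCofiltered.nonempty (C := I)
    let x := (e X c'.pt).symm ξ.1
    let yi := (yon S).map (overHom T (D.obj i)) ≫ (e Y T).symm y
    obtain ⟨j, φ, x', hx', hxf⟩ := exists_stage_lift D' c' hc' hX hY f hf hD hT x i yi (by
      apply (e Y c'.pt).injective
      simp only [e, x, yi, equiv_comp, Equiv.apply_symm_apply, ← Functor.map_comp_assoc, equiv_map]
      rw [show c'.π.app i ≫ overHom T (D.obj i) = overHom T c.pt from map_comp_overHom T (c.π.app i)]
      exact ξ.2)
    refine ⟨op j, ⟨e X (D'.obj j) x', ?_⟩, Subtype.ext ?_⟩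
    · refine (equiv_comp x' f).symm.trans ?_
      rw [hxf]
      simp only [yi, e, ← Functor.map_comp_assoc, equiv_map, Equiv.apply_symm_apply]
      rw [show D'.map φ ≫ overHom T (D.obj i) = overHom T (D.obj j) from map_comp_overHom T (D.map φ)]
      rfl
    · have := congrArg (e X c'.pt) hx'
      simp only [e, x, equiv_map, Equiv.apply_symm_apply] at this
      exact this.symm
  · let x₁ := (e X (D'.obj i.unop)).symm ξ₁.1
    let x₂ := (e X (D'.obj i.unop)).symm ξ₂.1
    have : IsAffine (D'.obj i.unop).left := hD i.unop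
    have : IsIso (𝟙 c'.pt) := IsIso.id _
    have : IsIso (𝟙 (D'.obj i.unop)) := IsIso.id _
    obtain ⟨j, φ, hj⟩ := exists_stage_eq D' c' hc' hX hY f hf hD (𝟙 (D'.obj i.unop))
      (q := c'.π.app i.unop) (pT := 𝟙 c'.pt) (IsPullback.of_vert_isIso ⟨by simp⟩) x₁ x₂
      (by
        apply (e Y _).injective
        simp only [e, x₁, x₂, equiv_comp, Equiv.apply_symm_apply]
        exact ξ₁.2.trans ξ₂.2.symm)
      (by
        apply (e X _).injective
        simp only [e, x₁, x₂, equiv_map, Equiv.apply_symm_apply]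
        exact congrArg Subtype.val h)
    refine ⟨op j, φ.op, Subtype.ext ?_⟩
    let l : D'.obj j ⟶ pullback (𝟙 (D'.obj i.unop)) (D'.map φ) :=
      pullback.lift (D'.map φ) (𝟙 _) (by simp)
    have := congrArg ((yon S).map l ≫ ·) hj
    simp only [← Functor.map_comp_assoc, l, pullback.lift_fst] at this
    have := congrArg (e X _) this
    simp only [e, x₁, x₂, equiv_map, Equiv.apply_symm_apply] at this
    exact this

theorem hasLifts_of_isRelLimitPreserving {X Y : Sp S} (f : X ⟶ Y)
    (hf : IsRelLimitPreserving f.hom) : HasLifts f := by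
  intro I _ _ D c hc hD hpt x i y hxy
  let T := D.obj i
  let D₁ : Over i ⥤ Over T.left :=
    { obj := fun l => Over.mk (D.map l.hom).left
      map := fun {l l'} φ => Over.homMk (D.map φ.left).left (by
        simp only [Over.mk_hom]
        rw [← Over.comp_left, ← D.map_comp, Over.w φ])
      map_id := fun l => Over.OverMorphism.ext (by simp)
      map_comp := fun φ ψ => Over.OverMorphism.ext (by simp) }
  let c₁ : Cone D₁ :=
    { pt := Over.mk (c.π.app i).left
      π :=
        { app := fun l => Over.homMk (c.π.app l.left).left (by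
            simp only [D₁, Over.mk_hom, Functor.const_obj_obj]
            rw [← Over.comp_left, c.w])
          naturality := fun l l' φ => Over.OverMorphism.ext (by
            simp only [D₁, Functor.const_obj_map, Over.comp_left, Over.id_left, Category.id_comp,
              Over.homMk_left]
            exact (congrArg CommaMorphism.left (c.w φ.left)).symm) } }
  have hc₁ : IsLimit ((Over.forget T.left).mapCone c₁) :=
    IsLimit.ofIsoLimit ((Functor.Initial.isLimitWhiskerEquiv (Over.forget i) _).symm hc)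
      (Cone.ext (Iso.refl _) (fun j => (Category.id_comp _).symm))
  let y₀ := (J S).uliftYonedaEquiv.{u + 1} y
  obtain ⟨hcol⟩ := hf T y₀ D₁ c₁ hc₁ (fun l => hD l.left) hpt
  let α : (Over.map T.hom).obj c₁.pt ⟶ c.pt := Over.homMk (𝟙 c.pt.left) (by
    simp only [Over.map_obj_hom, c₁, Over.mk_hom, T]
    rw [Over.w]; exact Category.id_comp _)
  let ξ : (fiberFun f.hom T y₀).obj (op c₁.pt) :=
    ⟨(J S).uliftYonedaEquiv.{u + 1} ((yon S).map α ≫ x), by
      rw [← equiv_comp, Category.assoc, hxy, ← Functor.map_comp_assoc]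
      rw [equiv_map]
      have : α ≫ c.π.app i = overHom T c₁.pt := Over.OverMorphism.ext (Category.id_comp _)
      rw [this]⟩
  obtain ⟨l, ξ', hξ'⟩ := Types.jointly_surjective_of_isColimit hcol ξ
  let β : D.obj l.unop.left ⟶ (Over.map T.hom).obj (D₁.obj l.unop) :=
    Over.homMk (𝟙 (D.obj l.unop.left).left) (by
      simp only [Over.map_obj_hom, D₁, Over.mk_hom, T]
      rw [Over.w]; exact Category.id_comp _)
  refine ⟨l.unop.left, l.unop.hom,
    (yon S).map β ≫ (J S).uliftYonedaEquiv.{u + 1}.symm ξ'.1, ?_, ?_⟩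
  · let α' : c.pt ⟶ (Over.map T.hom).obj c₁.pt := Over.homMk (𝟙 c.pt.left) (by
      simp only [Over.map_obj_hom, c₁, Over.mk_hom, T]
      rw [Over.w]; exact Category.id_comp _)
    have hβ : c.π.app l.unop.left ≫ β = α' ≫ (Over.map T.hom).map (c₁.π.app l.unop) :=
      Over.OverMorphism.ext ((Category.comp_id _).trans (Category.id_comp _).symm)
    have h₁ : (yon S).map ((Over.map T.hom).map (c₁.π.app l.unop)) ≫
        (J S).uliftYonedaEquiv.{u + 1}.symm ξ'.1 = (yon S).map α ≫ x := by
      apply ((J S).uliftYonedaEquiv.{u + 1}).injective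
      rw [equiv_map, Equiv.apply_symm_apply]
      exact congrArg Subtype.val hξ'
    rw [← Functor.map_comp_assoc, hβ, Functor.map_comp_assoc, h₁, ← Functor.map_comp_assoc,
      show α' ≫ α = 𝟙 _ from Over.OverMorphism.ext (Category.id_comp _)]
    exact (congrArg (· ≫ x) ((yon S).map_id c.pt)).trans (Category.id_comp _)
  · apply ((J S).uliftYonedaEquiv.{u + 1}).injective
    rw [equiv_comp, equiv_map, Equiv.apply_symm_apply, equiv_map, NatTrans.naturality_apply]
    erw [ξ'.2]
    erw [← Functor.map_comp_apply, ← op_comp]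
    have hβ : β ≫ overHom T (D₁.obj l.unop) = D.map l.unop.hom :=
      Over.OverMorphism.ext (Category.id_comp _)
    exact congrArg (fun q : D.obj l.unop.left ⟶ T => Y.obj.map q.op y₀) hβ

end

end Groth.Agent.AlgSpLimit
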