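import Groth.Agent.AlgSpLimit.AffineLimit
import Groth.Agent.AlgSpc.DecentMor

/-!
# Affineness of a base change descends along limits of algebraic spaces
-/

set_option autoImplicit false
set_option backward.isDefEq.respectTransparency false
set_option linter.style.haveILetI false

universe u

open CategoryTheory CategoryTheory.Limits AlgebraicGeometry Opposite

namespace Groth.Agent.AlgSpLimit

open _root_.AlgSp Groth.Agent.AlgSpc

noncomputable section

variable {S : Scheme.{u}} {I : Type u} [SmallCategory I] [IsCofiltered I] (D : I ⥤ Sp S)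
  (hDa : ∀ (i j : I) (φ : i ⟶ j), IsAffineMor (D.map φ))
  (c : Cone D) (hc : IsLimit c) {i₀ : I}

set_option maxHeartbeats 1000000 in
include hDa hc in
/-- If a base change to the limit is affine, so is the base change to all late enough stages. -/
theorem descend_affine [QuasiSeparatedSpace ↥S] (hD : ∀ i, IsAlgSpace (D.obj i))
    {X₀ Y₀ : Sp S} (hX₀ : IsAlgSpace X₀) (hY₀ : IsAlgSpace Y₀) (f₀ : X₀ ⟶ Y₀) (b₀ : Y₀ ⟶ D.obj i₀)
    (hXqc : IsQuasiCompactSp X₀) (hXqs : IsQuasiSeparatedSp X₀)
    (hYqc : IsQuasiCompactSp Y₀) (hYqs : IsQuasiSeparatedSp Y₀)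
    {X Y : Sp S} {f : X ⟶ Y} {pY : Y ⟶ Y₀} {qY : Y ⟶ c.pt}
    (hY : IsPullback pY qY b₀ (c.π.app i₀)) {pX : X ⟶ X₀} (hX : IsPullback pX f f₀ pY)
    (hf : IsAffineMor f) :
    ∃ (i : I) (φ : i ⟶ i₀), ∀ (k : I) (η : k ⟶ i) (Xi Yi : Sp S) (fi : Xi ⟶ Yi) (pYi : Yi ⟶ Y₀) (qYi : Yi ⟶ D.obj k)
      (_ : IsPullback pYi qYi b₀ (D.map (η ≫ φ))) (pXi : Xi ⟶ X₀) (_ : IsPullback pXi fi f₀ pYi),
      IsAffineMor fi := by
  obtain ⟨V, bV, hV, hb, hbs⟩ := (isQuasiCompactSp_iff_affine hY₀).1 hYqc
  haveI := hV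
  have sU := IsPullback.of_hasPullback f₀ bV
  let U := pullback f₀ bV
  have hUa : IsAlgSpace U := isAlgSpace_of_isPullback hX₀ hY₀ (IsAlgSpace.yon_obj V) sU
  have hUc : IsQuasiCompactSp U :=
    isQuasiCompactSp_pullback (AlgSpDesc.isQuasiCompactMor_of_qc_qs hX₀ hY₀ hXqc hYqs f₀) bV
  have hbd : RepWith @QuasiCompact (pullback.diagonal bV) :=
    repWith_diagonal_of_repWith (P := @QuasiSeparated) (fun _ _ k (hk : QuasiSeparated k) => hk.1)
      ⟨hb.1, fun _ _ g' fst snd sq => quasiSeparated_of_sq bV g' fst snd sq⟩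
  obtain ⟨F, φ, ψ, hF, hsq, hφ, hψ⟩ := exists_affine_system D hDa (bV ≫ b₀) hV
  obtain ⟨C, hC, φ₁, hsq₁⟩ := exists_affine_limit D c hc (bV ≫ b₀) F φ ψ hF hsq hφ hψ
  let D' := F ⋙ Over.forget S
  haveI : ∀ k, IsAffine (D'.obj k) := hF
  haveI hCaff : IsAffine C.pt.left := Scheme.isAffine_of_isLimit ((Over.forget S).mapCone C) hC
  let top : Over i₀ := Over.mk (𝟙 i₀)
  have key : ∀ {B' Xi Yi : Sp S} {d : B' ⟶ D.obj i₀} {pYi : Yi ⟶ Y₀} {qYi : Yi ⟶ B'}
      (hYi : IsPullback pYi qYi b₀ d) {pXi : Xi ⟶ X₀} {fi : Xi ⟶ Yi} (hXi : IsPullback pXi fi f₀ pYi)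
      {W : Over S} {φW : (yon S).obj W ⟶ B'} {ψW : W ⟶ V}
      (_ : IsPullback φW ((yon S).map ψW) d (bV ≫ b₀)),
      ∃ (b' : (yon S).obj W ⟶ Yi) (a' : pullback (pullback.snd f₀ bV) ((yon S).map ψW) ⟶ Xi),
        RepWith @Etale b' ∧ RepWith @Surjective b' ∧ IsPullback a' (pullback.snd _ _) fi b' := by
    intro B' Xi Yi d pYi qYi hYi pXi fi hXi W φW ψW hW
    let b' := hYi.lift ((yon S).map ψW ≫ bV) φW (by rw [Category.assoc]; exact hW.w.symm)
    have sb : IsPullback ((yon S).map ψW) b' bV pYi :=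
      IsPullback.of_bot (by rw [hYi.lift_snd]; exact hW.flip) (hYi.lift_fst _ _ _).symm hYi
    have s := (IsPullback.of_hasPullback (pullback.snd f₀ bV) ((yon S).map ψW)).paste_horiz sU
    rw [show (yon S).map ψW ≫ bV = b' ≫ pYi from (hYi.lift_fst _ _ _).symm] at s
    let a' := hXi.lift _ (pullback.snd (pullback.snd f₀ bV) ((yon S).map ψW) ≫ b') (s.w.trans (Category.assoc _ _ _).symm)
    exact ⟨b', a', repWith_of_isPullback sb hb, repWith_of_isPullback sb hbs,
      IsPullback.of_right (by rw [hXi.lift_fst]; exact s) (hXi.lift_snd _ _ _) hXi⟩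
  -- the system over the charts
  let u : U ⟶ (yon S).obj V := pullback.snd f₀ bV
  let E : Over i₀ ⥤ Sp S :=
    { obj := fun j => pullback u ((yon S).map (ψ j))
      map := fun {j l} t => pullback.map _ _ _ _ (𝟙 _) ((yon S).map (F.map t)) (𝟙 _) (by simp)
        (by rw [← Functor.map_comp, hψ, Category.comp_id])
      map_id := fun j => by apply pullback.hom_ext <;> simp
      map_comp := fun t t' => by apply pullback.hom_ext <;> simp }
  have hEa : ∀ (j l : Over i₀) (t : j ⟶ l), IsAffineMor (E.map t) := fun j l t => by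
    have sq : IsPullback (E.map t) (pullback.snd u _) (pullback.snd u _) ((yon S).map (F.map t)) :=
      IsPullback.of_right (h₁₂ := pullback.fst _ _) (h₂₂ := (yon S).map (ψ l))
        (by
          rw [show E.map t ≫ pullback.fst _ _ = pullback.fst u ((yon S).map (ψ j)) by simp [E],
            ← Functor.map_comp, hψ]
          exact IsPullback.of_hasPullback _ _)
        (by simp [E]) (IsPullback.of_hasPullback _ _)
    haveI := hF j
    haveI := hF l
    exact (repWith_affineHom_iff _).2 (repWith_of_isPullback sq.flip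
      ((repWith_yon_map_iff _ _).2 (isAffineHom_of_isAffine (F.map t).left)))
  have hEalg : ∀ j, IsAlgSpace (E.obj j) := fun j =>
    isAlgSpace_of_isPullback hUa (IsAlgSpace.yon_obj V) (IsAlgSpace.yon_obj _) (IsPullback.of_hasPullback u _)
  have hEfst : ∀ j, RepWith @IsAffineHom (pullback.fst u ((yon S).map (ψ j))) := fun j => by
    haveI := hF j
    exact repWith_of_isPullback (IsPullback.of_hasPullback u _).flip
      ((repWith_yon_map_iff _ _).2 (isAffineHom_of_isAffine (ψ j).left))
  have hEc : ∀ j, IsQuasiCompactSp (E.obj j) := fun j =>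
    (isQuasiCompactMor_of_repWith (repWith_mono (fun _ _ k (hk : IsAffineHom k) => inferInstanceAs (QuasiCompact k))
      (hEfst j))) hUa hUc (𝟙 _) _ _ (IsPullback.id_vert (pullback.fst u ((yon S).map (ψ j)))).flip
  have hEs : ∀ j, IsQuasiSeparatedSp (E.obj j) := fun j => by
    obtain ⟨q⟩ := AlgSpDesc.exists_toBase hX₀
    refine AlgSpDesc.isQuasiSeparatedSp_of_mor (fun w' => ?_) (pullback.fst u ((yon S).map (ψ j)) ≫ pullback.fst f₀ bV ≫ q)
    rw [yon_toBase_unique w' (pullback.fst u ((yon S).map (ψ j)) ≫ pullback.fst f₀ bV ≫ q)]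
    exact repWith_diagonal_comp
      (repWith_mono (fun _ _ g (hg : IsClosedImmersion g) => inferInstanceAs (QuasiCompact g))
        (isSeparatedMor_of_repWith_affineHom (hEfst j)))
      (repWith_diagonal_comp (repWith_diagonal_base_change sU.flip hbd)
        (AlgSpDesc.isQuasiSeparatedMor_of_sp hX₀ hXqs q))
  -- the limit
  let ψ₁ : C.pt ⟶ V := C.π.app top ≫ ψ top
  have hψC : ∀ j, C.π.app j ≫ ψ j = ψ₁ := fun j => by
    simp only [ψ₁, ← C.w (Over.homMk j.hom (by simp [top]) : j ⟶ top), Category.assoc, hψ]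
  obtain ⟨b₁, a₁, -, -, s₁⟩ := key hY hX hsq₁
  obtain ⟨W, w, fstW, sW, hW⟩ := hf hCaff b₁
  let e₁ : (yon S).obj W ≅ pullback u ((yon S).map ψ₁) := sW.isoIsPullback _ _ s₁
  have : IsConnected (Over i₀) := isConnected_of_hasTerminal _
  have hCo : IsLimit C := isLimitOfReflects (Over.forget S) hC
  let hCy : IsLimit ((yon S).mapCone C) := isLimitOfPreserves (yon S) hCo
  let cE : Cone E :=
    { pt := pullback u ((yon S).map ψ₁)
      π :=
        { app := fun j => pullback.map _ _ _ _ (𝟙 _) ((yon S).map (C.π.app j)) (𝟙 _) (by simp)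
            (by rw [← Functor.map_comp, hψC, Category.comp_id])
          naturality := fun j l t => by
            apply pullback.hom_ext
            · simp [E]
            · simp only [Functor.const_obj_map, Category.assoc, E, pullback.lift_snd, pullback.lift_snd_assoc]
              rw [← Functor.map_comp, C.w]
              exact Category.id_comp _ } }
  have hcE : IsLimit cE := by
    let cF : ∀ s : Cone E, Cone (F ⋙ yon S) := fun s =>
      { pt := s.pt
        π :=
          { app := fun j => s.π.app j ≫ pullback.snd _ _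
            naturality := fun j l t => by
              refine (Category.id_comp _).trans ?_
              show s.π.app l ≫ pullback.snd _ _ = (s.π.app j ≫ pullback.snd _ _) ≫ (yon S).map (F.map t)
              rw [Category.assoc, ← s.w t, Category.assoc]
              simp [E] } }
    have hs : ∀ (s : Cone E) (j : Over i₀), s.π.app j ≫ pullback.fst _ _ = s.π.app top ≫ pullback.fst _ _ := fun s j => by
      rw [← s.w (Over.homMk j.hom (by simp [top]) : j ⟶ top), Category.assoc]
      simp [E]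
    refine
      { lift := fun s => pullback.lift (s.π.app top ≫ pullback.fst _ _) (hCy.lift (cF s)) (by
          rw [Category.assoc, pullback.condition]
          show _ = hCy.lift (cF s) ≫ (yon S).map (C.π.app top ≫ ψ top)
          rw [Functor.map_comp, ← Category.assoc, ← Category.assoc]
          exact congrArg (· ≫ _) (hCy.fac (cF s) top).symm)
        fac := fun s j => ?_
        uniq := fun s m hm => ?_ }
    · apply pullback.hom_ext
      · simp only [cE, Category.assoc, pullback.lift_fst, Category.comp_id, hs]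
      · simp only [cE, Category.assoc, pullback.lift_snd, pullback.lift_snd_assoc]
        exact hCy.fac (cF s) j
    · apply pullback.hom_ext
      · have := congrArg (· ≫ pullback.fst _ _) (hm top)
        simpa [cE] using this
      · rw [pullback.lift_snd]
        refine hCy.hom_ext fun j => ?_
        rw [hCy.fac]
        have := congrArg (· ≫ pullback.snd _ _) (hm j)
        simpa [cE, cF] using this
  obtain ⟨j₀, hj₀⟩ := exists_affine_stage E hEa cE hcE hEalg hEc hEs W hW e₁
  refine ⟨j₀.left, j₀.hom, fun k η Xi Yi fi pYi qYi hYi pXi hXi => ?_⟩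
  let n : Over i₀ := Over.mk (η ≫ j₀.hom)
  obtain ⟨W', hW', ⟨e⟩⟩ := hj₀ n (Over.homMk η rfl)
  obtain ⟨b', a', hb', hb's, s'⟩ := key (hYi : IsPullback pYi qYi b₀ (D.map n.hom)) hXi (hsq n)
  haveI := hW'
  haveI := hF n
  have hYi' := isAlgSpace_of_isPullback hY₀ (hD i₀) (hD k) hYi
  refine isAffineMor_of_atlas (isAlgSpace_of_isPullback hX₀ hY₀ hYi' hXi) hYi' hb' hb's s'
    ((repWith_affineHom_iff _).2 ?_)
  rw [show pullback.snd u ((yon S).map (ψ n)) = e.inv ≫ (yon S).map (pre (e.hom ≫ pullback.snd u ((yon S).map (ψ n)))) by simp]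
  exact repWith_comp (repWith_iso _) ((repWith_yon_map_iff _ _).2 (isAffineHom_of_isAffine _))

end

end Groth.Agent.AlgSpLimit
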