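import Groth.Agent.AlgSpLimit.DescendAffine

/-!
# Finiteness of a base change descends along limits of algebraic spaces
-/

set_option autoImplicit false
set_option backward.isDefEq.respectTransparency false
set_option linter.style.haveILetI false

universe u

open CategoryTheory CategoryTheory.Limits AlgebraicGeometry Opposite

namespace Groth.Agent.AlgSpLimit

open _root_.AlgSp Groth.Agent.AlgSpc

noncomputable section

variable {S : Scheme.{u}}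

/-- A base change through an intermediate base change. -/
theorem rebase {X₀ Y₀ B₀ B₁ B X₁ Y₁ X Y : Sp S} {f₀ : X₀ ⟶ Y₀} {b₀ : Y₀ ⟶ B₀} {d₀ : B₁ ⟶ B₀}
    {f₁ : X₁ ⟶ Y₁} {pY₁ : Y₁ ⟶ Y₀} {qY₁ : Y₁ ⟶ B₁} (hY₁ : IsPullback pY₁ qY₁ b₀ d₀) {pX₁ : X₁ ⟶ X₀}
    (hX₁ : IsPullback pX₁ f₁ f₀ pY₁) {d : B ⟶ B₁} {f : X ⟶ Y} {pY : Y ⟶ Y₀} {qY : Y ⟶ B}
    (hY : IsPullback pY qY b₀ (d ≫ d₀)) {pX : X ⟶ X₀} (hX : IsPullback pX f f₀ pY) :
    ∃ (pY' : Y ⟶ Y₁) (pX' : X ⟶ X₁), IsPullback pY' qY qY₁ d ∧ IsPullback pX' f f₁ pY' := by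
  let pY' := hY₁.lift pY (qY ≫ d) (by rw [Category.assoc]; exact hY.w)
  have h1 : IsPullback pY' qY qY₁ d :=
    IsPullback.of_right (by rw [hY₁.lift_fst]; exact hY) (hY₁.lift_snd _ _ _) hY₁
  let pX' := hX₁.lift pX (f ≫ pY') (by rw [Category.assoc, hY₁.lift_fst]; exact hX.w)
  exact ⟨pY', pX', h1, IsPullback.of_right (by rw [hX₁.lift_fst, hY₁.lift_fst]; exact hX) (hX₁.lift_snd _ _ _) hX₁⟩

variable {I : Type u} [SmallCategory I] [IsCofiltered I] (D : I ⥤ Sp S)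
  (hDa : ∀ (i j : I) (φ : i ⟶ j), IsAffineMor (D.map φ))
  (c : Cone D) (hc : IsLimit c) {i₀ : I}

include hDa hc in
/-- If a base change to the limit of a morphism locally of finite type is finite, so is the base change to all late
enough stages. -/
theorem descend_finite [QuasiSeparatedSpace ↥S] (hD : ∀ i, IsAlgSpace (D.obj i))
    {X₀ Y₀ : Sp S} (hX₀ : IsAlgSpace X₀) (hY₀ : IsAlgSpace Y₀) (f₀ : X₀ ⟶ Y₀) (b₀ : Y₀ ⟶ D.obj i₀)
    (hBqs : IsQuasiSeparatedSp (D.obj i₀)) (hf₀ : LocP @LocallyOfFiniteType f₀)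
    (hXqc : IsQuasiCompactSp X₀) (hXqs : IsQuasiSeparatedSp X₀)
    (hYqc : IsQuasiCompactSp Y₀) (hYqs : IsQuasiSeparatedSp Y₀)
    {X Y : Sp S} {f : X ⟶ Y} {pY : Y ⟶ Y₀} {qY : Y ⟶ c.pt}
    (hY : IsPullback pY qY b₀ (c.π.app i₀)) {pX : X ⟶ X₀} (hX : IsPullback pX f f₀ pY)
    (hf : IsFiniteMor f) :
    ∃ (i : I) (φ : i ⟶ i₀), ∀ (k : I) (η : k ⟶ i) (Xi Yi : Sp S) (fi : Xi ⟶ Yi) (pYi : Yi ⟶ Y₀) (qYi : Yi ⟶ D.obj k)
      (_ : IsPullback pYi qYi b₀ (D.map (η ≫ φ))) (pXi : Xi ⟶ X₀) (_ : IsPullback pXi fi f₀ pYi),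
      IsFiniteMor fi := by
  have hfa : IsAffineMor f := (repWith_affineHom_iff f).2
    (repWith_mono (fun _ _ k (hk : IsFinite k) => inferInstanceAs (IsAffineHom k)) ((repWith_finite_iff f).1 hf))
  obtain ⟨i, φ, hi⟩ := descend_affine D hDa c hc hD hX₀ hY₀ f₀ b₀ hXqc hXqs hYqc hYqs hY hX hfa
  have sY := IsPullback.of_hasPullback b₀ (D.map φ)
  have sX := IsPullback.of_hasPullback f₀ (pullback.fst b₀ (D.map φ))
  have ha := hi i (𝟙 i) _ _ _ _ _ (by rw [Category.id_comp]; exact sY) _ sX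
  have hY₁ : IsAlgSpace (pullback b₀ (D.map φ)) := isAlgSpace_of_isPullback hY₀ (hD i₀) (hD i) sY
  have hX₁ : IsAlgSpace (pullback f₀ (pullback.fst b₀ (D.map φ))) := isAlgSpace_of_isPullback hX₀ hY₀ hY₁ sX
  have hr := (repWith_affineHom_iff _).1 ha
  have hg : RepWith (@QuasiCompact ⊓ @QuasiSeparated ⊓ @LocallyOfFiniteType)
      (pullback.snd f₀ (pullback.fst b₀ (D.map φ))) :=
    ⟨hr.1, fun _ _ g fst snd sq =>
      haveI : IsAffineHom snd.left := hr.2 g fst snd sq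
      ⟨⟨inferInstanceAs (QuasiCompact snd.left), inferInstanceAs (QuasiSeparated snd.left)⟩,
        (AlgSpFormal.repWith_of_locP hX₁ hY₁ hr.1 (locP_base_change hX₀ hY₀ hY₁ sX hf₀)).2 g fst snd sq⟩⟩
  have hYc : IsQuasiCompactSp (pullback b₀ (D.map φ)) :=
    (isQuasiCompactMor_of_repWith (repWith_of_isPullback sY.flip.flip.flip
      (repWith_mono (fun _ _ k (hk : IsAffineHom k) => inferInstanceAs (QuasiCompact k))
        ((repWith_affineHom_iff _).1 (hDa _ _ φ))))) hY₀ hYqc (𝟙 _) _ _ (IsPullback.id_vert (pullback.fst b₀ (D.map φ))).flip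
  obtain ⟨pY', pX', h1, h2⟩ := rebase sY sX (d := c.π.app i) (by rw [c.w]; exact hY) hX
  obtain ⟨i', φ', hi'⟩ := descend_repWith D hDa c hc (LimSch.descends_isFinite) hY₁ _ _ hYc hg h1 h2
    ((repWith_finite_iff f).1 hf)
  refine ⟨i', φ' ≫ φ, fun k η Xi Yi fi pYi qYi hYi pXi hXi => ?_⟩
  obtain ⟨pY'', pX'', h1', h2'⟩ := rebase sY sX (d := D.map (η ≫ φ'))
    (by rw [← D.map_comp, Category.assoc]; exact hYi) hXi
  exact (repWith_finite_iff fi).2 (hi' k η _ _ fi pY'' qYi h1' pX'' h2')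

end

end Groth.Agent.AlgSpLimit
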