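import Groth.Agent.AlgSpLimit.OpenDescend
import Groth.Agent.AlgSpLoc.Cover
import Mathlib.AlgebraicGeometry.AffineTransitionLimit

/-!
# Morphisms from a limit of algebraic spaces to a scheme of finite presentation come from a stage
-/

set_option autoImplicit false
set_option backward.isDefEq.respectTransparency false
set_option linter.style.haveILetI false

universe u

open CategoryTheory CategoryTheory.Limits AlgebraicGeometry Opposite

namespace Groth.Agent.AlgSpLimit

open _root_.AlgSp Groth.Agent.AlgSpc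

noncomputable section

variable {S : Scheme.{u}} {I : Type u} [SmallCategory I] [IsCofiltered I] (D : I ⥤ Sp S)
  (hDa : ∀ (i j : I) (φ : i ⟶ j), IsAffineMor (D.map φ))
  (c : Cone D) (hc : IsLimit c)

set_option maxHeartbeats 1000000 in
include hDa hc in
/-- A function on the affine chart of the limit which is invariant under the relation comes from an invariant
function at a stage. -/
theorem exists_stage_hom [QuasiSeparatedSpace ↥S] (hD : ∀ i, IsAlgSpace (D.obj i)) {i₁ : I}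
    (hqs : IsQuasiSeparatedSp (D.obj i₁)) {V : Over S} {b : (yon S).obj V ⟶ D.obj i₁} (hV : IsAffine V.left)
    {F : Over i₁ ⥤ Over S} {φ : ∀ j, (yon S).obj (F.obj j) ⟶ D.obj j.left} {ψ : ∀ j, F.obj j ⟶ V}
    (hF : ∀ j, IsAffine (F.obj j).left)
    (hsq : ∀ j, IsPullback (φ j) ((yon S).map (ψ j)) (D.map j.hom) b)
    (hφ : ∀ {j k : Over i₁} (t : j ⟶ k), (yon S).map (F.map t) ≫ φ k = φ j ≫ D.map t.left)
    (hψ : ∀ {j k : Over i₁} (t : j ⟶ k), F.map t ≫ ψ k = ψ j)
    {C : Cone F} (hC : IsLimit ((Over.forget S).mapCone C)) {φ₁ : (yon S).obj C.pt ⟶ c.pt}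
    (hsq₁ : IsPullback φ₁ ((yon S).map (C.π.app (Over.mk (𝟙 i₁)) ≫ ψ (Over.mk (𝟙 i₁)))) (c.π.app i₁) b)
    (hφ₁ : ∀ j : Over i₁, φ₁ ≫ c.π.app j.left = (yon S).map (C.π.app j) ≫ φ j)
    {Z : Scheme.{u}} [LocallyOfFinitePresentation (terminal.from Z)] (a : C.pt.left ⟶ Z)
    (ha : ∀ ⦃W : Over S⦄ (e e' : W ⟶ C.pt), (yon S).map e ≫ φ₁ = (yon S).map e' ≫ φ₁ → e.left ≫ a = e'.left ≫ a) :
    ∃ (m : Over i₁) (g : (F.obj m).left ⟶ Z), (C.π.app m).left ≫ g = a ∧
      ∀ ⦃W : Over S⦄ (x y : W ⟶ F.obj m), (yon S).map x ≫ φ m = (yon S).map y ≫ φ m → x.left ≫ g = y.left ≫ g := by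
  let top : Over i₁ := Over.mk (𝟙 i₁)
  let D' := F ⋙ Over.forget S
  haveI : ∀ k, IsAffine (D'.obj k) := hF
  haveI : ∀ {k l : Over i₁} (t : k ⟶ l), IsAffineHom (D'.map t) := fun t => inferInstance
  let tt : ∀ {J : Type u} [SmallCategory J] (G : J ⥤ Scheme.{u}), G ⟶ (Functor.const J).obj (⊤_ Scheme.{u}) :=
    fun G => { app := fun _ => terminal.from _, naturality := fun _ _ _ => terminal.hom_ext _ _ }
  obtain ⟨m₀, g₀, hg₀, -⟩ := Scheme.exists_π_app_comp_eq_of_locallyOfFinitePresentation D' (tt D')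
    (terminal.from Z) ((Over.forget S).mapCone C) hC a (by ext j; exact terminal.hom_ext _ _)
  -- the double chart
  have sP := IsPullback.of_hasPullback b b
  have hP := isAlgSpace_of_isPullback (IsAlgSpace.yon_obj V) (hD i₁) (IsAlgSpace.yon_obj V) sP
  obtain ⟨W', r, hW', hr, hrs⟩ := (isQuasiCompactSp_iff_affine hP).1
    (AlgSpDesc.isQuasiCompactMor_of_qc_qs (IsAlgSpace.yon_obj V) (hD i₁) isQuasiCompactSp_yon hqs b
      (IsAlgSpace.yon_obj V) isQuasiCompactSp_yon b _ _ sP)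
  let gW' : (yon S).obj W' ⟶ D.obj i₁ := r ≫ pullback.fst b b ≫ b
  obtain ⟨F', φ', ψ', hF', hsq', hφ', hψ'⟩ := exists_affine_system D hDa gW' hW'
  obtain ⟨C', hC', φ₁', hsq₁', hφ₁'⟩ := exists_affine_limit' D c hc gW' F' φ' ψ' hF' hsq' hφ' hψ'
  let D'' := F' ⋙ Over.forget S
  haveI : ∀ k, IsAffine (D''.obj k) := hF'
  haveI : ∀ {k l : Over i₁} (t : k ⟶ l), IsAffineHom (D''.map t) := fun t => inferInstance
  have hψC : ∀ (G : Over i₁ ⥤ Over S) (K : Cone G) (χ : ∀ l, G.obj l ⟶ V) (m : Over i₁),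
      (∀ {l l'} (t : l ⟶ l'), G.map t ≫ χ l' = χ l) → K.π.app m ≫ χ m = K.π.app top ≫ χ top := fun G K χ m hχ => by
    rw [← K.w (Over.homMk m.hom (by simp [top]) : m ⟶ top), Category.assoc, hχ]
  have key : ∀ pr : (yon S).obj W' ⟶ (yon S).obj V, pr ≫ b = gW' →
      ∃ p : ∀ m, F'.obj m ⟶ F.obj m, (∀ m, (yon S).map (p m) ≫ φ m = φ' m) ∧
        (∀ m, (yon S).map (p m ≫ ψ m) = (yon S).map (ψ' m) ≫ pr) ∧
        (∀ {m l} (t : m ⟶ l), F'.map t ≫ p l = p m ≫ F.map t) ∧
        ∀ m, ∃ e : C'.pt ⟶ C.pt, e ≫ C.π.app m = C'.π.app m ≫ p m ∧ (yon S).map e ≫ φ₁ = φ₁' := by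
    intro pr hpr
    have hw : ∀ m, φ' m ≫ D.map m.hom = ((yon S).map (ψ' m) ≫ pr) ≫ b := fun m => by
      rw [(hsq' m).w, Category.assoc, hpr]
    let p : ∀ m, F'.obj m ⟶ F.obj m := fun m => (yon S).preimage ((hsq m).lift _ _ (hw m))
    have hp₁ : ∀ m, (yon S).map (p m) ≫ φ m = φ' m := fun m => by simp [p]
    have hp₂ : ∀ m, (yon S).map (p m ≫ ψ m) = (yon S).map (ψ' m) ≫ pr := fun m => by simp [p]
    refine ⟨p, hp₁, hp₂, fun {m l} t => (yon S).map_injective ((hsq l).hom_ext ?_ ?_), fun m => ?_⟩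
    · rw [Functor.map_comp, Category.assoc, hp₁, Functor.map_comp, Category.assoc, hφ, reassoc_of% (hp₁ m), hφ']
    · rw [← Functor.map_comp, ← Functor.map_comp, Category.assoc, Category.assoc, hψ, hp₂ m,
        Functor.map_comp, hp₂ l, ← Functor.map_comp_assoc, hψ']
    have hwe : φ₁' ≫ c.π.app i₁ = ((yon S).map (C'.π.app top ≫ ψ' top) ≫ pr) ≫ b := by
      rw [hsq₁'.w, Category.assoc, hpr]
    let e : C'.pt ⟶ C.pt := (yon S).preimage (hsq₁.lift _ _ hwe)
    have he₁ : (yon S).map e ≫ φ₁ = φ₁' := by simp [e]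
    have he₂ : (yon S).map (e ≫ C.π.app top ≫ ψ top) = (yon S).map (C'.π.app top ≫ ψ' top) ≫ pr := by
      rw [Functor.map_comp, Functor.map_preimage]
      exact hsq₁.lift_snd _ _ _
    refine ⟨e, (yon S).map_injective ((hsq m).hom_ext ?_ ?_), he₁⟩
    · rw [Functor.map_comp, Category.assoc, ← hφ₁, reassoc_of% he₁, hφ₁', Functor.map_comp, Category.assoc, hp₁]
    · have hm' : C'.π.app m ≫ ψ' m = C'.π.app top ≫ ψ' top := by
        rw [← C'.w (Over.homMk m.hom (by simp [top]) : m ⟶ top), Category.assoc, hψ']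
      rw [← Functor.map_comp, ← Functor.map_comp, Category.assoc, Category.assoc, hψC F C ψ m hψ, he₂,
        ← hm']
      simp only [Functor.map_comp, Category.assoc]
      rw [← Functor.map_comp (yon S) (p m), hp₂]
  obtain ⟨p, hp₁, hp₂, hpn, hpe⟩ := key (r ≫ pullback.fst b b) (Category.assoc _ _ _)
  obtain ⟨p', hp'₁, hp'₂, hp'n, hp'e⟩ := key (r ≫ pullback.snd b b) (by
    simp only [gW', Category.assoc, pullback.condition])
  obtain ⟨e, he, he'⟩ := hpe m₀
  obtain ⟨e', hee, hee'⟩ := hp'e m₀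
  obtain ⟨m, t, hm⟩ := Scheme.exists_hom_comp_eq_comp_of_locallyOfFiniteType D'' (tt D'') (terminal.from Z) _ hC'
    (i := m₀) ((p m₀).left ≫ g₀) ((p' m₀).left ≫ g₀) (terminal.hom_ext _ _) (terminal.hom_ext _ _) (by
      show (C'.π.app m₀).left ≫ _ = (C'.π.app m₀).left ≫ _
      rw [← Category.assoc, ← Category.assoc, ← Over.comp_left, ← Over.comp_left, ← he, ← hee, Over.comp_left,
        Over.comp_left, Category.assoc, Category.assoc]
      erw [hg₀]
      exact ha e e' (he'.trans hee'.symm))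
  change (F'.map t).left ≫ _ = (F'.map t).left ≫ _ at hm
  simp only [← Category.assoc, ← Over.comp_left, hpn, hp'n] at hm
  refine ⟨m, (F.map t).left ≫ g₀, ?_, fun W x y hxy => ?_⟩
  · rw [← Category.assoc, ← Over.comp_left, C.w]
    exact hg₀
  have hV' : ((yon S).map (x ≫ ψ m)) ≫ b = (yon S).map (y ≫ ψ m) ≫ b := by
    simp only [Functor.map_comp, Category.assoc, ← (hsq m).w]
    rw [reassoc_of% hxy]
  obtain ⟨W₁, w, k, sW⟩ := exists_sq hr.1 (pullback.lift _ _ hV')
  have hk : RepWith @Etale ((yon S).map k) := repWith_of_isPullback sW hr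
  have hks : RepWith @Surjective ((yon S).map k) := repWith_of_isPullback sW hrs
  have w₁ : w ≫ r ≫ pullback.fst b b = (yon S).map (k ≫ x ≫ ψ m) := by
    rw [← Category.assoc, sW.w, Category.assoc, pullback.lift_fst]
    simp only [Functor.map_comp]
  have w₂ : w ≫ r ≫ pullback.snd b b = (yon S).map (k ≫ y ≫ ψ m) := by
    rw [← Category.assoc, sW.w, Category.assoc, pullback.lift_snd]
    simp only [Functor.map_comp]
  let z : W₁ ⟶ F'.obj m := (yon S).preimage ((hsq' m).lift ((yon S).map (k ≫ x) ≫ φ m) w (by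
    simp only [gW', Category.assoc, (hsq m).w, reassoc_of% w₁]
    simp only [Functor.map_comp, Category.assoc]))
  have hz₁ : (yon S).map z ≫ φ' m = (yon S).map (k ≫ x) ≫ φ m := by simp [z]
  have hz₂ : (yon S).map z ≫ (yon S).map (ψ' m) = w := by simp [z]
  have z₁ : z ≫ p m = k ≫ x := by
    refine (yon S).map_injective ((hsq m).hom_ext ?_ ?_)
    · rw [Functor.map_comp, Category.assoc, hp₁, hz₁]
    · rw [← Functor.map_comp, ← Functor.map_comp, Category.assoc, Category.assoc, Functor.map_comp, hp₂,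
        reassoc_of% hz₂, w₁]
  have z₂ : z ≫ p' m = k ≫ y := by
    refine (yon S).map_injective ((hsq m).hom_ext ?_ ?_)
    · rw [Functor.map_comp, Category.assoc, hp'₁, hz₁]
      simp only [Functor.map_comp, Category.assoc, hxy]
    · rw [← Functor.map_comp, ← Functor.map_comp, Category.assoc, Category.assoc, Functor.map_comp, hp'₂,
        reassoc_of% hz₂, w₂]
  have hkE : Etale k.left := (repWith_yon_map_iff _ k).1 hk
  have hkS : Surjective k.left := (repWith_yon_map_iff _ k).1 hks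
  have := Flat.epi_of_flat_of_surjective k.left
  rw [← cancel_epi k.left]
  have h2 := congrArg (z.left ≫ ·) hm
  simp only [← Category.assoc, ← Over.comp_left] at h2 ⊢
  rw [z₁, z₂] at h2
  simp only [Over.comp_left, Category.assoc] at h2 ⊢
  exact h2

end

end Groth.Agent.AlgSpLimit
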