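import Groth.Agent.AlgSpLimit.AffineLimit

/-!
# A morphism from a limit which is affine is affine at a stage
-/

set_option autoImplicit false
set_option backward.isDefEq.respectTransparency false
set_option linter.style.haveILetI false

universe u

open CategoryTheory CategoryTheory.Limits AlgebraicGeometry Opposite

namespace Groth.Agent.AlgSpLimit

open _root_.AlgSp Groth.Agent.AlgSpc

noncomputable section

variable {S : Scheme.{u}} {I : Type u} [SmallCategory I] [IsCofiltered I] (D : I ⥤ Sp S)
  (hDa : ∀ (i j : I) (φ : i ⟶ j), IsAffineMor (D.map φ))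
  (c : Cone D) (hc : IsLimit c)

set_option maxHeartbeats 1000000 in
include hDa hc in
/-- If the limit of a system over a quasi-compact quasi-separated space is affine over it, so is a stage. -/
theorem eventually_affine [QuasiSeparatedSpace ↥S] (hD : ∀ i, IsAlgSpace (D.obj i))
    (hqc : ∀ i, IsQuasiCompactSp (D.obj i)) (hqs : ∀ i, IsQuasiSeparatedSp (D.obj i))
    {Y : Sp S} (hY : IsAlgSpace Y) (hYqc : IsQuasiCompactSp Y) (hYqs : IsQuasiSeparatedSp Y)
    (t : D ⟶ (Functor.const I).obj Y) (g : c.pt ⟶ Y) (hg : ∀ i, c.π.app i ≫ t.app i = g)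
    (hX : IsAffineMor g) :
    ∃ i₀ : I, ∀ (i : I) (_ : i ⟶ i₀), IsAffineMor (t.app i) := by
  obtain ⟨V, b, hV, hb, hbs⟩ := (isQuasiCompactSp_iff_affine hY).1 hYqc
  haveI := hV
  obtain ⟨W, i₀W, fst₀, sW, hW⟩ := hX hV b
  have ht : ∀ {i j : I} (φ : i ⟶ j), D.map φ ≫ t.app j = t.app i := fun φ => by simpa using t.naturality φ
  let E : I ⥤ Sp S :=
    { obj := fun i => pullback (t.app i) b
      map := fun {i j} φ => pullback.map _ _ _ _ (D.map φ) (𝟙 _) (𝟙 _) (by simpa using (ht φ).symm) (by simp)
      map_id := fun i => by apply pullback.hom_ext <;> simp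
      map_comp := fun φ ψ => by apply pullback.hom_ext <;> simp }
  have sqE : ∀ {i j : I} (φ : i ⟶ j), IsPullback (E.map φ) (pullback.fst _ _) (pullback.fst _ _) (D.map φ) :=
    fun {i j} φ => IsPullback.of_right (h₁₂ := pullback.snd _ _) (h₂₂ := t.app j)
      (by
        rw [show E.map φ ≫ pullback.snd _ _ = pullback.snd (t.app i) b by simp [E]]
        exact (ht φ).symm ▸ (IsPullback.of_hasPullback (t.app i) b).flip)
      (by simp [E]) (IsPullback.of_hasPullback (t.app j) b).flip
  have hEa : ∀ (i j : I) (φ : i ⟶ j), IsAffineMor (E.map φ) := fun i j φ =>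
    (repWith_affineHom_iff _).2 (repWith_of_isPullback (sqE φ).flip ((repWith_affineHom_iff _).1 (hDa i j φ)))
  have hE : ∀ i, IsAlgSpace (E.obj i) := fun i =>
    isAlgSpace_of_isPullback (hD i) hY (IsAlgSpace.yon_obj V) (IsPullback.of_hasPullback (t.app i) b)
  have hbq : RepWith @QuasiCompact b := (repWith_quasiCompact_iff hb.1).2
    (AlgSpDesc.isQuasiCompactMor_of_qc_qs (IsAlgSpace.yon_obj V) hY isQuasiCompactSp_yon hYqs b)
  have hbd : RepWith @QuasiCompact (pullback.diagonal b) :=
    repWith_diagonal_of_repWith (P := @QuasiSeparated) (fun _ _ k (hk : QuasiSeparated k) => hk.1)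
      ⟨hb.1, fun _ _ g' fst snd sq => quasiSeparated_of_sq b g' fst snd sq⟩
  have hEc : ∀ i, IsQuasiCompactSp (E.obj i) := fun i =>
    (isQuasiCompactMor_of_repWith (repWith_of_isPullback (IsPullback.of_hasPullback (t.app i) b).flip hbq))
      (hD i) (hqc i) (𝟙 _) _ _ (IsPullback.id_vert (pullback.fst (t.app i) b)).flip
  have hEs : ∀ i, IsQuasiSeparatedSp (E.obj i) := fun i => by
    obtain ⟨q⟩ := AlgSpDesc.exists_toBase (hD i)
    refine AlgSpDesc.isQuasiSeparatedSp_of_mor (fun w' => ?_) (pullback.fst (t.app i) b ≫ q)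
    rw [yon_toBase_unique w' (pullback.fst (t.app i) b ≫ q)]
    exact repWith_diagonal_comp
      (repWith_diagonal_base_change (IsPullback.of_hasPullback (t.app i) b).flip hbd)
      (AlgSpDesc.isQuasiSeparatedMor_of_sp (hD i) (hqs i) q)
  let cE : Cone E :=
    { pt := (yon S).obj W
      π :=
        { app := fun i => pullback.lift (fst₀ ≫ c.π.app i) ((yon S).map i₀W)
            (by rw [Category.assoc, hg]; exact sW.w)
          naturality := fun i j φ => by
            apply pullback.hom_ext
            · simp only [Functor.const_obj_map, Category.assoc, E, pullback.lift_fst,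
                pullback.lift_fst_assoc, c.w]
              exact Category.id_comp _
            · simp [E] } }
  have hcE : IsLimit cE := by
    let i₁ : I := (IsCofiltered.nonempty (C := I)).some
    let cD : ∀ s : Cone E, Cone D := fun s =>
      { pt := s.pt
        π :=
          { app := fun i => s.π.app i ≫ pullback.fst _ _
            naturality := fun i j φ => by
              refine (Category.id_comp _).trans ?_
              rw [Category.assoc, ← s.w φ, Category.assoc]
              simp [E] } }
    have hs : ∀ (s : Cone E) (i : I), s.π.app i ≫ pullback.snd (t.app i) b = s.π.app i₁ ≫ pullback.snd _ _ := fun s i => by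
      have key : ∀ {i j : I} (φ : i ⟶ j), s.π.app i ≫ pullback.snd (t.app i) b = s.π.app j ≫ pullback.snd _ _ := fun φ => by
        rw [← s.w φ, Category.assoc]; simp [E]
      rw [← key (IsCofiltered.minToLeft i i₁), key (IsCofiltered.minToRight i i₁)]
    refine
      { lift := fun s => sW.lift (hc.lift (cD s)) (s.π.app i₁ ≫ pullback.snd _ _) (by
          rw [← hg i₁, ← Category.assoc, hc.fac, Category.assoc, pullback.condition, Category.assoc])
        fac := fun s i => ?_
        uniq := fun s m hm => ?_ }
    · apply pullback.hom_ext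
      · simp only [cE, Category.assoc, pullback.lift_fst, sW.lift_fst_assoc, hc.fac, cD]
      · simp only [cE, Category.assoc, pullback.lift_snd, sW.lift_snd, hs]
    · apply sW.hom_ext
      · refine hc.hom_ext fun i => ?_
        rw [sW.lift_fst, hc.fac]
        have := congrArg (· ≫ pullback.fst _ _) (hm i)
        simpa [cE, cD] using this
      · rw [sW.lift_snd]
        have := congrArg (· ≫ pullback.snd _ _) (hm i₁)
        simpa [cE] using this
  obtain ⟨i, hi⟩ := exists_affine_stage E hEa cE hcE hE hEc hEs W hW (Iso.refl _)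
  refine ⟨i, fun k η => ?_⟩
  obtain ⟨W', hW', ⟨e⟩⟩ := hi k η
  haveI := hW'
  refine isAffineMor_of_atlas (hD k) hY hb hbs (IsPullback.of_hasPullback (t.app k) b) ((repWith_affineHom_iff _).2 ?_)
  rw [show pullback.snd (t.app k) b = e.inv ≫ (yon S).map (pre (e.hom ≫ pullback.snd (t.app k) b)) by simp]
  exact repWith_comp (repWith_iso _) ((repWith_yon_map_iff _ _).2 (isAffineHom_of_isAffine _))

end

end Groth.Agent.AlgSpLimit
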