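import Groth.Agent.AlgSpLimit.LimitSpace
import Groth.Agent.AlgSpLimit.DescendRep
import Groth.Agent.LimClosed.Core
import Mathlib.CategoryTheory.Filtered.Final

/-!
# Morphisms of systems of algebraic spaces which are closed immersions in the limit
-/

set_option autoImplicit false
set_option backward.isDefEq.respectTransparency false
set_option linter.style.haveILetI false

universe u

open CategoryTheory CategoryTheory.Limits AlgebraicGeometry Opposite

namespace Groth.Agent.AlgSpLimit

open _root_.AlgSp Groth.Agent.AlgSpc

noncomputable section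

variable {S : Scheme.{u}} {I : Type u} [SmallCategory I] [IsCofiltered I]

set_option maxHeartbeats 800000 in
/-- A representable morphism of systems with affine transition morphisms which is a closed immersion in the
limit is eventually a closed immersion, if each stage is a closed subspace of the base change of a stage of
finite type. -/
theorem eventually_closed {P Q : I ⥤ Sp S} (g : P ⟶ Q)
    (hQa : ∀ (i j : I) (φ : i ⟶ j), IsAffineMor (Q.map φ)) {cP : Cone P} {cQ : Cone Q}
    (hcP : IsLimit cP) (hcQ : IsLimit cQ) (gl : cP.pt ⟶ cQ.pt)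
    (comm : ∀ i, cP.π.app i ≫ g.app i = gl ≫ cQ.π.app i) (i₀ : I) (hQ₀ : IsAlgSpace (Q.obj i₀))
    (hQqc : IsQuasiCompactSp (Q.obj i₀)) (hr : ∀ i, Representable (g.app i))
    (hg₀ : RepWith (@QuasiCompact ⊓ @QuasiSeparated ⊓ @LocallyOfFiniteType) (g.app i₀))
    (hgen : ∀ (j : I) (φ : j ⟶ i₀), RepWith @IsClosedImmersion
      (pullback.lift (P.map φ) (g.app j) (g.naturality φ) : P.obj j ⟶ pullback (g.app i₀) (Q.map φ)))
    (hgl : RepWith @IsClosedImmersion gl) :
    ∃ (k : I) (_ : k ⟶ i₀), ∀ (i : I) (_ : i ⟶ k), RepWith @IsClosedImmersion (g.app i) := by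
  obtain ⟨V, b, hV, hb, hbs⟩ := (isQuasiCompactSp_iff_affine hQ₀).1 hQqc
  obtain ⟨F, φ, ψ, hF, hsq, hφ, hψ⟩ := exists_affine_system Q hQa b hV
  obtain ⟨C, hC, φ₁, hsq₁, hφ₁⟩ := exists_affine_limit' Q cQ hcQ b F φ ψ hF hsq hφ hψ
  have : IsConnected (Over i₀) := isConnected_of_hasTerminal _
  let top : Over i₀ := Over.mk (𝟙 i₀)
  -- the system over the chart
  choose Wo a h sq using fun j : Over i₀ => exists_sq (hr j.left) (φ j)
  have hw : ∀ {j k : Over i₀} (t : j ⟶ k),
      (a j ≫ P.map t.left) ≫ g.app k.left = (yon S).map (h j ≫ F.map t) ≫ φ k := by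
    intro j k t
    rw [Category.assoc, g.naturality, reassoc_of% (sq j).w, Functor.map_comp, Category.assoc, hφ t]
  let W : Over i₀ ⥤ Over S :=
    { obj := Wo
      map := fun {j k} t => (yon S).preimage ((sq k).lift _ _ (hw t))
      map_id := fun j => (yon S).map_injective ((sq j).hom_ext (by simp) (by simp))
      map_comp := fun {j k l} t t' => (yon S).map_injective ((sq l).hom_ext
        (by simp [IsPullback.lift_fst_assoc]) (by simp [IsPullback.lift_snd_assoc])) }
  have hWh : ∀ {j k : Over i₀} (t : j ⟶ k), W.map t ≫ h k = h j ≫ F.map t := fun t =>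
    (yon S).map_injective (by simp [W])
  have hWa : ∀ {j k : Over i₀} (t : j ⟶ k), (yon S).map (W.map t) ≫ a k = a j ≫ P.map t.left := fun t => by
    simp [W]
  -- the limit of the system
  obtain ⟨Wl, al, hl, sl⟩ := exists_sq hgl.1 φ₁
  have hπw : ∀ j : Over i₀,
      (al ≫ cP.π.app j.left) ≫ g.app j.left = (yon S).map (hl ≫ C.π.app j) ≫ φ j := fun j => by
    rw [Category.assoc, comm, reassoc_of% sl.w, Functor.map_comp, Category.assoc, hφ₁ j]
  let π₀ : ∀ j, Wl ⟶ W.obj j := fun j => (yon S).preimage ((sq j).lift _ _ (hπw j))
  have hcWh : ∀ j, π₀ j ≫ h j = hl ≫ C.π.app j := fun j => (yon S).map_injective (by simp [π₀])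
  have hcWa : ∀ j, (yon S).map (π₀ j) ≫ a j = al ≫ cP.π.app j.left := fun j => by simp [π₀]
  have hπnat : ∀ {j k : Over i₀} (t : j ⟶ k), π₀ j ≫ W.map t = π₀ k := fun {j k} t =>
    (yon S).map_injective ((sq k).hom_ext
      (by rw [Functor.map_comp, Category.assoc, hWa, reassoc_of% (hcWa j), cP.w, hcWa])
      (by rw [← Functor.map_comp, ← Functor.map_comp, Category.assoc, hWh, reassoc_of% (hcWh j), C.w, hcWh]))
  let cW : Cone W :=
    { pt := Wl
      π := { app := π₀
             naturality := fun j k t => (Category.id_comp _).trans (hπnat t).symm } }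
  have hC' : IsLimit C := isLimitOfReflects (Over.forget S) hC
  let hP' : IsLimit (cP.whisker (Over.forget i₀)) := (Functor.Initial.isLimitWhiskerEquiv _ _).symm hcP
  let hQ' : IsLimit (cQ.whisker (Over.forget i₀)) := (Functor.Initial.isLimitWhiskerEquiv _ _).symm hcQ
  let sP : Cone W → Cone (Over.forget i₀ ⋙ P) := fun s =>
    { pt := (yon S).obj s.pt
      π := { app := fun j => (yon S).map (s.π.app j) ≫ a j
             naturality := fun j k t => by
              refine (Category.id_comp _).trans ?_
              simp only [Functor.comp_map, Over.forget_map, Category.assoc]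
              rw [← hWa t, ← Functor.map_comp_assoc, s.w] } }
  let sC : Cone W → Cone F := fun s =>
    { pt := s.pt
      π := { app := fun j => s.π.app j ≫ h j
             naturality := fun j k t => by
              refine (Category.id_comp _).trans ?_
              rw [Category.assoc, ← hWh t, s.w_assoc] } }
  have hlw : ∀ s : Cone W, hP'.lift (sP s) ≫ gl = (yon S).map (hC'.lift (sC s)) ≫ φ₁ := fun s => by
    refine hQ'.hom_ext fun j => ?_
    have e1 : hP'.lift (sP s) ≫ cP.π.app j.left = (yon S).map (s.π.app j) ≫ a j := hP'.fac (sP s) j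
    show (_ ≫ gl) ≫ cQ.π.app j.left = (_ ≫ φ₁) ≫ cQ.π.app j.left
    rw [Category.assoc, ← comm, reassoc_of% e1, (sq j).w, Category.assoc, hφ₁ j, ← Functor.map_comp_assoc,
      ← Functor.map_comp_assoc, hC'.fac]
  let hW : IsLimit cW :=
    { lift := fun s => (yon S).preimage (sl.lift _ _ (hlw s))
      fac := fun s j => (yon S).map_injective ((sq j).hom_ext
        (by
          rw [Functor.map_comp, Category.assoc, hcWa, Functor.map_preimage, IsPullback.lift_fst_assoc]
          exact hP'.fac (sP s) j)
        (by
          rw [← Functor.map_comp, ← Functor.map_comp, Category.assoc, hcWh, Functor.map_comp,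
            Functor.map_preimage, Functor.map_comp, IsPullback.lift_snd_assoc, ← Functor.map_comp, hC'.fac]))
      uniq := fun s m hm => (yon S).map_injective (sl.hom_ext
        (by
          rw [Functor.map_preimage, IsPullback.lift_fst]
          refine hP'.hom_ext fun j => ?_
          rw [hP'.fac]
          show ((yon S).map m ≫ al) ≫ cP.π.app j.left = (yon S).map (s.π.app j) ≫ a j
          rw [Category.assoc, ← hcWa, ← Functor.map_comp_assoc, hm])
        (by
          rw [Functor.map_preimage, IsPullback.lift_snd, ← Functor.map_comp]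
          congr 1
          refine hC'.hom_ext fun j => ?_
          rw [hC'.fac, Category.assoc, ← hcWh, reassoc_of% (hm j)])) }
  -- comparisons with the first stage
  have hL : ∀ (j : Over i₀) (t : j ⟶ top), IsClosedImmersion
      (pullback.lift (W.map t).left (h j).left (by rw [← Over.comp_left, hWh t, Over.comp_left]) :
        (Wo j).left ⟶ pullback (h top).left (F.map t).left) := fun j t => by
    let R := pullback (g.app i₀) (Q.map t.left)
    let W₀ := pullback (h top) (F.map t)
    have s₀ : IsPullback ((yon S).map (pullback.fst (h top) (F.map t)) ≫ a top)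
        ((yon S).map (pullback.snd (h top) (F.map t))) (g.app i₀) (φ j ≫ Q.map t.left) := by
      rw [← hφ t]
      exact ((IsPullback.of_hasPullback (h top) (F.map t)).map (yon S)).paste_horiz (sq top)
    let e : (yon S).obj W₀ ⟶ R := pullback.lift _ ((yon S).map (pullback.snd (h top) (F.map t)) ≫ φ j)
      (by rw [Category.assoc _ (φ j) _]; exact s₀.w)
    have se : IsPullback e ((yon S).map (pullback.snd (h top) (F.map t))) (pullback.snd _ _) (φ j) :=
      IsPullback.of_right (by rw [pullback.lift_fst]; exact s₀) (pullback.lift_snd _ _ _)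
        (IsPullback.of_hasPullback _ _)
    let L : W.obj j ⟶ W₀ := pullback.lift (W.map t) (h j) (hWh t)
    let l : P.obj j.left ⟶ R := pullback.lift (P.map t.left) (g.app j.left) (g.naturality t.left)
    have w : a j ≫ l = (yon S).map L ≫ e := by
      apply pullback.hom_ext
      · simp only [l, L, e, Category.assoc, pullback.lift_fst]
        rw [← Functor.map_comp_assoc, pullback.lift_fst]
        exact (hWa t).symm
      · simp only [l, L, e, Category.assoc, pullback.lift_snd]
        rw [← Functor.map_comp_assoc, pullback.lift_snd]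
        exact (sq j).w
    have sL : IsPullback (a j) ((yon S).map L) l e := by
      refine IsPullback.of_bot ?_ w se
      rw [pullback.lift_snd, ← Functor.map_comp, pullback.lift_snd]
      exact sq j
    have : IsClosedImmersion L.left := (hgen j.left t.left).2 e (a j) L sL
    have s' := isPullback_left (IsPullback.of_hasPullback (h top) (F.map t))
    have e' : L.left ≫ s'.isoPullback.hom =
        pullback.lift (W.map t).left (h j).left (by rw [← Over.comp_left, hWh t, Over.comp_left]) := by
      apply pullback.hom_ext
      · rw [Category.assoc, s'.isoPullback_hom_fst, pullback.lift_fst, ← Over.comp_left, pullback.lift_fst]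
      · rw [Category.assoc, s'.isoPullback_hom_snd, pullback.lift_snd, ← Over.comp_left, pullback.lift_snd]
    rw [← e']
    infer_instance
  -- apply the statement for schemes
  let W' := W ⋙ Over.forget S
  let F' := F ⋙ Over.forget S
  haveI : ∀ j, IsAffine (F'.obj j) := hF
  haveI : ∀ {j k : Over i₀} (t : j ⟶ k), IsAffineHom (F'.map t) := fun t => inferInstance
  let g' : W' ⟶ F' :=
    { app := fun j => (h j).left
      naturality := fun j k t => by
        simp only [W', F', Functor.comp_map, Over.forget_map]
        rw [← Over.comp_left, hWh t, Over.comp_left] }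
  obtain ⟨⟨hqc, hqs⟩, hlft⟩ := hg₀.2 (φ top) (a top) (h top) (sq top)
  haveI : QuasiCompact (g'.app top) := hqc
  haveI : QuasiSeparated (g'.app top) := hqs
  haveI : LocallyOfFiniteType (g'.app top) := hlft
  haveI hW0 : ∀ (j : Over i₀) (t : j ⟶ top), IsAffineHom (W'.map t) := fun j t => by
    have : IsClosedImmersion (Groth.Agent.LimClosed.comparison g' t) := hL j t
    have : IsAffineHom (F'.map t) := inferInstance
    have : IsAffineHom (pullback.fst (g'.app top) (F'.map t)) := MorphismProperty.pullback_fst _ _ this
    rw [show W'.map t = Groth.Agent.LimClosed.comparison g' t ≫ pullback.fst _ _ from (pullback.lift_fst _ _ _).symm]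
    exact MorphismProperty.comp_mem _ _ _ (inferInstance : IsAffineHom (LimClosed.comparison g' t)) this
  have htop : ∀ j : Over i₀, Nonempty (j ⟶ top) := fun j => ⟨Over.homMk j.hom (by simp [top])⟩
  haveI : ∀ {j k : Over i₀} (t : j ⟶ k), IsAffineHom (W'.map t) := fun {j k} t => by
    obtain ⟨u⟩ := htop k
    haveI := hW0 k u
    haveI : IsAffineHom (W'.map t ≫ W'.map u) := by
      rw [← W'.map_comp]
      exact hW0 j (t ≫ u)
    exact IsAffineHom.of_comp (W'.map t) (W'.map u)
  haveI : CompactSpace (W'.obj top) := QuasiCompact.compactSpace_of_compactSpace (g'.app top)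
  haveI : QuasiSeparatedSpace (W'.obj top) := quasiSeparatedSpace_of_quasiSeparated (g'.app top)
  haveI : ∀ j, CompactSpace (W'.obj j) := fun j =>
    QuasiCompact.compactSpace_of_compactSpace (W'.map (htop j).some)
  haveI : ∀ j, QuasiSeparatedSpace (W'.obj j) := fun j => quasiSeparatedSpace_of_quasiSeparated (W'.map (htop j).some)
  haveI : IsClosedImmersion ((Over.forget S).map hl) := hgl.2 φ₁ al hl sl
  obtain ⟨k, -, hk⟩ := LimClosed.eventually_isClosedImmersion g' (isLimitOfPreserves (Over.forget S) hW) hC
    ((Over.forget S).map hl) (fun j => congrArg (fun x => x.left) (hcWh j)) top hL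
  refine ⟨k.left, k.hom, fun i η => ?_⟩
  let n : Over i₀ := Over.mk (η ≫ k.hom)
  exact repWith_of_etale_cover (hr i) (sq n) (repWith_of_isPullback (hsq n).flip hb)
    (repWith_of_isPullback (hsq n).flip hbs) (hk n (Over.homMk η rfl))

end

end Groth.Agent.AlgSpLimit
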