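import Mathlib.AlgebraicGeometry.AffineTransitionLimit
import Mathlib.AlgebraicGeometry.Morphisms.Finite

/-!
# An integral limit of affine schemes of finite type with finite transition maps has a finite stage
-/

set_option autoImplicit false
set_option backward.isDefEq.respectTransparency false

universe u

open CategoryTheory CategoryTheory.Limits AlgebraicGeometry Opposite

namespace Groth.Agent.AlgSpLimit

/-- An integral limit of affine schemes of finite type over an affine scheme with finite transition maps has a finite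
stage. -/
theorem exists_isFinite_stage {J : Type u} [SmallCategory J] [IsCofiltered J] (G : J ⥤ Scheme.{u})
    [∀ j, IsAffine (G.obj j)] [∀ {j l : J} (t : j ⟶ l), IsAffineHom (G.map t)]
    (K : Cone G) (hK : IsLimit K) {V : Scheme.{u}} [IsAffine V] (s : ∀ j, G.obj j ⟶ V)
    (hs : ∀ {j l : J} (t : j ⟶ l), G.map t ≫ s l = s j) (hfin : ∀ {j l : J} (t : j ⟶ l), IsFinite (G.map t))
    (j₁ : J) [LocallyOfFiniteType (s j₁)] (h : IsIntegralHom (K.π.app j₁ ≫ s j₁)) :
    ∃ k, ∀ (m : J) (_ : m ⟶ k), IsFinite (s m) := by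
  classical
  have hft : (s j₁).appTop.hom.FiniteType := HasRingHomProperty.appTop (P := @LocallyOfFiniteType) (s j₁) inferInstance
  have : IsAffine K.pt := Scheme.isAffine_of_isLimit K hK
  have hint : (K.π.app j₁ ≫ s j₁).appTop.hom.IsIntegral := IsIntegralHom.isIntegral_app _ ⊤ (isAffineOpen_top V)
  let f := (s j₁).appTop.hom
  -- each element becomes integral at a stage
  have hel : ∀ x : Γ(G.obj j₁, ⊤), ∃ (k : J) (t : k ⟶ j₁),
      ((G.map t).appTop.hom.comp f).IsIntegralElem ((G.map t).appTop x) := by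
    intro x
    obtain ⟨p, hp, hp0⟩ := hint ((K.π.app j₁).appTop x)
    obtain ⟨k, t, hk⟩ := exists_appTop_map_eq_zero_of_isLimit G K hK (i := j₁) (p.eval₂ f x) (by
      rw [← hp0]
      show (K.π.app j₁).appTop.hom _ = _
      rw [Polynomial.hom_eval₂]
      rfl)
    refine ⟨k, t, p, hp, ?_⟩
    rw [← Polynomial.hom_eval₂]
    exact hk
  let algf : Algebra Γ(V, ⊤) Γ(G.obj j₁, ⊤) := f.toAlgebra
  obtain ⟨gens, hgens⟩ := (show @Algebra.FiniteType Γ(V, ⊤) Γ(G.obj j₁, ⊤) _ _ algf from hft).out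
  choose k t hk using hel
  obtain ⟨l, tl, t', ht'⟩ := IsCofiltered.wideCospan (I := gens) fun x => t x.1
  refine ⟨l, fun m r => ?_⟩
  haveI : IsFinite (G.map (r ≫ tl)) := hfin _
  have hGl : (G.map (r ≫ tl)).appTop.hom.Finite := IsFinite.finite_app (f := G.map (r ≫ tl)) ⊤ (isAffineOpen_top _)
  have hfm : (s m).appTop.hom = (G.map (r ≫ tl)).appTop.hom.comp f := by
    rw [← hs (r ≫ tl)]; simp [f]
  have hI : ∀ x ∈ gens, ((G.map (r ≫ tl)).appTop.hom.comp f).IsIntegralElem ((G.map (r ≫ tl)).appTop x) := by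
    intro x hx
    obtain ⟨p, hp, hp0⟩ := hk x
    refine ⟨p, hp, ?_⟩
    have e1 : G.map (r ≫ tl) = G.map (r ≫ t' ⟨x, hx⟩) ≫ G.map (t x) := by
      rw [← G.map_comp, Category.assoc, ht' ⟨x, hx⟩]
    rw [e1, Scheme.Hom.comp_appTop, CommRingCat.hom_comp, RingHom.comp_assoc]
    show Polynomial.eval₂ _ ((G.map (r ≫ t' ⟨x, hx⟩)).appTop.hom ((G.map (t x)).appTop.hom x)) p = 0
    rw [← Polynomial.hom_eval₂]
    exact (congrArg _ hp0).trans (map_zero _)
  let g := (G.map (r ≫ tl)).appTop.hom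
  let h' := g.comp f
  let algh : Algebra Γ(V, ⊤) Γ(G.obj m, ⊤) := h'.toAlgebra
  let a : Γ(G.obj j₁, ⊤) →ₐ[Γ(V, ⊤)] Γ(G.obj m, ⊤) := { g with commutes' := fun _ => rfl }
  have hA : ∀ y, a y ∈ integralClosure Γ(V, ⊤) Γ(G.obj m, ⊤) := by
    intro y
    have : Algebra.adjoin Γ(V, ⊤) (gens : Set Γ(G.obj j₁, ⊤)) ≤ (integralClosure Γ(V, ⊤) Γ(G.obj m, ⊤)).comap a :=
      Algebra.adjoin_le fun x hx => hI x hx
    rw [hgens] at this
    exact this (Algebra.mem_top (x := y))
  have hint' : h'.IsIntegral := by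
    intro z
    haveI : Algebra.IsIntegral Γ(V, ⊤) (integralClosure Γ(V, ⊤) Γ(G.obj m, ⊤)) :=
      IsIntegralClosure.isIntegral_algebra Γ(V, ⊤) Γ(G.obj m, ⊤)
    obtain ⟨p, hp, hp0⟩ := hGl.to_isIntegral z
    refine isIntegral_trans (A := integralClosure Γ(V, ⊤) Γ(G.obj m, ⊤)) z
      ⟨p.map (a.toRingHom.codRestrict (integralClosure Γ(V, ⊤) Γ(G.obj m, ⊤)).toSubring hA), hp.map _, ?_⟩
    rw [Polynomial.eval₂_map]
    exact hp0
  have hfmF : h'.Finite := hint'.to_finite (hGl.finiteType.comp hft)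
  rw [HasAffineProperty.iff_of_isAffine (P := @IsFinite)]
  exact ⟨inferInstance, by rw [hfm]; exact hfmF⟩

end Groth.Agent.AlgSpLimit
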