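import Groth.Agent.AlgSpLimit.EventuallyAffine
import Groth.Agent.AlgSpLimit.DescendFinite
import Groth.Agent.AlgSpLimit.IntegralLimit

/-!
# A morphism from a limit with finite transition maps which is integral is finite at a stage
-/

set_option autoImplicit false
set_option backward.isDefEq.respectTransparency false
set_option linter.style.haveILetI false

universe u

open CategoryTheory CategoryTheory.Limits AlgebraicGeometry Opposite

namespace Groth.Agent.AlgSpLimit

open _root_.AlgSp Groth.Agent.AlgSpc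

noncomputable section

variable {S : Scheme.{u}} {I : Type u} [SmallCategory I] [IsCofiltered I] (D : I ⥤ Sp S)
  (c : Cone D) (hc : IsLimit c)

set_option maxHeartbeats 1000000 in
include hc in
/-- If the limit of a system of finite type with finite transition maps is integral, a stage is finite. -/
theorem eventually_finite [QuasiSeparatedSpace ↥S] (hD : ∀ i, IsAlgSpace (D.obj i))
    (hDf : ∀ (i j : I) (φ : i ⟶ j), IsFiniteMor (D.map φ))
    (hqc : ∀ i, IsQuasiCompactSp (D.obj i)) (hqs : ∀ i, IsQuasiSeparatedSp (D.obj i))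
    {Y : Sp S} (hY : IsAlgSpace Y) (hYqc : IsQuasiCompactSp Y) (hYqs : IsQuasiSeparatedSp Y)
    (t : D ⟶ (Functor.const I).obj Y) (g : c.pt ⟶ Y) (hg : ∀ i, c.π.app i ≫ t.app i = g)
    (hft : ∀ i, LocP @LocallyOfFiniteType (t.app i)) (hX : IsIntegralMor g) :
    ∃ i₀ : I, ∀ (i : I) (_ : i ⟶ i₀), IsFiniteMor (t.app i) := by
  have hDa : ∀ (i j : I) (φ : i ⟶ j), IsAffineMor (D.map φ) := fun i j φ => (repWith_affineHom_iff _).2
    (repWith_mono (fun _ _ k (hk : IsFinite k) => inferInstanceAs (IsAffineHom k)) ((repWith_finite_iff _).1 (hDf i j φ)))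
  obtain ⟨i₀, ha⟩ := eventually_affine D hDa c hc hD hqc hqs hY hYqc hYqs t g hg (((isIntegralMor_iff g).1 hX).1)
  obtain ⟨V, b, hV, hb, hbs⟩ := (isQuasiCompactSp_iff_affine hY).1 hYqc
  haveI := hV
  have hr₀ := (repWith_affineHom_iff _).1 (ha i₀ (𝟙 _))
  obtain ⟨W₀, φ₀, w₀, sq₀⟩ := exists_sq hr₀.1 b
  haveI : IsAffineHom w₀.left := hr₀.2 b φ₀ w₀ sq₀
  haveI hW₀ : IsAffine W₀.left := isAffine_of_isAffineHom w₀.left
  haveI : LocallyOfFiniteType w₀.left :=
    (AlgSpFormal.repWith_of_locP (hD i₀) hY hr₀.1 (hft i₀)).2 b φ₀ w₀ sq₀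
  obtain ⟨F, φ, ψ, hF, hsq, hφ, hψ⟩ := exists_affine_system D hDa φ₀ hW₀
  obtain ⟨C, hC, φ₁, hsq₁, hφ₁⟩ := exists_affine_limit' D c hc φ₀ F φ ψ hF hsq hφ hψ
  let top : Over i₀ := Over.mk (𝟙 i₀)
  let D' := F ⋙ Over.forget S
  haveI : ∀ k, IsAffine (D'.obj k) := hF
  haveI : ∀ {k l : Over i₀} (t : k ⟶ l), IsAffineHom (D'.map t) := fun t => inferInstance
  have ht : ∀ {i j : I} (φ : i ⟶ j), D.map φ ≫ t.app j = t.app i := fun φ => by simpa using t.naturality φ
  have hfin : ∀ {j l : Over i₀} (r : j ⟶ l), IsFinite (D'.map r) := fun {j l} r => by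
    have sq : IsPullback (φ j) ((yon S).map (F.map r)) (D.map r.left) (φ l) :=
      (IsPullback.of_right (by rw [← Functor.map_comp, hψ, ← D.map_comp, Over.w r]; exact (hsq j).flip)
        (hφ r) (hsq l).flip).flip
    exact ((repWith_finite_iff _).1 (hDf _ _ r.left)).2 _ _ _ sq
  have s₁ : IsPullback φ₁ ((yon S).map (C.π.app top ≫ ψ top ≫ w₀)) g b := by
    have := hsq₁.paste_vert sq₀
    rwa [← Functor.map_comp, hg i₀, Category.assoc] at this
  have hint : IsIntegralHom ((C.π.app top ≫ ψ top ≫ w₀).left) := ((repWith_integralHom_iff g).1 hX).2 _ _ _ s₁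
  haveI : IsIso (ψ top) := by
    have : IsIso (D.map top.hom) := by
      show IsIso (D.map (𝟙 i₀))
      infer_instance
    have : IsIso ((yon S).map (ψ top)) := (hsq top).isIso_snd_of_isIso
    exact isIso_of_fully_faithful (yon S) _
  haveI : IsIso (ψ top).left := inferInstanceAs (IsIso ((Over.forget S).map (ψ top)))
  haveI : LocallyOfFiniteType ((ψ top ≫ w₀).left) := by rw [Over.comp_left]; infer_instance
  obtain ⟨j, hj⟩ := exists_isFinite_stage D' ((Over.forget S).mapCone C) hC (fun k => (ψ k ≫ w₀).left)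
    (fun {k l} r => by
      show (F.map r).left ≫ _ = _
      rw [← Over.comp_left, ← Category.assoc, hψ])
    (fun r => hfin r) top (by
      show IsIntegralHom ((C.π.app top).left ≫ (ψ top ≫ w₀).left)
      rw [← Over.comp_left]; exact hint)
  refine ⟨j.left, fun k η => ?_⟩
  let n : Over i₀ := Over.mk (η ≫ j.hom)
  have sn : IsPullback (φ n) ((yon S).map (ψ n ≫ w₀)) (t.app k) b := by
    have := (hsq n).paste_vert sq₀
    rwa [← Functor.map_comp, ht] at this
  have hrk := (repWith_affineHom_iff _).1 (ha k (η ≫ j.hom))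
  exact (repWith_finite_iff _).2 (repWith_of_etale_cover hrk.1 sn hb hbs (hj n (Over.homMk η rfl)))

end

end Groth.Agent.AlgSpLimit
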