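import Groth.Agent.AlgSpLimit.LimitSpace
import Groth.Agent.AlgSpLimit.DescendRep

/-!
# A monomorphism to a limit of algebraic spaces is eventually a monomorphism
-/

set_option autoImplicit false
set_option backward.isDefEq.respectTransparency false
set_option linter.style.haveILetI false

universe u

open CategoryTheory CategoryTheory.Limits AlgebraicGeometry Opposite

namespace Groth.Agent.AlgSpLimit

open _root_.AlgSp Groth.Agent.AlgSpc

noncomputable section

variable {S : Scheme.{u}}

/-- Self fibre products vary affinely along an affine morphism of the bases. -/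
theorem isAffineMor_map_self {Y A A' : Sp S} (f : Y ⟶ A) (i : A ⟶ A') (f' : Y ⟶ A') (hf : f ≫ i = f')
    (hi : IsAffineMor i) :
    IsAffineMor (pullback.map f f f' f' (𝟙 Y) (𝟙 Y) i (by rw [hf, Category.id_comp]) (by rw [hf, Category.id_comp])) := by
  subst hf
  refine (repWith_affineHom_iff _).2 (repWith_of_isPullback (pullback_map_diagonal_isPullback f f i) ?_)
  exact repWith_mono (fun _ _ g (hg : IsClosedImmersion g) => inferInstanceAs (IsAffineHom g))
    (isSeparatedMor_of_repWith_affineHom ((repWith_affineHom_iff _).1 hi))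

set_option maxHeartbeats 400000 in
theorem eventually_mono [QuasiSeparatedSpace ↥S] {I : Type u} [SmallCategory I] [IsCofiltered I]
    {B : Sp S} (hB : IsAlgSpace B) (D : I ⥤ Sp S) (hD : ∀ i, IsAlgSpace (D.obj i))
    (t : D ⟶ (Functor.const I).obj B) (hDa : ∀ (i j : I) (φ : i ⟶ j), IsAffineMor (D.map φ))
    (c : Cone D) (hc : IsLimit c) (hqs : ∀ i, IsQuasiSeparatedSp (D.obj i))
    {Y : Sp S} (hY : IsAlgSpace Y) (hYqc : IsQuasiCompactSp Y) (y : Y ⟶ c.pt) [Mono y] (i₁ : I)
    (hYB : LocP @LocallyOfFiniteType (y ≫ c.π.app i₁ ≫ t.app i₁)) :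
    ∃ i₀ : I, ∀ (i : I) (_ : i ⟶ i₀), Mono (y ≫ c.π.app i) := by
  let q : ∀ j : Over i₁, Y ⟶ D.obj j.left := fun j => y ≫ c.π.app j.left
  have hq : ∀ {j k : Over i₁} (v : j ⟶ k), q j ≫ D.map v.left = q k := fun v => by simp [q, c.w]
  let P : Over i₁ ⥤ Sp S :=
    { obj := fun j => pullback (q j) (q j)
      map := fun {j k} v => pullback.map _ _ _ _ (𝟙 Y) (𝟙 Y) (D.map v.left) (by rw [hq v, Category.id_comp])
        (by rw [hq v, Category.id_comp])
      map_id := fun j => by apply pullback.hom_ext <;> simp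
      map_comp := fun v w => by apply pullback.hom_ext <;> simp }
  have hPa : ∀ (j k : Over i₁) (v : j ⟶ k), IsAffineMor (P.map v) := fun j k v =>
    isAffineMor_map_self (q j) (D.map v.left) (q k) (hq v) (hDa _ _ _)
  let Δ : ∀ j, Y ⟶ P.obj j := fun j => pullback.diagonal (q j)
  have hΔ : ∀ {j k : Over i₁} (v : j ⟶ k), Δ j ≫ P.map v = Δ k := fun v => by
    apply pullback.hom_ext <;> simp [Δ, P]
  let cP : Cone P :=
    { pt := Y
      π := { app := Δ
             naturality := fun j k v => by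
              simp only [Functor.const_obj_map]
              exact (Category.id_comp _).trans (hΔ v).symm } }
  let top : Over i₁ := Over.mk (𝟙 i₁)
  have : Mono (Δ top) := inferInstanceAs (Mono (pullback.diagonal _))
  have hP : ∀ (s : Cone P) (j : Over i₁),
      s.π.app j ≫ pullback.fst (q j) (q j) = s.π.app top ≫ pullback.fst (q top) (q top) ∧
      s.π.app j ≫ pullback.snd (q j) (q j) = s.π.app top ≫ pullback.snd (q top) (q top) := fun s j => by
    rw [← s.w (Over.homMk j.hom (by simp [top]) : j ⟶ top)]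
    constructor <;> simp [P]
  have hPeq : ∀ s : Cone P,
      s.π.app top ≫ pullback.fst (q top) (q top) = s.π.app top ≫ pullback.snd (q top) (q top) := fun s => by
    rw [← cancel_mono y]
    refine hc.hom_ext fun i => ?_
    obtain ⟨m, u, v, -⟩ := IsCofilteredOrEmpty.cone_objs i₁ i
    have h := congrArg (s.π.app (Over.mk u) ≫ ·) (pullback.condition (f := q (Over.mk u)) (g := q (Over.mk u)))
    simp only [← Category.assoc] at h
    rw [(hP s (Over.mk u)).1, (hP s (Over.mk u)).2] at h
    rw [← c.w v]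
    simpa [q, Category.assoc] using congrArg (· ≫ D.map v) h
  let hcP : IsLimit cP :=
    { lift := fun s => s.π.app top ≫ pullback.fst (q top) (q top)
      fac := fun s j => by
        apply pullback.hom_ext
        · simpa [cP, Δ] using (hP s j).1.symm
        · rw [(hP s j).2, ← hPeq]
          simp [cP, Δ]
      uniq := fun s m hm => by
        rw [← hm top]
        simp [cP, Δ] }
  -- the structure of the first stage
  have hY' : IsQuasiSeparatedSp Y := by
    obtain ⟨w⟩ := AlgSpDesc.exists_toBase (hD i₁)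
    refine AlgSpDesc.isQuasiSeparatedSp_of_mor (fun w' => ?_) (y ≫ c.π.app i₁ ≫ w)
    rw [yon_toBase_unique w' (y ≫ c.π.app i₁ ≫ w)]
    refine repWith_diagonal_comp ?_ (repWith_diagonal_comp ?_ (AlgSpDesc.isQuasiSeparatedMor_of_sp (hD i₁) (hqs i₁) w))
    · exact repWith_mono (fun _ _ g (hg : IsIso g) => inferInstanceAs (QuasiCompact g))
        (repWith_iso (P := MorphismProperty.isomorphisms Scheme.{u}) (pullback.diagonal y))
    · exact repWith_mono (fun _ _ g (hg : IsClosedImmersion g) => inferInstanceAs (QuasiCompact g))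
        (isSeparatedMor_of_repWith_affineHom ((repWith_affineHom_iff _).1 (isAffineMor_π D hDa c hc i₁)))
  have hlft : LocP @LocallyOfFiniteType (q top) :=
    locP_of_comp (P := @LocallyOfFiniteType) (Q := ⊤)
      (fun h k (_ : LocallyOfFiniteType (h ≫ k)) _ => locallyOfFiniteType_of_comp h k)
      hY (hD i₁) hB (by simp only [q, top, Over.mk_left, Category.assoc]; exact hYB) (locP_top _)
  have sP := IsPullback.of_hasPullback (q top) (q top)
  have hPalg : IsAlgSpace (P.obj top) := isAlgSpace_of_isPullback hY (hD i₁) hY sP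
  have hPqc : IsQuasiCompactSp (P.obj top) :=
    AlgSpDesc.isQuasiCompactMor_of_qc_qs hY (hD i₁) hYqc (hqs i₁) (q top) hY hYqc (q top) _ _ sP
  have hd := repWith_diagonal_qcqs hY hY' (q top)
  have hl := AlgSpFormal.repWith_of_locP hY hPalg hd.1 (locP_lfp_diagonal hY (hD i₁) hlft)
  have hΔid : IsPullback (𝟙 Y) (𝟙 Y) (Δ top) (Δ top) := IsKernelPair.id_of_mono (Δ top)
  obtain ⟨m, v, h⟩ := descend_repWith P hPa cP hcP LimSch.descends_isomorphisms hPalg (Δ top) (𝟙 _) hPqc
    ⟨hd.1, fun _ _ g fst snd sq => ⟨(hd.2 g fst snd sq).1, hl.2 g fst snd sq⟩⟩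
    (IsPullback.of_vert_isIso ⟨show Δ top ≫ 𝟙 _ = 𝟙 Y ≫ cP.π.app top by simp [cP]⟩)
    hΔid (repWith_iso (𝟙 Y))
  refine ⟨m.left, fun i f => ?_⟩
  let k : Over i₁ := Over.mk (f ≫ m.hom)
  let η : k ⟶ m := Over.homMk f rfl
  have : Mono (P.map (η ≫ v)) := ⟨fun {Z} a b e => by
    apply pullback.hom_ext
    · simpa [P] using congrArg (· ≫ pullback.fst (q top) (q top)) e
    · simpa [P] using congrArg (· ≫ pullback.snd (q top) (q top)) e⟩
  have hk : IsPullback (𝟙 Y) (Δ k) (Δ top) (P.map (η ≫ v)) :=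
    ⟨⟨by rw [Category.id_comp, hΔ]⟩, ⟨PullbackCone.IsLimit.mk (by rw [Category.id_comp, hΔ]) (fun s => s.fst)
      (fun s => Category.comp_id _)
      (fun s => by rw [← cancel_mono (P.map (η ≫ v)), Category.assoc, hΔ, s.condition])
      fun s n h₁ _ => by simpa using h₁⟩⟩
  exact (AlgSpLoc.mono_iff_diagonal hY (q k)).2 (h k η Y (P.obj k) (Δ k) (P.map (η ≫ v)) (𝟙 _)
    (IsPullback.of_vert_isIso ⟨by simp⟩) (𝟙 Y) hk)

end

end Groth.Agent.AlgSpLimit
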