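import Groth.Agent.AlgSpLimit.EventuallyClosed

/-!
# Separatedness is eventual along limits of algebraic spaces
-/

set_option autoImplicit false
set_option backward.isDefEq.respectTransparency false
set_option linter.style.haveILetI false

universe u

open CategoryTheory CategoryTheory.Limits AlgebraicGeometry Opposite

namespace Groth.Agent.AlgSpLimit

open _root_.AlgSp Groth.Agent.AlgSpc

noncomputable section

variable {S : Scheme.{u}}

theorem isAffineMor_map_sq {X X' Y : Sp S} (f : X ⟶ Y) (u : X ⟶ X') (f' : X' ⟶ Y) (hf : u ≫ f' = f)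
    (hu : IsAffineMor u) :
    IsAffineMor (pullback.map f f f' f' u u (𝟙 Y) (by rw [hf, Category.comp_id]) (by rw [hf, Category.comp_id])) := by
  let m₁ : pullback f f ⟶ pullback f f' := pullback.map _ _ _ _ (𝟙 X) u (𝟙 Y) (by simp) (by rw [hf, Category.comp_id])
  let m₂ : pullback f f' ⟶ pullback f' f' := pullback.map _ _ _ _ u (𝟙 X') (𝟙 Y) (by rw [hf, Category.comp_id]) (by simp)
  have e : pullback.map f f f' f' u u (𝟙 Y) (by rw [hf, Category.comp_id]) (by rw [hf, Category.comp_id]) = m₁ ≫ m₂ := by
    apply pullback.hom_ext <;> simp [m₁, m₂]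
  have s₁ : IsPullback (pullback.snd f f) m₁ u (pullback.snd f f') := by
    refine IsPullback.of_bot (v₂₁ := pullback.fst f f') ?_ (by simp [m₁]) (IsPullback.of_hasPullback f f').flip
    rw [hf, show m₁ ≫ pullback.fst f f' = pullback.fst f f by simp [m₁]]
    exact (IsPullback.of_hasPullback f f).flip
  have s₂ : IsPullback (pullback.fst f f') m₂ u (pullback.fst f' f') := by
    refine IsPullback.of_bot (v₂₁ := pullback.snd f' f') ?_ (by simp [m₂]) (IsPullback.of_hasPullback f' f')
    rw [hf, show m₂ ≫ pullback.snd f' f' = pullback.snd f f' by simp [m₂]]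
    exact IsPullback.of_hasPullback f f'
  rw [e]
  exact isAffineMor_comp ((repWith_affineHom_iff _).2 (repWith_of_isPullback s₁ ((repWith_affineHom_iff _).1 hu)))
    ((repWith_affineHom_iff _).2 (repWith_of_isPullback s₂ ((repWith_affineHom_iff _).1 hu)))

theorem closed_comparison {X X' Y : Sp S} (u : X ⟶ X') (i : X' ⟶ Y) (f : X ⟶ Y) (hf : u ≫ i = f) (hu : IsAffineMor u)
    (w : u ≫ pullback.diagonal i = pullback.diagonal f ≫
      pullback.map f f i i u u (𝟙 Y) (by rw [hf, Category.comp_id]) (by rw [hf, Category.comp_id])) :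
    RepWith @IsClosedImmersion (pullback.lift u (pullback.diagonal f) w) := by
  subst hf
  have sq := pullback_map_diagonal_isPullback u u i
  have e : pullback.lift u (pullback.diagonal (u ≫ i)) w = pullback.diagonal u ≫ sq.isoPullback.hom := by
    apply pullback.hom_ext
    · simp only [pullback.lift_fst, Category.assoc, IsPullback.isoPullback_hom_fst, pullback.diagonal_fst_assoc]
    · simp only [pullback.lift_snd, Category.assoc, IsPullback.isoPullback_hom_snd]
      apply pullback.hom_ext <;> simp
  rw [e]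
  exact repWith_comp (isSeparatedMor_of_repWith_affineHom ((repWith_affineHom_iff _).1 hu)) (repWith_iso _)

set_option maxHeartbeats 400000 in
theorem eventually_separated [QuasiSeparatedSpace ↥S] {I : Type u} [SmallCategory I] [IsCofiltered I]
    {Y : Sp S} (hY : IsAlgSpace Y) (D : I ⥤ Sp S) (hD : ∀ i, IsAlgSpace (D.obj i))
    (t : D ⟶ (Functor.const I).obj Y) (hDa : ∀ (i j : I) (φ : i ⟶ j), IsAffineMor (D.map φ))
    (c : Cone D) (hc : IsLimit c) (g : c.pt ⟶ Y) (hg : ∀ i, c.π.app i ≫ t.app i = g)
    (hqc : ∀ i, IsQuasiCompactSp (D.obj i)) (hqs : ∀ i, IsQuasiSeparatedSp (D.obj i))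
    (hYqs : IsQuasiSeparatedSp Y) (hX : IsSeparatedMor g) :
    ∃ i₀ : I, ∀ (i : I) (_ : i ⟶ i₀), IsSeparatedMor (t.app i) := by
  have ht : ∀ {i j : I} (φ : i ⟶ j), D.map φ ≫ t.app j = t.app i := fun φ => (t.naturality φ).trans (Category.comp_id _)
  let Q : I ⥤ Sp S :=
    { obj := fun i => pullback (t.app i) (t.app i)
      map := fun {i j} φ => pullback.map _ _ _ _ (D.map φ) (D.map φ) (𝟙 Y)
        ((Category.comp_id _).trans (ht φ).symm) ((Category.comp_id _).trans (ht φ).symm)
      map_id := fun i => by apply pullback.hom_ext <;> simp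
      map_comp := fun φ ψ => by apply pullback.hom_ext <;> simp }
  let Δ : D ⟶ Q :=
    { app := fun i => pullback.diagonal (t.app i)
      naturality := fun i j φ => by apply pullback.hom_ext <;> simp [Q] }
  let cQ : Cone Q :=
    { pt := pullback g g
      π := { app := fun i => pullback.map _ _ _ _ (c.π.app i) (c.π.app i) (𝟙 Y)
              (by rw [hg, Category.comp_id]) (by rw [hg, Category.comp_id])
             naturality := fun i j φ => by
              refine (Category.id_comp _).trans ?_
              apply pullback.hom_ext <;> simp [Q, c.w] } }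
  let sl : Cone Q → Cone D := fun s =>
    { pt := s.pt
      π := { app := fun i => s.π.app i ≫ pullback.fst (t.app i) (t.app i)
             naturality := fun i j φ => by
              refine (Category.id_comp _).trans ?_
              rw [← s.w φ]; simp [Q] } }
  let sr : Cone Q → Cone D := fun s =>
    { pt := s.pt
      π := { app := fun i => s.π.app i ≫ pullback.snd (t.app i) (t.app i)
             naturality := fun i j φ => by
              refine (Category.id_comp _).trans ?_
              rw [← s.w φ]; simp [Q] } }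
  obtain ⟨i₀⟩ := IsCofiltered.nonempty (C := I)
  have hlr : ∀ s, hc.lift (sl s) ≫ g = hc.lift (sr s) ≫ g := fun s => by
    rw [← hg i₀, ← Category.assoc, ← Category.assoc, hc.fac, hc.fac]
    show (s.π.app i₀ ≫ _) ≫ _ = (s.π.app i₀ ≫ _) ≫ _
    rw [Category.assoc, Category.assoc, pullback.condition]
  let hcQ : IsLimit cQ :=
    { lift := fun s => pullback.lift (hc.lift (sl s)) (hc.lift (sr s)) (hlr s)
      fac := fun s i => by
        apply pullback.hom_ext
        · simp only [cQ, Category.assoc, pullback.lift_fst, pullback.lift_fst_assoc]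
          exact hc.fac (sl s) i
        · simp only [cQ, Category.assoc, pullback.lift_snd, pullback.lift_snd_assoc]
          exact hc.fac (sr s) i
      uniq := fun s m hm => by
        apply pullback.hom_ext
        · rw [pullback.lift_fst]
          refine hc.hom_ext fun i => ?_
          rw [hc.fac]
          show (m ≫ pullback.fst g g) ≫ c.π.app i = s.π.app i ≫ _
          rw [← hm i]; simp [cQ]
        · rw [pullback.lift_snd]
          refine hc.hom_ext fun i => ?_
          rw [hc.fac]
          show (m ≫ pullback.snd g g) ≫ c.π.app i = s.π.app i ≫ _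
          rw [← hm i]; simp [cQ] }
  have hQa : ∀ (i j : I) (φ : i ⟶ j), IsAffineMor (Q.map φ) := fun i j φ =>
    isAffineMor_map_sq (t.app i) (D.map φ) (t.app j) (ht φ) (hDa _ _ φ)
  have sP := IsPullback.of_hasPullback (t.app i₀) (t.app i₀)
  obtain ⟨hPc, -⟩ := AlgSpDesc.qcqs_pullback (hD i₀) hY (hD i₀) sP (hqc i₀) (hqs i₀) hYqs (hqc i₀) (hqs i₀)
  obtain ⟨k, -, hk⟩ := eventually_closed Δ hQa hc hcQ (pullback.diagonal g)
    (fun i => by apply pullback.hom_ext <;> simp [Δ, cQ]) i₀
    (isAlgSpace_of_isPullback (hD i₀) hY (hD i₀) sP) hPc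
    (fun i => AlgSpLoc.representable_diagonal_mor (hD i) (t.app i)) (repWith_diagonal_qcqs (hD i₀) (hqs i₀) (t.app i₀))
    (fun j φ => closed_comparison (D.map φ) (t.app i₀) (t.app j) (ht φ) (hDa _ _ φ) (Δ.naturality φ)) hX
  exact ⟨k, hk⟩

/-- A property of the absolute diagonal is a property of the diagonal over the base. -/
theorem repWith_diag_iff_base {P : MorphismProperty Scheme.{u}} {X : Sp S} (f : X ⟶ (yon S).obj (Over.mk (𝟙 S))) :
    RepWith P (Limits.diag X) ↔ RepWith P (pullback.diagonal f) := by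
  let m : pullback f f ⟶ X ⨯ X := prod.lift (pullback.fst f f) (pullback.snd f f)
  have hm : pullback.diagonal f ≫ m = Limits.diag X := by ext <;> simp [m]
  haveI : IsIso m := ⟨⟨pullback.lift prod.fst prod.snd (yon_toBase_unique _ _),
    by apply pullback.hom_ext <;> simp [m], by apply prod.hom_ext <;> simp [m]⟩⟩
  have h₁ : IsPullback (𝟙 X) (pullback.diagonal f) (Limits.diag X) m :=
    IsPullback.of_horiz_isIso ⟨by simp [hm]⟩
  have h₂ : IsPullback (𝟙 X) (Limits.diag X) (pullback.diagonal f) (inv m) :=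
    IsPullback.of_horiz_isIso ⟨by simp [← hm]⟩
  exact ⟨repWith_of_isPullback h₁, repWith_of_isPullback h₂⟩

theorem isQuasiSeparatedSp_base : IsQuasiSeparatedSp ((yon S).obj (Over.mk (𝟙 S))) := by
  refine (repWith_diag_iff_base (P := @QuasiCompact) (𝟙 _)).2 ?_
  exact repWith_mono (fun _ _ g (hg : IsIso g) => inferInstanceAs (QuasiCompact g))
    (repWith_iso (P := MorphismProperty.isomorphisms Scheme.{u}) _)

theorem exists_separatedSp [QuasiSeparatedSpace ↥S] {I : Type u} [SmallCategory I] [IsCofiltered I]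
    (D : I ⥤ Sp S) (hD : ∀ i, IsAlgSpace (D.obj i))
    (hDa : ∀ (i j : I) (φ : i ⟶ j), IsAffineMor (D.map φ))
    (hqc : ∀ i, IsQuasiCompactSp (D.obj i)) (hqs : ∀ i, IsQuasiSeparatedSp (D.obj i))
    (c : Cone D) (hc : IsLimit c) (hX : IsSeparatedSp c.pt) : ∃ i, IsSeparatedSp (D.obj i) := by
  let q := fun i => (AlgSpDesc.exists_toBase (hD i)).some
  obtain ⟨i₁⟩ := IsCofiltered.nonempty (C := I)
  obtain ⟨i₀, h⟩ := eventually_separated (IsAlgSpace.yon_obj _) D hD
    { app := q, naturality := fun _ _ _ => yon_toBase_unique _ _ } hDa c hc (c.π.app i₁ ≫ q i₁)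
    (fun i => yon_toBase_unique _ _) hqc hqs isQuasiSeparatedSp_base ((repWith_diag_iff_base _).1 hX)
  exact ⟨i₀, (repWith_diag_iff_base (q i₀)).2 (h i₀ (𝟙 i₀))⟩

theorem eventually_separated_scheme [QuasiSeparatedSpace ↥S] {I : Type u} [SmallCategory I] [IsCofiltered I]
    (D : I ⥤ Scheme.{u}) (t : D ⟶ (Functor.const I).obj S) (c : Cone D) (hc : IsLimit c)
    [∀ (i j : I) (a : i ⟶ j), IsAffineHom (D.map a)]
    [∀ i, CompactSpace (D.obj i)] [∀ i, QuasiSeparatedSpace (D.obj i)] (i₀ : I)
    [IsSeparated (c.π.app i₀ ≫ t.app i₀)] :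
    ∃ i₁ : I, ∀ (i : I) (_ : i ⟶ i₁), IsSeparated (t.app i) := by
  have : IsConnected I := IsCofiltered.isConnected I
  have ht : ∀ {i j : I} (φ : i ⟶ j), D.map φ ≫ t.app j = t.app i := fun φ => (t.naturality φ).trans (Category.comp_id _)
  let E : I ⥤ Over S :=
    { obj := fun i => Over.mk (t.app i)
      map := fun {i j} φ => Over.homMk (D.map φ) (ht φ) }
  let cE : Cone E :=
    { pt := Over.mk (c.π.app i₀ ≫ t.app i₀)
      π := { app := fun i => Over.homMk (c.π.app i) (by
              obtain ⟨m, u, v, -⟩ := IsCofilteredOrEmpty.cone_objs i i₀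
              show c.π.app i ≫ t.app i = c.π.app i₀ ≫ t.app i₀
              rw [← c.w u, ← c.w v, Category.assoc, Category.assoc, ht u, ht v])
             naturality := fun i j φ => by ext; exact (c.π.naturality φ) } }
  have hE : IsLimit cE := isLimitOfReflects (Over.forget S) (hc : IsLimit ((Over.forget S).mapCone cE))
  let base : Over S := Over.mk (𝟙 S)
  let q : ∀ i, E.obj i ⟶ base := fun i => Over.homMk (t.app i) (Category.comp_id _)
  have hqs : ∀ i, IsQuasiSeparatedSp ((yon S).obj (E.obj i)) := fun i =>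
    (repWith_diag_iff_base ((yon S).map (q i))).2 ((isQuasiSeparatedMor_yon_map_iff (q i)).2
      (inferInstanceAs (QuasiSeparated (t.app i))))
  obtain ⟨i₁, h⟩ := eventually_separated (IsAlgSpace.yon_obj base) (E ⋙ yon S) (fun i => IsAlgSpace.yon_obj _)
    { app := fun i => (yon S).map (q i), naturality := fun _ _ _ => yon_toBase_unique _ _ }
    (fun i j φ => (repWith_affineHom_iff _).2 ((repWith_yon_map_iff _ _).2 (inferInstanceAs (IsAffineHom (D.map φ)))))
    ((yon S).mapCone cE) (isLimitOfPreserves (yon S) hE) ((yon S).map (Over.homMk (c.π.app i₀ ≫ t.app i₀) (Category.comp_id _)))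
    (fun i => yon_toBase_unique _ _)
    (fun i => haveI : CompactSpace (E.obj i).left := inferInstanceAs (CompactSpace (D.obj i)); isQuasiCompactSp_yon)
    hqs isQuasiSeparatedSp_base
    ((isSeparatedMor_yon_map_iff _).2 (inferInstanceAs (IsSeparated (c.π.app i₀ ≫ t.app i₀))))
  exact ⟨i₁, fun i φ => (isSeparatedMor_yon_map_iff (q i)).1 (h i φ)⟩

end

end Groth.Agent.AlgSpLimit
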