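import Groth.Agent.AlgSpLimit.LimitSpace
import Groth.Agent.AlgSpLimit.SepLimit
import Groth.Agent.AlgSpFormal.Mono
import Groth.Agent.AlgSpc.More
import Groth.Agent.AlgSpc.OpenSubspace
import Mathlib.AlgebraicGeometry.AffineTransitionLimit

/-!
# Quasi-compact opens of a limit of algebraic spaces come from a stage
-/

set_option autoImplicit false
set_option backward.isDefEq.respectTransparency false
set_option linter.style.haveILetI false

universe u

open CategoryTheory CategoryTheory.Limits AlgebraicGeometry Opposite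

namespace Groth.Agent.AlgSpLimit

open _root_.AlgSp Groth.Agent.AlgSpc

noncomputable section

variable {S : Scheme.{u}}

theorem injective_points_of_mono {X Y : Sp S} (hY : IsAlgSpace Y) (f : X ⟶ Y) [Mono f] :
    Function.Injective (Points.map f) :=
  AlgSpFormal.univInjective_of_mono (f := f) hY (𝟙 Y) (𝟙 X) f (IsPullback.of_horiz_isIso ⟨by simp⟩)

set_option maxHeartbeats 1000000 in
theorem exists_open_stage [QuasiSeparatedSpace ↥S] {I : Type u} [SmallCategory I] [IsCofiltered I]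
    (D : I ⥤ Sp S) (hD : ∀ i, IsAlgSpace (D.obj i))
    (hDa : ∀ (i j : I) (φ : i ⟶ j), IsAffineMor (D.map φ))
    (hqc : ∀ i, IsQuasiCompactSp (D.obj i)) (hqs : ∀ i, IsQuasiSeparatedSp (D.obj i))
    (c : Cone D) (hc : IsLimit c)
    {U : Sp S} (j : U ⟶ c.pt) (hj : RepWith @IsOpenImmersion j) (hU : IsQuasiCompactSp U) :
    ∃ (i : I) (Ui : Sp S) (ji : Ui ⟶ D.obj i) (q : U ⟶ Ui),
      RepWith @IsOpenImmersion ji ∧ IsQuasiCompactSp Ui ∧ IsPullback j q (c.π.app i) ji := by
  obtain ⟨i₁⟩ := IsCofiltered.nonempty (C := I)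
  have hX := isAlgSpace_limit D hDa c hc hD
  haveI hjm : Mono j := mono_of_repWith (fun _ _ f (_ : IsOpenImmersion f) => inferInstance) hj
  have hUa : IsAlgSpace U := isAlgSpace_of_representable hj.1 hX
  obtain ⟨V, b, hV, hb, hbs⟩ := (isQuasiCompactSp_iff_affine (hD i₁)).1 (hqc i₁)
  obtain ⟨F, φ, ψ, hF, hsq, hφ, hψ⟩ := exists_affine_system D hDa b hV
  obtain ⟨C, hC, φ₁, hsq₁, hφ₁⟩ := exists_affine_limit' D c hc b F φ ψ hF hsq hφ hψ
  let D' := F ⋙ Over.forget S
  haveI : ∀ k, IsAffine (D'.obj k) := hF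
  haveI : ∀ {k l : Over i₁} (t : k ⟶ l), IsAffineHom (D'.map t) := fun t => inferInstance
  have hCaff : IsAffine C.pt.left := Scheme.isAffine_of_isLimit ((Over.forget S).mapCone C) hC
  -- the preimage of the open in the chart
  have hRo : IsOpen (Set.range (Points.map j)) := (isOpenMap_map_of_repWith (fun _ _ f (hf : IsOpenImmersion f) => f.isOpenEmbedding.isOpenMap) hj).isOpen_range
  have hRc : IsCompact (Set.range (Points.map j)) :=
    haveI := compactSpace_points hU
    isCompact_range (Points.continuous_map j)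
  let U₁ : C.pt.left.Opens := ⟨Points.ofPt φ₁ ⁻¹' Set.range (Points.map j), hRo.preimage (Points.continuous_ofPt φ₁)⟩
  have hXs : IsQuasiSeparatedSp c.pt := by
    obtain ⟨q⟩ := AlgSpDesc.exists_toBase (hD i₁)
    refine AlgSpDesc.isQuasiSeparatedSp_of_mor (fun w' => ?_) (c.π.app i₁ ≫ q)
    rw [yon_toBase_unique w' (c.π.app i₁ ≫ q)]
    exact repWith_diagonal_comp
      (repWith_mono (fun _ _ g (hg : IsClosedImmersion g) => inferInstanceAs (QuasiCompact g))
        (isSeparatedMor_of_repWith_affineHom ((repWith_affineHom_iff _).1 (isAffineMor_π D hDa c hc i₁))))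
      (AlgSpDesc.isQuasiSeparatedMor_of_sp (hD i₁) (hqs i₁) q)
  have hU₁ : IsCompact (U₁ : Set C.pt.left) := by
    have h1 := isCompact_preimage_of_qcMor hX (AlgSpDesc.isQuasiCompactMor_of_qc_qs (IsAlgSpace.yon_obj C.pt) hX
      isQuasiCompactSp_yon hXs φ₁) hRo hRc
    have h2 : (U₁ : Set C.pt.left) = (Points.schemeEquiv C.pt) ⁻¹' (Points.map φ₁ ⁻¹' Set.range (Points.map j)) := by
      ext x
      show Points.ofPt φ₁ x ∈ Set.range (Points.map j) ↔ Points.map φ₁ (Points.schemeEquiv C.pt x) ∈ Set.range (Points.map j)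
      rw [Points.ofPt_eq_map_ofScheme]
      rfl
    rw [h2, ← Equiv.image_symm_eq_preimage]
    exact h1.image (Points.schemeHomeo C.pt).symm.continuous
  obtain ⟨k, W, hWc, hW⟩ := exists_preimage_eq D' _ hC U₁ hU₁
  -- the double chart
  have sP := IsPullback.of_hasPullback b b
  have hP := isAlgSpace_of_isPullback (IsAlgSpace.yon_obj V) (hD i₁) (IsAlgSpace.yon_obj V) sP
  obtain ⟨W', r, hW', hr, hrs⟩ := (isQuasiCompactSp_iff_affine hP).1
    (AlgSpDesc.isQuasiCompactMor_of_qc_qs (IsAlgSpace.yon_obj V) (hD i₁) isQuasiCompactSp_yon (hqs i₁) b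
      (IsAlgSpace.yon_obj V) isQuasiCompactSp_yon b _ _ sP)
  let gW' : (yon S).obj W' ⟶ D.obj i₁ := r ≫ pullback.fst b b ≫ b
  obtain ⟨F', φ', ψ', hF', hsq', hφ', hψ'⟩ := exists_affine_system D hDa gW' hW'
  obtain ⟨C', hC', φ₁', hsq₁', hφ₁'⟩ := exists_affine_limit' D c hc gW' F' φ' ψ' hF' hsq' hφ' hψ'
  let D'' := F' ⋙ Over.forget S
  haveI : ∀ k, IsAffine (D''.obj k) := hF'
  haveI : ∀ {k l : Over i₁} (t : k ⟶ l), IsAffineHom (D''.map t) := fun t => inferInstance
  have key : ∀ pr : (yon S).obj W' ⟶ (yon S).obj V, pr ≫ b = gW' →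
      ∃ p : ∀ m, F'.obj m ⟶ F.obj m, (∀ m, (yon S).map (p m) ≫ φ m = φ' m) ∧
        (∀ m, (yon S).map (p m ≫ ψ m) = (yon S).map (ψ' m) ≫ pr) ∧
        (∀ {m l} (t : m ⟶ l), F'.map t ≫ p l = p m ≫ F.map t) ∧
        ∀ m, ∃ e : C'.pt ⟶ C.pt, e ≫ C.π.app m = C'.π.app m ≫ p m ∧ (yon S).map e ≫ φ₁ = φ₁' := by
    intro pr hpr
    have hw : ∀ m, φ' m ≫ D.map m.hom = ((yon S).map (ψ' m) ≫ pr) ≫ b := fun m => by
      rw [(hsq' m).w, Category.assoc, hpr]
    let p : ∀ m, F'.obj m ⟶ F.obj m := fun m => (yon S).preimage ((hsq m).lift _ _ (hw m))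
    have hp₁ : ∀ m, (yon S).map (p m) ≫ φ m = φ' m := fun m => by simp [p]
    have hp₂ : ∀ m, (yon S).map (p m ≫ ψ m) = (yon S).map (ψ' m) ≫ pr := fun m => by simp [p]
    refine ⟨p, hp₁, hp₂, fun {m l} t => (yon S).map_injective ((hsq l).hom_ext ?_ ?_), fun m => ?_⟩
    · rw [Functor.map_comp, Category.assoc, hp₁, Functor.map_comp, Category.assoc, hφ, reassoc_of% (hp₁ m), hφ']
    · rw [← Functor.map_comp, ← Functor.map_comp, Category.assoc, Category.assoc, hψ, hp₂ m,
        Functor.map_comp, hp₂ l, ← Functor.map_comp_assoc, hψ']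
    let top : Over i₁ := Over.mk (𝟙 i₁)
    have hwe : φ₁' ≫ c.π.app i₁ = ((yon S).map (C'.π.app top ≫ ψ' top) ≫ pr) ≫ b := by
      rw [hsq₁'.w, Category.assoc, hpr]
    let e : C'.pt ⟶ C.pt := (yon S).preimage (hsq₁.lift _ _ hwe)
    have he₁ : (yon S).map e ≫ φ₁ = φ₁' := by simp [e]
    have he₂ : (yon S).map (e ≫ C.π.app top ≫ ψ top) = (yon S).map (C'.π.app top ≫ ψ' top) ≫ pr := by
      rw [Functor.map_comp, Functor.map_preimage]
      exact hsq₁.lift_snd _ _ _
    refine ⟨e, (yon S).map_injective ((hsq m).hom_ext ?_ ?_), he₁⟩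
    · rw [Functor.map_comp, Category.assoc, ← hφ₁, reassoc_of% he₁, hφ₁', Functor.map_comp, Category.assoc, hp₁]
    · have hm : ∀ (G : Over i₁ ⥤ Over S) (K : Cone G) (χ : ∀ l, G.obj l ⟶ V), (∀ {l l'} (t : l ⟶ l'), G.map t ≫ χ l' = χ l) →
          K.π.app m ≫ χ m = K.π.app top ≫ χ top := fun G K χ hχ => by
        rw [← K.w (Over.homMk m.hom (by simp [top]) : m ⟶ top), Category.assoc, hχ]
      have hm' : C'.π.app m ≫ ψ' m = C'.π.app top ≫ ψ' top := by
        rw [← C'.w (Over.homMk m.hom (by simp [top]) : m ⟶ top), Category.assoc, hψ']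
      rw [← Functor.map_comp, ← Functor.map_comp, Category.assoc, Category.assoc, hm F C ψ hψ, he₂,
        ← hm']
      simp only [Functor.map_comp, Category.assoc]
      rw [← Functor.map_comp (yon S) (p m), hp₂]
  obtain ⟨p, hp₁, hp₂, hpn, hpe⟩ := key (r ≫ pullback.fst b b) (Category.assoc _ _ _)
  obtain ⟨p', hp'₁, hp'₂, hp'n, hp'e⟩ := key (r ≫ pullback.snd b b) (by
    simp only [gW', Category.assoc, pullback.condition])
  let A : (D''.obj k).Opens := (p k).left ⁻¹ᵁ W
  let B : (D''.obj k).Opens := (p' k).left ⁻¹ᵁ W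
  have hAB : ((Over.forget S).mapCone C').π.app k ⁻¹ᵁ A = ((Over.forget S).mapCone C').π.app k ⁻¹ᵁ B := by
    obtain ⟨e, he, he'⟩ := hpe k
    obtain ⟨e', hee, hee'⟩ := hp'e k
    show (C'.π.app k).left ⁻¹ᵁ ((p k).left ⁻¹ᵁ W) = (C'.π.app k).left ⁻¹ᵁ ((p' k).left ⁻¹ᵁ W)
    rw [← Scheme.Hom.comp_preimage, ← Scheme.Hom.comp_preimage, ← Over.comp_left, ← Over.comp_left, ← he, ← hee]
    ext x
    have hW2 : ∀ y : C.pt.left, (C.π.app k).left y ∈ W ↔ Points.ofPt φ₁ y ∈ Set.range (Points.map j) := fun y =>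
      SetLike.ext_iff.1 hW y
    show (C.π.app k).left (e.left x) ∈ W ↔ (C.π.app k).left (e'.left x) ∈ W
    rw [hW2, hW2, ← ofPt_comp, ← ofPt_comp, he', hee']
  have hAc : IsCompact (A : Set (D''.obj k)) :=
    haveI : IsAffineHom (p k).left := inferInstance
    QuasiCompact.isCompact_preimage (f := (p k).left) _ W.2 hWc
  have hBc : IsCompact (B : Set (D''.obj k)) :=
    haveI : IsAffineHom (p' k).left := inferInstance
    QuasiCompact.isCompact_preimage (f := (p' k).left) _ W.2 hWc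
  obtain ⟨m, t, hm⟩ := exists_map_preimage_eq_map_preimage D'' _ hC' hAc hBc hAB
  let Wm : (F.obj m).left.Opens := (F.map t).left ⁻¹ᵁ W
  have hWm : ∀ y : C.pt.left, (C.π.app m).left y ∈ Wm ↔ Points.ofPt φ₁ y ∈ Set.range (Points.map j) := fun y => by
    show (F.map t).left ((C.π.app m).left y) ∈ W ↔ _
    rw [← Scheme.Hom.comp_apply, ← Over.comp_left, C.w]
    exact SetLike.ext_iff.1 hW y
  have hsat : ∀ v w : (F.obj m).left, Points.ofPt (φ m) v = Points.ofPt (φ m) w → w ∈ Wm → v ∈ Wm := by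
    intro v w hvw hw
    rw [Points.ofPt_eq_map_ofScheme, Points.ofPt_eq_map_ofScheme] at hvw
    have sm := IsPullback.of_hasPullback (φ m) (φ m)
    obtain ⟨z, hz₁, hz₂⟩ := exists_point_of_isPullback sm _ _ hvw
    let h : pullback (φ m) (φ m) ⟶ pullback b b :=
      pullback.map _ _ _ _ ((yon S).map (ψ m)) ((yon S).map (ψ m)) (D.map m.hom) (hsq m).w (hsq m).w
    obtain ⟨w', hw'⟩ := surjective_map_of_repWith hrs (Points.map h z)
    obtain ⟨ζ, hζ, -⟩ := exists_point_of_isPullback (IsPullback.of_hasPullback h r) z w' hw'.symm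
    let l : pullback h r ⟶ (yon S).obj (F'.obj m) := (hsq' m).lift (pullback.fst h r ≫ pullback.fst (φ m) (φ m) ≫ φ m)
      (pullback.snd h r) (by
        simp only [gW', Category.assoc]
        rw [← reassoc_of% (pullback.condition (f := h) (g := r))]
        simp only [h, pullback.lift_fst_assoc, Category.assoc]
        rw [(hsq m).w])
    have hl : l ≫ (yon S).map (p m) = pullback.fst h r ≫ pullback.fst (φ m) (φ m) := by
      apply (hsq m).hom_ext
      · simp only [Category.assoc, hp₁, l, IsPullback.lift_fst]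
      · simp only [Category.assoc, ← Functor.map_comp, hp₂, l, IsPullback.lift_snd_assoc]
        rw [← reassoc_of% (pullback.condition (f := h) (g := r))]
        simp [h]
    have hl' : l ≫ (yon S).map (p' m) = pullback.fst h r ≫ pullback.snd (φ m) (φ m) := by
      apply (hsq m).hom_ext
      · simp only [Category.assoc, hp'₁, l, IsPullback.lift_fst, pullback.condition]
      · simp only [Category.assoc, ← Functor.map_comp, hp'₂, l, IsPullback.lift_snd_assoc]
        rw [← reassoc_of% (pullback.condition (f := h) (g := r))]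
        simp [h]
    obtain ⟨x, hx⟩ := (Points.schemeEquiv (F'.obj m)).surjective (Points.map l ζ)
    have hxv : (p m).left x = v := (Points.schemeEquiv (F.obj m)).injective (by
      show Points.ofScheme (F.obj m) ((p m).left x) = Points.ofScheme (F.obj m) v
      rw [← hz₁, ← hζ, ← Points.map_comp, ← hl, Points.map_comp, ← hx, ← pre_map (p m), ← ofPt_pre, pre_map]
      exact Points.ofPt_eq_map_ofScheme _ _)
    have hxw : (p' m).left x = w := (Points.schemeEquiv (F.obj m)).injective (by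
      show Points.ofScheme (F.obj m) ((p' m).left x) = Points.ofScheme (F.obj m) w
      rw [← hz₂, ← hζ, ← Points.map_comp, ← hl', Points.map_comp, ← hx, ← pre_map (p' m), ← ofPt_pre, pre_map]
      exact Points.ofPt_eq_map_ofScheme _ _)
    have hx' : (F'.map t).left x ∈ B → (F'.map t).left x ∈ A := (SetLike.ext_iff.1 hm x).2
    have : (p k).left ((F'.map t).left x) ∈ W := hx' (by
      show (p' k).left ((F'.map t).left x) ∈ W
      rw [← Scheme.Hom.comp_apply, ← Over.comp_left, hp'n, Over.comp_left, Scheme.Hom.comp_apply, hxw]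
      exact hw)
    rw [← Scheme.Hom.comp_apply, ← Over.comp_left, hpn, Over.comp_left, Scheme.Hom.comp_apply, hxv] at this
    exact this
  -- the open of the stage
  have hφm : RepWith @Etale (φ m) := repWith_of_isPullback (hsq m).flip hb
  let O : Set (Points (D.obj m.left)) := Points.ofPt (φ m) '' (Wm : Set (F.obj m).left)
  have hO : IsOpen O := isOpenMap_ofPt hφm _ Wm.2
  have hsatO : ∀ y : C.pt.left, Points.ofPt (φ m) ((C.π.app m).left y) ∈ O ↔ (C.π.app m).left y ∈ Wm := fun y =>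
    ⟨fun ⟨w, hw, he⟩ => hsat _ w he.symm hw, fun h => ⟨_, h, rfl⟩⟩
  have hrange : ∀ x : Points c.pt, x ∈ Set.range (Points.map j) ↔ Points.map (c.π.app m.left) x ∈ O := by
    intro x
    obtain ⟨y, rfl⟩ := surjective_ofPt (repWith_of_isPullback hsq₁.flip hbs) x
    rw [Points.map_ofPt, hφ₁, ofPt_comp]
    exact (hWm y).symm.trans (hsatO y).symm
  let ji := ptsIncl (D.obj m.left) O
  have hji := repWith_ptsIncl (F := D.obj m.left) hO
  have hle : Set.range (Points.map (j ≫ c.π.app m.left)) ⊆ Set.range (Points.map ji) := by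
    rintro _ ⟨u, rfl⟩
    rw [range_ptsIncl, Points.map_comp]
    exact (hrange _).1 ⟨u, rfl⟩
  obtain ⟨q, hq⟩ := (exists_factor_iff hji _).2 hle
  refine ⟨m.left, ptsSheaf (D.obj m.left) O, ji, q, hji, ?_, ?_⟩
  · let T : Over S := Over.mk (Wm.ι ≫ (F.obj m).hom)
    let ι' : T ⟶ F.obj m := Over.homMk Wm.ι rfl
    obtain ⟨g', hg'⟩ := (exists_ptsIncl_iff O ((yon S).map ι' ≫ φ m)).2 fun x => by
      rw [ofPt_comp]
      exact ⟨_, x.2, rfl⟩
    haveI : CompactSpace T.left := isCompact_iff_compactSpace.1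
      (QuasiCompact.isCompact_preimage (f := (F.map t).left) _ W.2 hWc)
    refine isQuasiCompactSp_of_surjective (isAlgSpace_ptsSheaf (hD _) hO) (f := g') (fun z => ?_) isQuasiCompactSp_yon
    have hz : Points.map ji z ∈ O := (Set.ext_iff.1 (range_ptsIncl (D.obj m.left) O) _).1 ⟨z, rfl⟩
    obtain ⟨w, hw, he⟩ := hz
    refine ⟨Points.ofScheme T ⟨w, hw⟩, injective_points_of_mono (hD _) ji ?_⟩
    rw [← Points.map_comp, hg', ← Points.ofPt_eq_map_ofScheme, ofPt_comp]
    exact he
  · have hw : j ≫ c.π.app m.left = q ≫ ji := hq.symm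
    haveI : Mono ji := inferInstanceAs (Mono (ptsIncl _ _))
    have hfac : ∀ s : PullbackCone (c.π.app m.left) ji, ∃ g, g ≫ j = s.fst := fun s => by
      refine (exists_factor_iff hj _).2 ?_
      rintro _ ⟨z, rfl⟩
      rw [hrange, ← Points.map_comp, s.condition, Points.map_comp]
      exact (Set.ext_iff.1 (range_ptsIncl (D.obj m.left) O) _).1 ⟨_, rfl⟩
    choose lift hlift using hfac
    exact ⟨⟨hw⟩, ⟨PullbackCone.IsLimit.mk hw lift hlift
      (fun s => by rw [← cancel_mono ji, Category.assoc, ← hw, ← Category.assoc, hlift, s.condition])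
      fun s n h₁ _ => by rw [← cancel_mono j, h₁, hlift]⟩⟩

end

end Groth.Agent.AlgSpLimit
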