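import Groth.Agent.AlgSpLimit.SysBC
import Groth.Agent.AlgSpLimit.OpenDescend
import Groth.Agent.AlgSpLimit.ClosedApps
import Groth.Agent.AlgSpc.OpenSubspace

/-!
# An immersion into a limit gives an immersion into a stage
-/

set_option autoImplicit false
set_option backward.isDefEq.respectTransparency false
set_option linter.style.haveILetI false

universe u

open CategoryTheory CategoryTheory.Limits AlgebraicGeometry Opposite

namespace Groth.Agent.AlgSpLimit

open _root_.AlgSp Groth.Agent.AlgSpc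

noncomputable section

variable {S : Scheme.{u}}

/-- An open subspace whose set of points is compact is quasi-compact. -/
theorem isQuasiCompactSp_ptsSheaf {F : Sp S} (hF : IsAlgSpace F) {Q : Set (Points F)} (hQ : IsOpen Q)
    (hQc : IsCompact Q) : IsQuasiCompactSp (ptsSheaf F Q) := by
  have he : Topology.IsOpenEmbedding (Points.map (ptsIncl F Q)) :=
    .of_continuous_injective_isOpenMap (Points.continuous_map _) (injective_points_of_mono hF _)
      (isOpenMap_map_of_repWith (fun _ _ f (hf : IsOpenImmersion f) => f.isOpenEmbedding.isOpenMap) (repWith_ptsIncl hQ))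
  refine (isQuasiCompactSp_iff (isAlgSpace_ptsSheaf hF hQ)).2 ⟨?_⟩
  rw [he.toIsEmbedding.isCompact_iff, Set.image_univ, range_ptsIncl]
  exact hQc

/-- An open subspace of a quasi-separated space is quasi-separated. -/
theorem isQuasiSeparatedSp_of_open {U X : Sp S} (hX : IsAlgSpace X) (hXs : IsQuasiSeparatedSp X) (j : U ⟶ X)
    (hj : RepWith @IsOpenImmersion j) : IsQuasiSeparatedSp U := by
  obtain ⟨q⟩ := AlgSpDesc.exists_toBase hX
  refine AlgSpDesc.isQuasiSeparatedSp_of_mor (fun w' => ?_) (j ≫ q)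
  rw [yon_toBase_unique w' (j ≫ q)]
  exact repWith_diagonal_comp
    (repWith_diagonal_of_repWith (P := @IsOpenImmersion) (fun _ _ k (hk : IsOpenImmersion k) =>
      inferInstanceAs (QuasiCompact (pullback.diagonal k))) hj)
    (AlgSpDesc.isQuasiSeparatedMor_of_sp hX hXs q)

/-- A compact set of points in an open set is contained in a quasi-compact open. -/
theorem exists_compact_open {F : Sp S} (hF : IsAlgSpace F) {K W : Set (Points F)} (hK : IsCompact K)
    (hW : IsOpen W) (h : K ⊆ W) : ∃ Q : Set (Points F), IsOpen Q ∧ IsCompact Q ∧ K ⊆ Q ∧ Q ⊆ W := by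
  obtain ⟨U, p, hp, hps⟩ := hF.atlas
  let A := {O : U.left.affineOpens // (O.1 : Set U.left) ⊆ Points.ofPt p ⁻¹' W}
  obtain ⟨t, ht⟩ := hK.elim_finite_subcover (fun O : A => Points.ofPt p '' (O.1.1 : Set U.left))
    (fun O => isOpenMap_ofPt hp _ O.1.1.2) (fun x hx => by
      obtain ⟨u, rfl⟩ := surjective_ofPt hps x
      obtain ⟨O, hO, hu, hle⟩ := exists_isAffineOpen_mem_and_subset
        (show u ∈ (⟨_, hW.preimage (Points.continuous_ofPt p)⟩ : U.left.Opens) from h hx)
      exact Set.mem_iUnion.2 ⟨⟨⟨O, hO⟩, hle⟩, u, hu, rfl⟩)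
  refine ⟨_, isOpen_biUnion fun O _ => isOpenMap_ofPt hp _ O.1.1.2,
    t.finite_toSet.isCompact_biUnion fun O _ => O.1.2.isCompact.image (Points.continuous_ofPt p), ht, ?_⟩
  intro x hx
  obtain ⟨O, -, y, hy, rfl⟩ := Set.mem_iUnion₂.1 hx
  exact O.2 hy

/-- The range of an immersion is locally closed. -/
theorem isOpen_coborder_range {X Y : Sp S} (hX : IsAlgSpace X) (y : Y ⟶ X) (hy : RepWith @IsImmersion y) :
    IsOpen (coborder (Set.range (Points.map y))) := by
  obtain ⟨U, p, hp, hps⟩ := hX.atlas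
  obtain ⟨V, fst, snd, sq⟩ := exists_sq hy.1 p
  haveI : IsImmersion snd.left := hy.2 p fst snd sq
  have hr : Points.ofPt p ⁻¹' Set.range (Points.map y) = Set.range snd.left := by
    ext u
    constructor
    · rintro ⟨z, hz⟩
      obtain ⟨v, -, hv⟩ := exists_point_of_isPullback sq z (Points.ofScheme U u)
        (by rw [← Points.ofPt_eq_map_ofScheme]; exact hz)
      obtain ⟨v', rfl⟩ := (Points.schemeHomeo V).surjective v
      exact ⟨v', (Points.schemeHomeo U).injective ((Points.map_yon_map_apply snd v').symm.trans hv)⟩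
    · rintro ⟨v, rfl⟩
      exact ⟨Points.ofPt fst v, map_ofPt_sq sq.w v⟩
  have hq : IsOpenQuotientMap (Points.ofPt p) :=
    ⟨surjective_ofPt hps, Points.continuous_ofPt p, isOpenMap_ofPt hp⟩
  rw [← hq.isQuotientMap.isOpen_preimage, ← coborder_preimage hq.isOpenMap hq.continuous, hr]
  exact (snd.left.isLocallyClosed_range).isOpen_coborder

/-- An immersion with closed range is a closed immersion. -/
theorem repWith_closed_of_immersion {X Y : Sp S} (y : Y ⟶ X) (hy : RepWith @IsImmersion y)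
    (hc : IsClosed (Set.range (Points.map y))) : RepWith @IsClosedImmersion y := by
  refine ⟨hy.1, fun U V g fst snd sq => ?_⟩
  haveI : IsImmersion snd.left := hy.2 g fst snd sq
  refine IsClosedImmersion.of_isPreimmersion snd.left ?_
  have hr : Points.ofPt g ⁻¹' Set.range (Points.map y) = Set.range snd.left := by
    ext u
    constructor
    · rintro ⟨z, hz⟩
      obtain ⟨v, -, hv⟩ := exists_point_of_isPullback sq z (Points.ofScheme U u)
        (by rw [← Points.ofPt_eq_map_ofScheme]; exact hz)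
      obtain ⟨v', rfl⟩ := (Points.schemeHomeo V).surjective v
      exact ⟨v', (Points.schemeHomeo U).injective ((Points.map_yon_map_apply snd v').symm.trans hv)⟩
    · rintro ⟨v, rfl⟩
      exact ⟨Points.ofPt fst v, map_ofPt_sq sq.w v⟩
  rw [← hr]
  exact hc.preimage (Points.continuous_ofPt g)

variable {I : Type u} [SmallCategory I] [IsCofiltered I] (D : I ⥤ Sp S)
  (hDa : ∀ (i j : I) (φ : i ⟶ j), IsAffineMor (D.map φ))
  (c : Cone D) (hc : IsLimit c)

set_option maxHeartbeats 1000000 in
include hDa hc in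
/-- An immersion of a quasi-compact space of finite type into the limit gives an immersion into a stage. -/
theorem eventually_immersion [QuasiSeparatedSpace ↥S] {B : Sp S} (hB : IsAlgSpace B)
    (hD : ∀ i, IsAlgSpace (D.obj i)) (t : D ⟶ (Functor.const I).obj B)
    (hqs : ∀ i, IsQuasiSeparatedSp (D.obj i))
    {Y : Sp S} (hY : IsAlgSpace Y) (hYqc : IsQuasiCompactSp Y) (y : Y ⟶ c.pt) (hy : RepWith @IsImmersion y) (i₁ : I)
    (hYB : LocP @LocallyOfFiniteType (y ≫ c.π.app i₁ ≫ t.app i₁)) :
    ∃ i₀ : I, ∀ (i : I) (_ : i ⟶ i₀), RepWith @IsImmersion (y ≫ c.π.app i) := by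
  haveI := compactSpace_points hYqc
  -- restrict to a quasi-compact open of the stage
  obtain ⟨Q, hQ, hQc, hKQ, -⟩ := exists_compact_open (hD i₁) (isCompact_range (Points.continuous_map (y ≫ c.π.app i₁)))
    isOpen_univ (Set.subset_univ _)
  have hji := repWith_ptsIncl (S := S) hQ
  have hWa := isAlgSpace_ptsSheaf (hD i₁) hQ
  let w := ptsIncl (D.obj i₁) Q
  let D₁ := bcSys D w
  let c₁ := bcSpCone D c w
  have hc₁ : IsLimit c₁ := isLimitBcSpCone D c w hc
  have hD₁ := isAlgSpace_bcSys D w hD hWa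
  have hD₁a := isAffineMor_bcSys D w hDa
  have hD₁c := isQuasiCompactSp_bcSys D w hDa hWa (isQuasiCompactSp_ptsSheaf (hD i₁) hQ hQc)
  have hD₁s := isQuasiSeparatedSp_bcSys D w hDa hWa (isQuasiSeparatedSp_of_open (hD i₁) (hqs i₁) w hji)
  obtain ⟨g, hg⟩ := (exists_factor_iff hji (y ≫ c.π.app i₁)).2 (by rw [range_ptsIncl]; exact hKQ)
  let y₁ : Y ⟶ c₁.pt := pullback.lift y g hg.symm
  have hy₁f : y₁ ≫ pullback.fst (c.π.app i₁) w = y := pullback.lift_fst _ _ _
  have hy₁ : RepWith @IsImmersion y₁ := repWith_of_isPullback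
    (fst := 𝟙 Y) (f := y) (g := pullback.fst (c.π.app i₁) w)
    ⟨⟨by simp [hy₁f]⟩, ⟨PullbackCone.IsLimit.mk _ (fun s => s.fst) (fun s => Category.comp_id _)
      (fun s => by rw [← cancel_mono (pullback.fst (c.π.app i₁) w), Category.assoc, hy₁f]; exact s.condition)
      (fun s m h₁ _ => (Category.comp_id m).symm.trans h₁)⟩⟩ hy
  -- the open subspace in which the image is closed
  have hc₁a := isAlgSpace_limit D₁ hD₁a c₁ hc₁ hD₁
  obtain ⟨O, hO, hOc, hTO, hOW⟩ := exists_compact_open hc₁a (isCompact_range (Points.continuous_map y₁))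
    (isOpen_coborder_range hc₁a y₁ hy₁) subset_coborder
  have hj := repWith_ptsIncl (S := S) hO
  let j := ptsIncl c₁.pt O
  obtain ⟨g₂, hg₂⟩ := (exists_factor_iff hj y₁).2 (by rw [range_ptsIncl]; exact hTO)
  have hg₂i : RepWith @IsImmersion g₂ := repWith_of_isPullback
    (fst := 𝟙 Y) (f := y₁) (g := j)
    ⟨⟨by simp [j, hg₂]⟩, ⟨PullbackCone.IsLimit.mk _ (fun s => s.fst) (fun s => Category.comp_id _)
      (fun s => by rw [← cancel_mono j, Category.assoc, hg₂]; exact s.condition)
      (fun s m h₁ _ => (Category.comp_id m).symm.trans h₁)⟩⟩ hy₁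
  have hg₂c : RepWith @IsClosedImmersion g₂ := by
    refine repWith_closed_of_immersion g₂ hg₂i ?_
    have e : Set.range (Points.map g₂) = Points.map j ⁻¹' closure (Set.range (Points.map y₁)) := by
      ext x
      constructor
      · rintro ⟨z, rfl⟩
        exact subset_closure ⟨z, by rw [← Points.map_comp, hg₂]⟩
      · intro hx
        obtain ⟨z, hz⟩ : Points.map j x ∈ Set.range (Points.map y₁) :=
          coborder_inter_closure.subset ⟨hOW ((range_ptsIncl _ O).subset ⟨x, rfl⟩), hx⟩
        exact ⟨z, injective_points_of_mono hc₁a j (by rw [← Points.map_comp, hg₂, hz])⟩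
    rw [e]
    exact isClosed_closure.preimage (Points.continuous_map j)
  obtain ⟨l, Ul, jl, q, hjl, hUc, sq⟩ := exists_open_stage D₁ hD₁ hD₁a hD₁c hD₁s c₁ hc₁ j hj
    (isQuasiCompactSp_ptsSheaf hc₁a hO hOc)
  have hUa : IsAlgSpace Ul := isAlgSpace_of_representable hjl.1 (hD₁ l)
  let D₂ := bcSys D₁ jl
  let c₂ := bcSpCone D₁ c₁ jl
  let e₂ : ptsSheaf c₁.pt O ≅ c₂.pt := sq.isoPullback
  let t₂ : D₂ ⟶ (Functor.const (Over l)).obj B :=
    { app := fun n => pullback.fst (D₁.map n.hom) jl ≫ pullback.fst (D.map n.left.hom) w ≫ t.app n.left.left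
      naturality := fun n m r => by
        have ht : D.map r.left.left ≫ t.app m.left.left = t.app n.left.left := by simpa using t.naturality r.left.left
        simp [D₂, bcSys, D₁, ht] }
  let top : Over l := Over.mk (𝟙 l)
  have hπ : ∀ n : Over l, g₂ ≫ e₂.hom ≫ c₂.π.app n ≫ pullback.fst (D₁.map n.hom) jl ≫
      pullback.fst (D.map n.left.hom) w = y ≫ c.π.app n.left.left := fun n => by
    simp only [c₂, bcSpCone, pullback.lift_fst_assoc, e₂, Category.assoc, IsPullback.isoPullback_hom_fst_assoc]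
    rw [reassoc_of% hg₂]
    simp only [c₁, bcSpCone, pullback.lift_fst]
    rw [reassoc_of% hy₁f]
  obtain ⟨n₀, hn₀⟩ := eventually_closed_into_limit hB D₂ (isAlgSpace_bcSys D₁ jl hD₁ hUa) t₂
    (isAffineMor_bcSys D₁ jl hD₁a) c₂ (isLimitBcSpCone D₁ c₁ jl hc₁)
    (isQuasiCompactSp_bcSys D₁ jl hD₁a hUa hUc) hY (g₂ ≫ e₂.hom)
    (repWith_comp hg₂c (repWith_iso _)) top (by
      have e3 : (g₂ ≫ e₂.hom) ≫ c₂.π.app top ≫ t₂.app top = y ≫ c.π.app l.left ≫ t.app l.left := by
        simp only [t₂, Category.assoc]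
        rw [reassoc_of% (hπ top)]
        rfl
      have e4 : c.π.app l.left ≫ t.app l.left = c.π.app i₁ ≫ t.app i₁ := by
        rw [← c.w l.hom, Category.assoc]
        congr 1
        simpa using (t.naturality l.hom).symm
      rw [e3, e4]
      exact hYB)
  refine ⟨n₀.left.left, fun i η => ?_⟩
  let r : Over.mk (η ≫ n₀.left.hom) ⟶ n₀.left := Over.homMk η rfl
  let n : Over l := Over.mk (r ≫ n₀.hom)
  have h := hn₀ n (Over.homMk r rfl)
  rw [show y ≫ c.π.app i = ((g₂ ≫ e₂.hom) ≫ c₂.π.app n) ≫ pullback.fst (D₁.map n.hom) jl ≫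
    pullback.fst (D.map n.left.hom) w by simp only [Category.assoc, hπ]; rfl]
  refine repWith_comp (repWith_mono (fun _ _ k (hk : IsClosedImmersion k) => inferInstanceAs (IsImmersion k)) h)
    (repWith_mono (fun _ _ k (hk : IsOpenImmersion k) => inferInstanceAs (IsImmersion k)) (repWith_comp
      (repWith_of_isPullback (IsPullback.of_hasPullback (D₁.map n.hom) jl).flip hjl)
      (repWith_of_isPullback (IsPullback.of_hasPullback (D.map n.left.hom) w).flip hji)))

end

end Groth.Agent.AlgSpLimit
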