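import Groth.Agent.AlgSpLimit.Basic
import Groth.Agent.AlgSpc.EqvRel

/-!
# Morphisms of algebraic spaces locally of finite presentation and affine limits
-/

set_option autoImplicit false
set_option backward.isDefEq.respectTransparency false

universe u

open CategoryTheory CategoryTheory.Limits AlgebraicGeometry Opposite

namespace Groth.Agent.AlgSpLimit

open _root_.AlgSp Groth.Agent.AlgSpc Groth.Agent.AlgSpLoc

noncomputable section

variable {S : Scheme.{u}} {I : Type u} [SmallCategory I] [IsCofiltered I] (D : I ⥤ Over S) (c : Cone D)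
  (hc : IsLimit ((Over.forget S).mapCone c)) {X Y : Sp S}

include hc in
/-- Two points which agree on the limit and after composition with `f` agree at a stage. -/
theorem exists_stage_eq (hX : IsAlgSpace X) (hY : IsAlgSpace Y) (f : X ⟶ Y)
    (hf : LocP @LocallyOfFinitePresentation f) (hD : ∀ i, IsAffine (D.obj i).left) {i : I} {Z : Over S}
    (z : Z ⟶ D.obj i) [IsAffine Z.left] {ZT : Over S} {q : ZT ⟶ Z} {pT : ZT ⟶ c.pt}
    (hsq : IsPullback q pT z (c.π.app i)) (x₁ x₂ : (yon S).obj Z ⟶ X) (hfx : x₁ ≫ f = x₂ ≫ f)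
    (hxT : (yon S).map q ≫ x₁ = (yon S).map q ≫ x₂) :
    ∃ (j : I) (φ : j ⟶ i),
      (yon S).map (pullback.fst z (D.map φ)) ≫ x₁ = (yon S).map (pullback.fst z (D.map φ)) ≫ x₂ := by
  obtain ⟨U, V, a, b, h, ha, has, hb, hbs, w⟩ := exists_chart hX hY f
  have hh : LocallyOfFinitePresentation h.left := hf a b h ha hb w
  obtain ⟨P₁, g₁, p₁, sq₁⟩ := exists_sq ha.1 x₁
  obtain ⟨P₂, g₂, p₂, sq₂⟩ := exists_sq ha.1 x₂
  have : Etale p₁.left := ha.2 x₁ g₁ p₁ sq₁
  have : Surjective p₁.left := has.2 x₁ g₁ p₁ sq₁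
  have : Etale p₂.left := ha.2 x₂ g₂ p₂ sq₂
  have : Surjective p₂.left := has.2 x₂ g₂ p₂ sq₂
  have hP := isPullback_left (IsPullback.of_hasPullback p₁ p₂)
  have : Etale (pullback.fst p₁ p₂).left := MorphismProperty.of_isPullback hP.flip inferInstance
  have : Surjective (pullback.fst p₁ p₂).left := MorphismProperty.of_isPullback hP.flip inferInstance
  have : Etale (pullback.fst p₁ p₂ ≫ p₁).left := by rw [Over.comp_left]; infer_instance
  have : Surjective (pullback.fst p₁ p₂ ≫ p₁).left := by rw [Over.comp_left]; infer_instance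
  have : CompactSpace ↥Z.left := inferInstance
  obtain ⟨W, wP, hW, hwP, hWs⟩ := exists_affine_cover (pullback.fst p₁ p₂ ≫ p₁)
  let zW : W ⟶ Z := wP ≫ pullback.fst p₁ p₂ ≫ p₁
  have : Etale zW.left := by simp only [zW, Over.comp_left]; infer_instance
  have : Surjective zW.left := hWs
  let u₁ : W ⟶ U := wP ≫ pullback.fst p₁ p₂ ≫ pre g₁
  let u₂ : W ⟶ U := wP ≫ pullback.snd p₁ p₂ ≫ pre g₂
  have hu₁ : (yon S).map u₁ ≫ a = (yon S).map zW ≫ x₁ := by
    simp only [u₁, zW, Functor.map_comp, Category.assoc, map_pre, sq₁.w]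
  have hu₂ : (yon S).map u₂ ≫ a = (yon S).map zW ≫ x₂ := by
    have e : zW = wP ≫ pullback.snd p₁ p₂ ≫ p₂ := by simp only [zW, pullback.condition]
    rw [e]
    simp only [u₂, Functor.map_comp, Category.assoc, map_pre, sq₂.w]
  clear_value zW u₁ u₂
  -- pairs of points of `U` over the same point of `Y`
  obtain ⟨RV, rs, rt, sqV⟩ := exists_sq hb.1 b
  have hs : Etale (pre rs).left := hb.2 b _ (pre rs) (by rw [map_pre]; exact sqV.flip)
  let A := pullback h (pre rs)
  let Wb := pullback (pullback.snd h (pre rs) ≫ rt) h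
  let w₁ : Wb ⟶ U := pullback.fst _ _ ≫ pullback.fst h (pre rs)
  let w₂ : Wb ⟶ U := pullback.snd _ _
  have : LocallyOfFiniteType w₁.left := by
    have : Etale (pullback.fst h (pre rs)).left :=
      MorphismProperty.of_isPullback (isPullback_left (IsPullback.of_hasPullback h (pre rs))).flip hs
    have : LocallyOfFinitePresentation (pullback.fst (pullback.snd h (pre rs) ≫ rt) h).left :=
      MorphismProperty.of_isPullback
        (isPullback_left (IsPullback.of_hasPullback (pullback.snd h (pre rs) ≫ rt) h)).flip hh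
    simp only [w₁, Over.comp_left]
    infer_instance
  have hext : ∀ {Q : Over S} (m₁ m₂ : Q ⟶ Wb), m₁ ≫ w₁ = m₂ ≫ w₁ → m₁ ≫ w₂ = m₂ ≫ w₂ → m₁ = m₂ := by
    intro Q m₁ m₂ e₁ e₂
    refine pullback.hom_ext (pullback.hom_ext ?_ ((yon S).map_injective (sqV.hom_ext ?_ ?_))) e₂
    · simpa [w₁, Category.assoc] using e₁
    · have e : ((m₁ ≫ w₁) ≫ h) = ((m₂ ≫ w₁) ≫ h) := by rw [e₁]
      simp only [w₁, Category.assoc, pullback.condition] at e
      have := congrArg (yon S).map e
      simpa only [Functor.map_comp, map_pre, Category.assoc] using this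
    · have e : ((m₁ ≫ w₂) ≫ h) = ((m₂ ≫ w₂) ≫ h) := by rw [e₂]
      simp only [w₂, Category.assoc, ← pullback.condition] at e
      have := congrArg (yon S).map e
      simpa only [Functor.map_comp, Category.assoc] using this
  have hlift : ∀ {Q : Over S} (v₁ v₂ : Q ⟶ U),
      (yon S).map v₁ ≫ a ≫ f = (yon S).map v₂ ≫ a ≫ f → ∃ m : Q ⟶ Wb, m ≫ w₁ = v₁ ∧ m ≫ w₂ = v₂ := by
    intro Q v₁ v₂ e
    rw [w, ← Functor.map_comp_assoc, ← Functor.map_comp_assoc] at e
    let n : Q ⟶ RV := pre (sqV.lift _ _ e)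
    have hn₁ : n ≫ pre rs = v₁ ≫ h := (yon S).map_injective (by simp [n])
    have hn₂ : n ≫ rt = v₂ ≫ h := (yon S).map_injective (by simp [n])
    refine ⟨pullback.lift (pullback.lift v₁ n hn₁.symm) v₂ ?_, ?_, ?_⟩
    · rw [pullback.lift_snd_assoc, hn₂]
    · simp [w₁]
    · simp [w₂]
  obtain ⟨R, ra, rb, sqR⟩ := exists_sq ha.1 a
  have hra : Etale (pre ra).left := ha.2 a _ (pre ra) (by rw [map_pre]; exact sqR.flip)
  obtain ⟨ρ, hρ₁, hρ₂⟩ := hlift (pre ra) rb (by rw [map_pre, ← Category.assoc, sqR.w, Category.assoc])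
  have : LocallyOfFinitePresentation ρ.left := by
    have : LocallyOfFinitePresentation (ρ.left ≫ w₁.left) := by
      rw [← Over.comp_left, hρ₁]; infer_instance
    exact lfp_of_comp ρ.left w₁.left
  obtain ⟨ω, hω₁, hω₂⟩ := hlift u₁ u₂ (by rw [reassoc_of% hu₁, reassoc_of% hu₂, hfx])
  let e : pullback ω ρ ⟶ W := pullback.fst ω ρ
  have : LocallyOfFinitePresentation e.left :=
    MorphismProperty.of_isPullback (isPullback_left (IsPullback.of_hasPullback ω ρ)).flip inferInstance
  -- the point of `R` over the limit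
  let p : W ⟶ D.obj i := zW ≫ z
  have hWT := IsPullback.of_hasPullback p (c.π.app i)
  let l : pullback p (c.π.app i) ⟶ ZT := hsq.lift (pullback.fst _ _ ≫ zW) (pullback.snd _ _)
    (by rw [Category.assoc]; exact pullback.condition)
  have hl : l ≫ q = pullback.fst p (c.π.app i) ≫ zW := hsq.lift_fst _ _ _
  have hTa : (yon S).map (pullback.fst p (c.π.app i) ≫ u₁) ≫ a =
      (yon S).map (pullback.fst p (c.π.app i) ≫ u₂) ≫ a := by
    rw [(yon S).map_comp (pullback.fst p (c.π.app i)) u₁, (yon S).map_comp (pullback.fst p (c.π.app i)) u₂,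
      Category.assoc, Category.assoc, hu₁, hu₂, ← Category.assoc, ← (yon S).map_comp, ← hl,
      (yon S).map_comp, Category.assoc, hxT, ← Category.assoc, ← (yon S).map_comp, hl,
      (yon S).map_comp, Category.assoc]
  let r := pre (sqR.lift _ _ hTa)
  have hr₁ : r ≫ pre ra = pullback.fst p (c.π.app i) ≫ u₁ := (yon S).map_injective (by simp [r])
  have hr₂ : r ≫ rb = pullback.fst p (c.π.app i) ≫ u₂ := (yon S).map_injective (by simp [r])
  let m : pullback p (c.π.app i) ⟶ pullback ω ρ := pullback.lift (pullback.fst _ _) r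
    (hext _ _ (by rw [Category.assoc, Category.assoc, hω₁, hρ₁, hr₁])
      (by rw [Category.assoc, Category.assoc, hω₂, hρ₂, hr₂]))
  obtain ⟨j, φ, g, hg, -⟩ := exists_stage_factor D c hc hD p e hWT m (pullback.lift_fst _ _ _)
  refine ⟨j, φ, ?_⟩
  have hv₁ : pullback.fst p (D.map φ) ≫ u₁ = (g ≫ pullback.snd ω ρ) ≫ pre ra := by
    rw [← hg, ← hω₁, ← hρ₁]
    simp only [e, Category.assoc, pullback.condition_assoc]
  have hv₂ : pullback.fst p (D.map φ) ≫ u₂ = (g ≫ pullback.snd ω ρ) ≫ rb := by
    rw [← hg, ← hω₂, ← hρ₂]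
    simp only [e, Category.assoc, pullback.condition_assoc]
  let μ : pullback p (D.map φ) ⟶ pullback z (D.map φ) :=
    pullback.lift (pullback.fst _ _ ≫ zW) (pullback.snd _ _) (by rw [Category.assoc]; exact pullback.condition)
  have hμ : IsPullback (pullback.fst p (D.map φ)) μ zW (pullback.fst z (D.map φ)) :=
    IsPullback.of_bot (v₂₁ := pullback.snd z (D.map φ)) (v₂₂ := z)
      (by simpa [μ, p] using IsPullback.of_hasPullback p (D.map φ)) (pullback.lift_fst _ _ _).symm
      (IsPullback.of_hasPullback z (D.map φ))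
  have : Etale μ.left := MorphismProperty.of_isPullback (isPullback_left hμ) inferInstance
  have : Surjective μ.left := MorphismProperty.of_isPullback (isPullback_left hμ) inferInstance
  have := epi_yon_of_etale μ
  rw [← cancel_epi ((yon S).map μ), ← Functor.map_comp_assoc, ← Functor.map_comp_assoc, ← hμ.w,
    Functor.map_comp_assoc, ← hu₁, Functor.map_comp_assoc, ← hu₂, ← Functor.map_comp_assoc, hv₁,
    ← Functor.map_comp_assoc, hv₂, Functor.map_comp_assoc, Functor.map_comp_assoc, map_pre, sqR.w]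
  simp only [Functor.map_comp, Category.assoc]

include hc in
/-- A point of the limit over a point of a stage comes from a stage. -/
theorem exists_stage_lift (hX : IsAlgSpace X) (hY : IsAlgSpace Y) (f : X ⟶ Y)
    (hf : LocP @LocallyOfFinitePresentation f) (hD : ∀ i, IsAffine (D.obj i).left) (hT : IsAffine c.pt.left)
    (x : (yon S).obj c.pt ⟶ X) (i : I) (y : (yon S).obj (D.obj i) ⟶ Y)
    (hxy : x ≫ f = (yon S).map (c.π.app i) ≫ y) :
    ∃ (j : I) (φ : j ⟶ i) (x' : (yon S).obj (D.obj j) ⟶ X),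
      (yon S).map (c.π.app j) ≫ x' = x ∧ x' ≫ f = (yon S).map (D.map φ) ≫ y := by
  have := isAffineHom_forget D hD
  let D' := D ⋙ Over.forget S
  let c' : Cone D' := (Over.forget S).mapCone c
  have hDc : ∀ j, CompactSpace ↥(D'.obj j) := fun j =>
    have : IsAffine (D'.obj j) := hD j
    inferInstance
  have hDq : ∀ j, QuasiSeparatedSpace ↥(D'.obj j) := fun j =>
    have : IsAffine (D'.obj j) := hD j
    inferInstance
  obtain ⟨U, V, a, b, h, ha, has, hb, hbs, w⟩ := exists_chart hX hY f
  have hh : LocallyOfFinitePresentation h.left := hf a b h ha hb w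
  -- `U ×_Y T_i`
  obtain ⟨V', gV, v, sqV⟩ := exists_sq hb.1 y
  have : Etale v.left := hb.2 y gV v sqV
  let UY := pullback h (pre gV)
  let k : UY ⟶ U := pullback.fst _ _
  let π' : UY ⟶ D.obj i := pullback.snd _ _ ≫ v
  have : LocallyOfFinitePresentation (pullback.snd h (pre gV)).left :=
    MorphismProperty.of_isPullback (isPullback_left (IsPullback.of_hasPullback h (pre gV))) hh
  have : LocallyOfFinitePresentation π'.left := by
    simp only [π', Over.comp_left]; infer_instance
  have hk : ((yon S).map k ≫ a) ≫ f = (yon S).map π' ≫ y := by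
    simp only [k, π', Category.assoc, w, ← Functor.map_comp_assoc, pullback.condition]
    simp only [Functor.map_comp, Category.assoc, map_pre, sqV.w]
  -- an etale cover of the limit with a lift
  obtain ⟨Q, gQ, qT, sqQ⟩ := exists_sq ha.1 x
  have : Etale qT.left := ha.2 x gQ qT sqQ
  have : Surjective qT.left := has.2 x gQ qT sqQ
  have : IsAffine c.pt.left := hT
  obtain ⟨Q₀, wQ, hQ₀, hwQ, hQs⟩ := exists_affine_cover qT
  let f₀ : Q₀.left ⟶ c'.pt := (wQ ≫ qT).left
  have : Etale f₀ := by simp only [f₀, Over.comp_left]; infer_instance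
  have : IsAffine c'.pt := hT
  have : IsAffineHom f₀ := inferInstance
  obtain ⟨i₁, ψ₁, X₁, f₁, q₁, hlfp, hqc, hqs, hsq₁⟩ := LimSch.exists_model' D' c' hc i f₀
  obtain ⟨i₂, ψ₂, he⟩ := LimSch.descendsAff_etale.descends D' c' hc i₁ f₁ hlfp q₁ f₀ hsq₁ inferInstance
  obtain ⟨q₂, hsq₂⟩ := LimSch.isPullback_stage D' c' hc hsq₁ ψ₂
  obtain ⟨i₃, ψ₃, hs⟩ := ConstrFib.descends_surjective D' c' hc i₂ (pullback.snd f₁ (D'.map ψ₂))
    inferInstance q₂ f₀ hsq₂ (by simpa only [f₀] using hQs)
  obtain ⟨q₃, hsq₃⟩ := LimSch.isPullback_stage D' c' hc hsq₂ ψ₃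
  have : Etale (pullback.snd (pullback.snd f₁ (D'.map ψ₂)) (D'.map ψ₃)) :=
    MorphismProperty.pullback_snd _ _ he
  have : CompactSpace ↥(D'.obj i₃) := hDc i₃
  obtain ⟨W, wW, hWa, hwW, -, hWs⟩ :=
    exists_affine_etale_surjective (pullback.snd (pullback.snd f₁ (D'.map ψ₂)) (D'.map ψ₃))
  let φ₃ : i₃ ⟶ i := ψ₃ ≫ ψ₂ ≫ ψ₁
  let W' : Over S := Over.mk ((wW ≫ pullback.snd (pullback.snd f₁ (D'.map ψ₂)) (D'.map ψ₃)) ≫ (D.obj i₃).hom)
  let p : W' ⟶ D.obj i₃ := Over.homMk (wW ≫ pullback.snd (pullback.snd f₁ (D'.map ψ₂)) (D'.map ψ₃))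
  have : Etale p.left := inferInstanceAs (Etale (wW ≫ _))
  have : Surjective p.left := hWs
  have : IsAffine W'.left := hWa
  have hWT := IsPullback.of_hasPullback p (c.π.app i₃)
  let WT := pullback p (c.π.app i₃)
  have hWTl := (isPullback_left hWT).w
  simp only [p, Over.homMk_left, Category.assoc] at hWTl
  let n₀ : WT.left ⟶ Q₀.left := hsq₃.lift ((pullback.fst p (c.π.app i₃)).left ≫ wW)
    (pullback.snd p (c.π.app i₃)).left (by rw [Category.assoc]; exact hWTl)
  have hn₀ : n₀ ≫ f₀ = (pullback.snd p (c.π.app i₃)).left := hsq₃.lift_snd _ _ _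
  let n : WT ⟶ Q₀ := Over.homMk n₀ (by
    rw [← Over.w (wQ ≫ qT), ← Category.assoc]
    exact (congrArg (· ≫ c.pt.hom) hn₀).trans (Over.w (pullback.snd p (c.π.app i₃))))
  have hn : n ≫ wQ ≫ qT = pullback.snd p (c.π.app i₃) := Over.OverMorphism.ext hn₀
  let uT : WT ⟶ U := n ≫ wQ ≫ pre gQ
  have huT : (yon S).map uT ≫ a = (yon S).map (pullback.snd p (c.π.app i₃)) ≫ x := by
    rw [← hn]
    simp only [uT, Functor.map_comp, Category.assoc, map_pre, sqQ.w]
  -- the lift to `U ×_Y T_i`
  let y₃ := (yon S).map (D.map φ₃) ≫ y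
  have hTy : (yon S).map (uT ≫ h) ≫ b = (yon S).map (pullback.snd p (c.π.app i₃) ≫ c.π.app i) ≫ y := by
    rw [Functor.map_comp_assoc, ← w, reassoc_of% huT, hxy, ← Functor.map_comp_assoc]
  let v' : WT ⟶ V' := pre (sqV.lift _ _ hTy)
  have hv₁ : v' ≫ pre gV = uT ≫ h := (yon S).map_injective (by simp [v'])
  have hv₂ : v' ≫ v = pullback.snd p (c.π.app i₃) ≫ c.π.app i := (yon S).map_injective (by simp [v'])
  let mY : WT ⟶ UY := pullback.lift uT v' hv₁.symm
  let e : pullback π' (p ≫ D.map φ₃) ⟶ W' := pullback.snd _ _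
  have : LocallyOfFinitePresentation e.left :=
    MorphismProperty.of_isPullback (isPullback_left (IsPullback.of_hasPullback π' (p ≫ D.map φ₃))) inferInstance
  let m : WT ⟶ pullback π' (p ≫ D.map φ₃) := pullback.lift mY (pullback.fst p (c.π.app i₃)) (by
    simp only [mY, π', WT, pullback.lift_snd_assoc, hv₂]
    rw [pullback.condition_assoc, c.w])
  obtain ⟨j, φ, g, hg, hgT⟩ := exists_stage_factor D c hc hD p e hWT m (pullback.lift_snd _ _ _)
  let pj : pullback p (D.map φ) ⟶ D.obj j := pullback.snd _ _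
  have : Etale pj.left :=
    MorphismProperty.of_isPullback (isPullback_left (IsPullback.of_hasPullback p (D.map φ))) inferInstance
  have : Surjective pj.left :=
    MorphismProperty.of_isPullback (isPullback_left (IsPullback.of_hasPullback p (D.map φ))) inferInstance
  have : IsAffineHom (D.map φ).left := isAffineHom_forget D hD j i₃ φ
  have : IsAffineHom (pullback.fst p (D.map φ)).left :=
    MorphismProperty.of_isPullback (isPullback_left (IsPullback.of_hasPullback p (D.map φ))).flip inferInstance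
  have : IsAffine (pullback p (D.map φ)).left := isAffine_of_isAffineHom (pullback.fst p (D.map φ)).left
  let xj : (yon S).obj (pullback p (D.map φ)) ⟶ X := (yon S).map (g ≫ pullback.fst _ _ ≫ k) ≫ a
  have hxjf : xj ≫ f = (yon S).map pj ≫ (yon S).map (D.map (φ ≫ φ₃)) ≫ y := by
    simp only [xj, Functor.map_comp, Category.assoc] at hk ⊢
    rw [hk, ← Functor.map_comp_assoc, ← Functor.map_comp_assoc, ← Functor.map_comp_assoc,
      ← Functor.map_comp_assoc]
    congr 2
    rw [Category.assoc, pullback.condition, show g ≫ pullback.snd π' (p ≫ D.map φ₃) ≫ p ≫ D.map φ₃ =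
      (g ≫ e) ≫ p ≫ D.map φ₃ from (Category.assoc _ _ _).symm, hg, pullback.condition_assoc, Category.assoc]
  -- agreement on overlaps
  let lT : WT ⟶ pullback p (D.map φ) := pullback.lift (pullback.fst _ _) (pullback.snd _ _ ≫ c.π.app j)
    (by rw [Category.assoc, c.w]; exact pullback.condition)
  have hxjT : (yon S).map lT ≫ xj = (yon S).map (pullback.snd p (c.π.app i₃)) ≫ x := by
    rw [← huT]
    simp only [xj, ← Functor.map_comp_assoc]
    congr 2
    rw [show lT ≫ g ≫ pullback.fst _ _ ≫ k = (lT ≫ g) ≫ pullback.fst _ _ ≫ k from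
      (Category.assoc _ _ _).symm, show lT ≫ g = m from hgT]
    simp [m, mY, k, WT]
  clear_value xj
  let Z := pullback pj pj
  have : IsAffineHom pj.left := by
    have : IsAffine (D.obj j).left := hD j
    infer_instance
  have : IsAffineHom (pullback.fst pj pj).left :=
    MorphismProperty.of_isPullback (isPullback_left (IsPullback.of_hasPullback pj pj)).flip inferInstance
  have : IsAffine Z.left := isAffine_of_isAffineHom (pullback.fst pj pj).left
  let zj : Z ⟶ D.obj j := pullback.fst pj pj ≫ pj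
  have hZT := IsPullback.of_hasPullback zj (c.π.app j)
  obtain ⟨j', φ', heq⟩ := exists_stage_eq D c hc hX hY f hf hD zj hZT
    ((yon S).map (pullback.fst pj pj) ≫ xj) ((yon S).map (pullback.snd pj pj) ≫ xj)
    (by rw [Category.assoc, Category.assoc, hxjf, ← Functor.map_comp_assoc, ← Functor.map_comp_assoc,
      pullback.condition, Functor.map_comp, Category.assoc, Functor.map_comp, Category.assoc])
    (by
      have key : ∀ (pr : Z ⟶ pullback p (D.map φ)), pr ≫ pj = zj →
          (yon S).map (pullback.fst zj (c.π.app j)) ≫ (yon S).map pr ≫ xj =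
            (yon S).map (pullback.snd zj (c.π.app j)) ≫ x := by
        intro pr hpr
        have hw : (pullback.fst zj (c.π.app j) ≫ pr ≫ pullback.fst p (D.map φ)) ≫ p =
            pullback.snd zj (c.π.app j) ≫ c.π.app i₃ := by
          rw [Category.assoc, Category.assoc, pullback.condition, ← Category.assoc pr,
            show pr ≫ pullback.snd p (D.map φ) = zj from hpr, ← Category.assoc, pullback.condition,
            Category.assoc, c.w]
        let t : pullback zj (c.π.app j) ⟶ WT := pullback.lift _ _ hw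
        have ht : t ≫ lT = pullback.fst zj (c.π.app j) ≫ pr := by
          apply pullback.hom_ext
          · simp [t, lT, WT]
          · rw [Category.assoc, Category.assoc, pullback.lift_snd, pullback.lift_snd_assoc,
              show pr ≫ pullback.snd p (D.map φ) = zj from hpr, pullback.condition]
        rw [← Functor.map_comp_assoc, ← ht, Functor.map_comp_assoc, hxjT, ← Functor.map_comp_assoc]
        simp [t, WT]
      rw [key _ rfl, key _ pullback.condition.symm])
  -- descend
  have hWk := IsPullback.of_hasPullback pj (D.map φ')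
  let pk : pullback pj (D.map φ') ⟶ D.obj j' := pullback.snd _ _
  let xk : (yon S).obj (pullback pj (D.map φ')) ⟶ X := (yon S).map (pullback.fst _ _) ≫ xj
  have : Etale pk.left :=
    MorphismProperty.of_isPullback (isPullback_left hWk) inferInstance
  have : Surjective pk.left :=
    MorphismProperty.of_isPullback (isPullback_left hWk) inferInstance
  have := epi_yon_of_etale pk
  have := effectiveEpi_of_epi ((yon S).map pk)
  have hkey : ∀ {Q : Sp S} (g₁ g₂ : Q ⟶ (yon S).obj (pullback pj (D.map φ'))),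
      g₁ ≫ (yon S).map pk = g₂ ≫ (yon S).map pk → g₁ ≫ xk = g₂ ≫ xk := by
    intro Q g₁ g₂ e
    refine Groth.Agent.AlgSpc.hom_ext fun T t => ?_
    let t₁ := pre (t ≫ g₁)
    let t₂ := pre (t ≫ g₂)
    have et : t₁ ≫ pk = t₂ ≫ pk := (yon S).map_injective (by simp [t₁, t₂, e])
    let zz : T ⟶ Z := pullback.lift (t₁ ≫ pullback.fst _ _) (t₂ ≫ pullback.fst _ _) (by
      rw [Category.assoc, Category.assoc, pullback.condition, ← Category.assoc, ← Category.assoc]
      exact congrArg (· ≫ D.map φ') et)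
    let tz : T ⟶ pullback zj (D.map φ') := pullback.lift zz (t₁ ≫ pk) (by
      simp only [zj, zz, pk, pullback.lift_fst_assoc, Category.assoc]
      rw [pullback.condition])
    have := congrArg ((yon S).map tz ≫ ·) heq
    simp only [← Functor.map_comp_assoc, tz, pullback.lift_fst, zz] at this
    simpa [xk, t₁, t₂] using this
  let x' : (yon S).obj (D.obj j') ⟶ X := EffectiveEpi.desc ((yon S).map pk) xk hkey
  have hx' : (yon S).map pk ≫ x' = xk := EffectiveEpi.fac _ _ _
  refine ⟨j', φ' ≫ φ ≫ φ₃, x', ?_, ?_⟩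
  · have : Etale (pullback.snd p (c.π.app i₃)).left :=
      MorphismProperty.of_isPullback (isPullback_left hWT) inferInstance
    have : Surjective (pullback.snd p (c.π.app i₃)).left :=
      MorphismProperty.of_isPullback (isPullback_left hWT) inferInstance
    have := epi_yon_of_etale (pullback.snd p (c.π.app i₃))
    rw [← cancel_epi ((yon S).map (pullback.snd p (c.π.app i₃))), ← hxjT]
    let tk : WT ⟶ pullback pj (D.map φ') := pullback.lift lT (pullback.snd _ _ ≫ c.π.app j')
      (by simp [lT, pj, WT, c.w])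
    rw [← Functor.map_comp_assoc, show pullback.snd p (c.π.app i₃) ≫ c.π.app j' = tk ≫ pk from
      (pullback.lift_snd _ _ _).symm, Functor.map_comp_assoc, hx']
    simp only [xk, ← Functor.map_comp_assoc]
    rw [pullback.lift_fst]
  · rw [← cancel_epi ((yon S).map pk), reassoc_of% hx']
    simp only [xk, Category.assoc, hxjf, ← Functor.map_comp_assoc]
    congr 2
    simp only [pk, pj, D.map_comp, Category.assoc]
    rw [← pullback.condition_assoc (f := pullback.snd p (D.map φ))]

end

end Groth.Agent.AlgSpLimit
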