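import Groth.Agent.AlgSpLimit.LimitSpace
import Groth.Agent.AlgSpc.Misc2
import Mathlib.AlgebraicGeometry.AffineTransitionLimit
import Mathlib.Algebra.Category.Ring.FilteredColimits
import Mathlib.Algebra.Category.Ring.Colimits

/-!
# Points of a limit of decent algebraic spaces
-/

set_option autoImplicit false
set_option backward.isDefEq.respectTransparency false
set_option linter.style.haveILetI false

universe u

open CategoryTheory CategoryTheory.Limits AlgebraicGeometry Opposite

namespace Groth.Agent.AlgSpLimit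

open _root_.AlgSp Groth.Agent.AlgSpc

noncomputable section

variable {S : Scheme.{u}} {I : Type u} [SmallCategory I] [IsCofiltered I] (D : I ⥤ Sp S)

/-- A filtered colimit of fields is a field. -/
theorem isField_colimit (Q : Iᵒᵖ ⥤ CommRingCat.{u}) (hQ : ∀ i, IsField (Q.obj i)) :
    IsField (colimit Q : CommRingCat.{u}) := by
  refine ⟨?_, mul_comm, fun {x} hx => ?_⟩
  · refine ⟨0, 1, fun e => ?_⟩
    obtain ⟨i⟩ := IsFiltered.nonempty (C := Iᵒᵖ)
    rw [← map_zero (colimit.ι Q i).hom, ← map_one (colimit.ι Q i).hom] at e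
    obtain ⟨k, f, g, h⟩ := Concrete.colimit_exists_of_rep_eq Q _ _ e
    rw [map_zero, map_one] at h
    letI := (hQ k).toField
    exact zero_ne_one h
  · obtain ⟨i, y, rfl⟩ := Concrete.colimit_exists_rep Q x
    have hy : y ≠ 0 := fun e => hx (by rw [e, map_zero])
    obtain ⟨z, hz⟩ := (hQ i).mul_inv_cancel hy
    exact ⟨colimit.ι Q i z, by rw [← map_mul, hz, map_one]⟩

set_option maxHeartbeats 800000 in
/-- The residue field of a compatible family of points of decent spaces, and its universal property. -/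
theorem exists_residue_field (hD : ∀ i, IsAlgSpace (D.obj i)) (hdec : ∀ i, IsDecent (D.obj i))
    (s : ∀ i, Points (D.obj i)) (hs : ∀ (i j : I) (φ : i ⟶ j), Points.map (D.map φ) (s i) = s j) :
    ∃ (P : ∀ i, FieldPt (D.obj i)) (u : ∀ {i j : I} (_ : i ⟶ j), (P i).pt ⟶ (P j).pt)
      (K : CommRingCat.{u}) (_ : IsField K) (ρ : ∀ i, Spec K ⟶ (P i).pt.left),
      (∀ i, Points.mk (P i) = s i ∧ Mono (P i).toHom) ∧
      (∀ {i j : I} (φ : i ⟶ j), (yon S).map (u φ) ≫ (P j).toHom = (P i).toHom ≫ D.map φ) ∧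
      (∀ {i j : I} (φ : i ⟶ j), ρ i ≫ (u φ).left = ρ j) ∧
      ∀ (L : CommRingCat.{u}) (g : ∀ i, Spec L ⟶ (P i).pt.left),
        (∀ {i j : I} (φ : i ⟶ j), g i ≫ (u φ).left = g j) → ∃ α : Spec L ⟶ Spec K, ∀ i, α ≫ ρ i = g i := by
  choose P hP hm hq using fun i => hdec i (s i)
  have hex : ∀ {i j : I} (φ : i ⟶ j), ∃ c : (P i).pt ⟶ (P j).pt,
      (yon S).map c ≫ (P j).toHom = (P i).toHom ≫ D.map φ := fun {i j} φ => by
    haveI := hm j
    obtain ⟨c, hc, -⟩ := existsUnique_factor_of_mono (hD j) (P j) ((P i).map (D.map φ)) (by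
      rw [hP j, ← Points.map_mk, hP i, hs])
    exact ⟨c, hc.trans (FieldPt.toHom_map _ _)⟩
  let u : ∀ {i j : I} (_ : i ⟶ j), (P i).pt ⟶ (P j).pt := fun φ => (hex φ).choose
  have hu : ∀ {i j : I} (φ : i ⟶ j), (yon S).map (u φ) ≫ (P j).toHom = (P i).toHom ≫ D.map φ :=
    fun φ => (hex φ).choose_spec
  have huniq : ∀ {i j : I} (φ : i ⟶ j) (c : (P i).pt ⟶ (P j).pt),
      (yon S).map c ≫ (P j).toHom = (P i).toHom ≫ D.map φ → c = u φ := fun {i j} φ c hc =>
    (yon S).map_injective (haveI := hm j; (cancel_mono (P j).toHom).1 (hc.trans (hu φ).symm))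
  let r : ∀ {i j : I} (_ : i ⟶ j), CommRingCat.of (P j).K ⟶ CommRingCat.of (P i).K :=
    fun φ => Spec.preimage (u φ).left
  have hr : ∀ {i j : I} (φ : i ⟶ j), Spec.map (r φ) = (u φ).left := fun φ => Spec.map_preimage _
  have r_id : ∀ i, r (𝟙 i) = 𝟙 _ := fun i => Spec.map_injective (by
    rw [hr, Spec.map_id, ← huniq (𝟙 i) (𝟙 _) (by rw [D.map_id, CategoryTheory.Functor.map_id, Category.id_comp, Category.comp_id])]
    rfl)
  have r_comp : ∀ {i j k : I} (φ : i ⟶ j) (ψ : j ⟶ k), r (φ ≫ ψ) = r ψ ≫ r φ := fun {i j k} φ ψ => Spec.map_injective (by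
    rw [hr, Spec.map_comp, hr, hr, ← Over.comp_left,
      ← huniq (φ ≫ ψ) (u φ ≫ u ψ) (by rw [Functor.map_comp, Category.assoc, hu, reassoc_of% (hu φ), D.map_comp])])
  let Q : Iᵒᵖ ⥤ CommRingCat.{u} :=
    { obj := fun i => CommRingCat.of (P i.unop).K
      map := fun φ => r φ.unop
      map_id := fun i => r_id i.unop
      map_comp := fun φ ψ => r_comp ψ.unop φ.unop }
  refine ⟨P, u, colimit Q, isField_colimit Q (fun i => Field.toIsField (P i.unop).K),
    fun i => Spec.map (colimit.ι Q (op i)), fun i => ⟨hP i, hm i⟩, hu, fun {i j} φ => ?_, fun L g hg => ?_⟩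
  · rw [← hr φ]
    exact (Spec.map_comp _ _).symm.trans (congrArg Spec.map (colimit.w Q φ.op))
  · let κ : Cocone Q :=
      { pt := L
        ι := { app := fun i => Spec.preimage (g i.unop)
               naturality := fun i j φ => Spec.map_injective (by
                simp only [Functor.const_obj_map]
                refine (Spec.map_comp _ _).trans ?_
                show Spec.map (Spec.preimage (g j.unop)) ≫ Spec.map (r φ.unop) = Spec.map (Spec.preimage (g i.unop) ≫ 𝟙 _)
                rw [Category.comp_id]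
                simp only [r, Spec.map_preimage, hg]) } }
    refine ⟨Spec.map (colimit.desc Q κ), fun i => ?_⟩
    rw [← Spec.map_comp, colimit.ι_desc]
    exact Spec.map_preimage _

variable (hDa : ∀ (i j : I) (φ : i ⟶ j), IsAffineMor (D.map φ)) (c : Cone D) (hc : IsLimit c)

include hc in
theorem points_limit (hD : ∀ i, IsAlgSpace (D.obj i)) (hdec : ∀ i, IsDecent (D.obj i)) :
    (∀ x x' : Points c.pt, (∀ i, Points.map (c.π.app i) x = Points.map (c.π.app i) x') → x = x') ∧
    (∀ s : ∀ i, Points (D.obj i), (∀ (i j : I) (φ : i ⟶ j), Points.map (D.map φ) (s i) = s j) →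
      ∃ x : Points c.pt, ∀ i, Points.map (c.π.app i) x = s i) := by
  constructor
  · intro x x' hxx
    induction x using Points.ind with
    | h p =>
    induction x' using Points.ind with
    | h p' =>
    obtain ⟨P, u, K, hK, ρ, hP, hu, hρ, huniv⟩ := exists_residue_field D hD hdec
      (fun i => Points.map (c.π.app i) (Points.mk p)) (fun i j φ => by rw [← Points.map_comp, c.w])
    letI : Field K := hK.toField
    -- any representative of the family receives the field of the family
    have key : ∀ q : FieldPt c.pt, (∀ i, Points.map (c.π.app i) (Points.mk q) = Points.map (c.π.app i) (Points.mk p)) →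
        ∃ α : q.pt.left ⟶ Spec K, ∀ i, ∃ a : q.pt ⟶ (P i).pt,
          (yon S).map a ≫ (P i).toHom = q.toHom ≫ c.π.app i ∧ a.left = α ≫ ρ i := by
      intro q hq
      have hex : ∀ i, ∃ a : q.pt ⟶ (P i).pt, (yon S).map a ≫ (P i).toHom = q.toHom ≫ c.π.app i := fun i => by
        haveI := (hP i).2
        obtain ⟨a, ha, -⟩ := existsUnique_factor_of_mono (hD i) (P i) (q.map (c.π.app i)) (by
          rw [(hP i).1, ← Points.map_mk, hq i])
        exact ⟨a, ha.trans (FieldPt.toHom_map _ _)⟩
      choose a ha using hex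
      obtain ⟨α, hα⟩ := huniv (CommRingCat.of q.K) (fun i => (a i).left) (fun {i j} φ => by
        have : a i ≫ u φ = a j := (yon S).map_injective (by
          haveI := (hP j).2
          rw [← cancel_mono (P j).toHom, Functor.map_comp, Category.assoc, hu φ, reassoc_of% (ha i), c.w, ha j])
        exact congrArg (fun f => f.left) this)
      exact ⟨α, fun i => ⟨a i, ha i, (hα i).symm⟩⟩
    obtain ⟨α, hα⟩ := key p (fun i => rfl)
    obtain ⟨α', hα'⟩ := key p' (fun i => (hxx i).symm)
    obtain ⟨Ω, _, l, l', hl⟩ := FieldPt.exists_amalgamation (Spec.preimage (S := CommRingCat.of p.K) (R := K) α).hom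
      (Spec.preimage (S := CommRingCat.of p'.K) (R := K) α').hom
    have hl' : Spec.map (CommRingCat.ofHom l) ≫ α = Spec.map (CommRingCat.ofHom l') ≫ α' := by
      conv_lhs => rw [← Spec.map_preimage α]
      conv_rhs => rw [← Spec.map_preimage α']
      exact (Spec.map_comp _ _).symm.trans ((congrArg Spec.map (CommRingCat.hom_ext hl)).trans (Spec.map_comp _ _))
    obtain ⟨i₁⟩ := IsCofiltered.nonempty (C := I)
    let w : Spec (CommRingCat.of Ω) ⟶ S := Spec.map (CommRingCat.ofHom l) ≫ p.str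
    have hw : Spec.map (CommRingCat.ofHom l') ≫ p'.str = w := by
      obtain ⟨b, -, hb⟩ := hα i₁
      obtain ⟨b', -, hb'⟩ := hα' i₁
      have e : p.str = b.left ≫ (P i₁).str := (Over.w b).symm
      have e' : p'.str = b'.left ≫ (P i₁).str := (Over.w b').symm
      show _ = Spec.map (CommRingCat.ofHom l) ≫ p.str
      rw [e, e', hb, hb', ← Category.assoc, ← Category.assoc, ← Category.assoc, ← Category.assoc, hl']
    let T : Over S := Over.mk w
    let t : T ⟶ p.pt := Over.homMk (Spec.map (CommRingCat.ofHom l)) rfl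
    let t' : T ⟶ p'.pt := Over.homMk (Spec.map (CommRingCat.ofHom l')) hw
    have heq : (yon S).map t ≫ p.toHom = (yon S).map t' ≫ p'.toHom := hc.hom_ext fun i => by
      obtain ⟨b, hb, hbl⟩ := hα i
      obtain ⟨b', hb', hbl'⟩ := hα' i
      rw [Category.assoc, Category.assoc, ← hb, ← hb', ← Functor.map_comp_assoc, ← Functor.map_comp_assoc]
      congr 2
      ext1
      show Spec.map (CommRingCat.ofHom l) ≫ b.left = Spec.map (CommRingCat.ofHom l') ≫ b'.left
      rw [hbl, hbl', ← Category.assoc, ← Category.assoc, hl']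
    let z : T.left := IsLocalRing.closedPoint Ω
    haveI hsp : ∀ q : FieldPt c.pt, Subsingleton q.pt.left := fun q => inferInstanceAs (Subsingleton (PrimeSpectrum q.K))
    rw [← Points.ofPt_toHom p (t.left z), ← Points.ofPt_toHom p' (t'.left z), ← ofPt_comp, ← ofPt_comp, heq]
  · intro s hs
    obtain ⟨P, u, K, hK, ρ, hP, hu, hρ, -⟩ := exists_residue_field D hD hdec s hs
    letI : Field K := hK.toField
    obtain ⟨i₁⟩ := IsCofiltered.nonempty (C := I)
    let T : Over S := Over.mk (ρ i₁ ≫ (P i₁).str)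
    have hT : ∀ i, ρ i ≫ (P i).str = ρ i₁ ≫ (P i₁).str := fun i => by
      obtain ⟨m, a, b, -⟩ := IsCofilteredOrEmpty.cone_objs i i₁
      rw [← hρ a, ← hρ b, Category.assoc, Category.assoc]
      exact congrArg (ρ m ≫ ·) ((Over.w (u a)).trans (Over.w (u b)).symm)
    let t : ∀ i, T ⟶ (P i).pt := fun i => Over.homMk (ρ i) (hT i)
    let L : Cone D :=
      { pt := (yon S).obj T
        π := { app := fun i => (yon S).map (t i) ≫ (P i).toHom
               naturality := fun i j φ => by
                refine (Category.id_comp _).trans ?_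
                rw [Category.assoc, ← hu φ, ← Functor.map_comp_assoc]
                congr 2
                ext1
                exact (hρ φ).symm } }
    let z : T.left := IsLocalRing.closedPoint K
    refine ⟨Points.ofPt (hc.lift L) z, fun i => ?_⟩
    haveI : Subsingleton (P i).pt.left := inferInstanceAs (Subsingleton (PrimeSpectrum (P i).K))
    rw [Points.map_ofPt, hc.fac, ← (hP i).1]
    show Points.ofPt ((yon S).map (t i) ≫ (P i).toHom) z = _
    rw [ofPt_comp, Points.ofPt_toHom]

include hDa hc in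
theorem topology_limit (hD : ∀ i, IsAlgSpace (D.obj i)) :
    Points.topologicalSpace c.pt =
      ⨅ i, TopologicalSpace.induced (Points.map (c.π.app i)) (Points.topologicalSpace (D.obj i)) := by
  refine le_antisymm (le_iInf fun i => continuous_iff_le_induced.1 (Points.continuous_map _)) ?_
  intro O hO
  rw [@isOpen_iff_forall_mem_open]
  intro x hx
  obtain ⟨i₁⟩ := IsCofiltered.nonempty (C := I)
  obtain ⟨U, p, hp, hps⟩ := (hD i₁).atlas
  obtain ⟨u, hu⟩ := surjective_ofPt hps (Points.map (c.π.app i₁) x)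
  obtain ⟨_, ⟨(A : U.left.Opens), hA, rfl⟩, huA, -⟩ :=
    U.left.isBasis_affineOpens.exists_subset_of_mem_open (Set.mem_univ u) isOpen_univ
  let V : Over S := Over.mk (A.ι ≫ U.hom)
  let b : (yon S).obj V ⟶ D.obj i₁ := (yon S).map (Over.homMk A.ι rfl : V ⟶ U) ≫ p
  have hV : IsAffine V.left := hA
  have hb : RepWith @Etale b := repWith_comp ((repWith_yon_map_iff _ _).2 (inferInstanceAs (Etale A.ι))) hp
  obtain ⟨F, φ, ψ, hF, hsq, hφ, hψ⟩ := exists_affine_system D hDa b hV
  obtain ⟨C, hC, φ₁, hsq₁, hφ₁⟩ := exists_affine_limit' D c hc b F φ ψ hF hsq hφ hψ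
  let D' := F ⋙ Over.forget S
  haveI : ∀ k, IsAffine (D'.obj k) := hF
  haveI : ∀ {k l : Over i₁} (t : k ⟶ l), IsAffineHom (D'.map t) := fun t => inferInstance
  obtain ⟨y₀, hy₀, -⟩ := exists_point_of_isPullback hsq₁ x (Points.ofScheme V ⟨u, huA⟩) (by
    rw [← Points.ofPt_eq_map_ofScheme, ofPt_comp]
    exact hu.symm)
  obtain ⟨y, rfl⟩ := (Points.schemeEquiv C.pt).surjective y₀
  let O' : C.pt.left.Opens := ⟨Points.ofPt φ₁ ⁻¹' O, hO.preimage (Points.continuous_ofPt φ₁)⟩
  have hy : y ∈ O' := by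
    show Points.ofPt φ₁ y ∈ O
    rw [Points.ofPt_eq_map_ofScheme]
    exact (Set.mem_of_eq_of_mem hy₀ hx :)
  obtain ⟨_, ⟨m, W, hW, rfl⟩, hyW, hWO⟩ :=
    TopologicalSpace.Opens.isBasis_iff_nbhd.1 (isBasis_preimage_isAffineOpen D' _ hC) hy
  have hφm : RepWith @Etale (φ m) := repWith_of_isPullback (hsq m).flip hb
  refine ⟨Points.map (c.π.app m.left) ⁻¹' (Points.ofPt (φ m) '' {w : (F.obj m).left | w ∈ W}), ?_, ?_, ?_⟩
  · intro x' ⟨w, hw, he⟩
    have sm : IsPullback φ₁ ((yon S).map (C.π.app m)) (c.π.app m.left) (φ m) := by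
      refine IsPullback.of_bot (v₂₁ := (yon S).map (ψ m)) ?_ (hφ₁ m) (hsq m)
      rw [← Functor.map_comp, c.w]
      rw [show C.π.app m ≫ ψ m = C.π.app (Over.mk (𝟙 i₁)) ≫ ψ (Over.mk (𝟙 i₁)) by
        rw [← C.w (Over.homMk m.hom (by simp) : m ⟶ Over.mk (𝟙 i₁)), Category.assoc, hψ]]
      exact hsq₁
    obtain ⟨y', hy', hy''⟩ := exists_point_of_isPullback sm x' (Points.ofScheme (F.obj m) w)
      (by rw [← Points.ofPt_eq_map_ofScheme]; exact he.symm)
    obtain ⟨y', rfl⟩ := (Points.schemeEquiv C.pt).surjective y'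
    have hm : (C.π.app m).left y' = w := (Points.schemeEquiv (F.obj m)).injective (by
      show Points.ofScheme (F.obj m) ((C.π.app m).left y') = Points.ofScheme (F.obj m) w
      rw [← hy'', ← pre_map (C.π.app m), ← ofPt_pre, pre_map]
      exact Points.ofPt_eq_map_ofScheme _ _)
    have := hWO (show y' ∈ ((Over.forget S).mapCone C).π.app m ⁻¹ᵁ W by
      show (C.π.app m).left y' ∈ W
      rw [hm]; exact hw)
    rw [← hy']
    show Points.map φ₁ (Points.ofScheme C.pt y') ∈ O
    rw [← Points.ofPt_eq_map_ofScheme]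
    exact this
  · exact (iInf_le (fun i => TopologicalSpace.induced (Points.map (c.π.app i)) (Points.topologicalSpace (D.obj i))) m.left) _ ⟨_, isOpenMap_ofPt hφm _ W.2, rfl⟩
  · show Points.map (c.π.app m.left) x ∈ Points.ofPt (φ m) '' {w : (F.obj m).left | w ∈ W}
    refine ⟨(C.π.app m).left y, hyW, ?_⟩
    rw [← ofPt_comp, ← hφ₁, ← Points.map_ofPt, Points.ofPt_eq_map_ofScheme]
    exact congrArg _ hy₀

end

end Groth.Agent.AlgSpLimit
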