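import Groth.Prelude.Def_AlgSpRep
import Mathlib.CategoryTheory.Limits.Types.Pullbacks
import Mathlib.CategoryTheory.Limits.Types.Filtered

/-!
# Relatively limit preserving maps of presheaves, elementwise
-/

set_option autoImplicit false
set_option backward.isDefEq.respectTransparency false

universe u

open CategoryTheory CategoryTheory.Limits AlgebraicGeometry Opposite

namespace Groth.Agent.AlgSpLimit

open _root_.AlgSp (PSp IsRelLimitPreserving IsLimitPreserving fiberFun overHom map_comp_overHom)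

noncomputable section

variable {S : Scheme.{u}} {F G : PSp S} (a : F ⟶ G)

theorem res_res (K : PSp S) {A B C : Over S} (f : A ⟶ B) (g : B ⟶ C) (x : K.obj (op C)) :
    K.map f.op (K.map g.op x) = K.map (f ≫ g).op x := by
  rw [op_comp, Functor.map_comp_apply]

theorem res_congr (K : PSp S) {A B : Over S} {f g : A ⟶ B} (h : f = g) (x : K.obj (op B)) :
    K.map f.op x = K.map g.op x := by rw [h]

/-- Elementwise form of being relatively limit preserving. -/
def EltRelLP : Prop :=
  ∀ ⦃I : Type u⦄ [SmallCategory I] [IsCofiltered I] (D : I ⥤ Over S) (c : Cone D),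
    IsLimit ((Over.forget S).mapCone c) → (∀ i, IsAffine (D.obj i).left) → IsAffine c.pt.left →
    (∀ (i : I) (x : F.obj (op c.pt)) (y : G.obj (op (D.obj i))),
      a.app (op c.pt) x = G.map (c.π.app i).op y →
      ∃ (j : I) (φ : j ⟶ i) (x' : F.obj (op (D.obj j))),
        F.map (c.π.app j).op x' = x ∧ a.app (op (D.obj j)) x' = G.map (D.map φ).op y) ∧
    ∀ (i : I) (x₁ x₂ : F.obj (op (D.obj i))), a.app (op (D.obj i)) x₁ = a.app (op (D.obj i)) x₂ →
      F.map (c.π.app i).op x₁ = F.map (c.π.app i).op x₂ →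
      ∃ (j : I) (φ : j ⟶ i), F.map (D.map φ).op x₁ = F.map (D.map φ).op x₂

variable {a}

theorem isRelLimitPreserving_of_elt (h : EltRelLP a) : IsRelLimitPreserving a := by
  intro T y I _ _ D c hc hD hT
  let D' : I ⥤ Over S := D ⋙ Over.map T.hom
  let c' : Cone D' := (Over.map T.hom).mapCone c
  have hc' : IsLimit ((Over.forget S).mapCone c') :=
    IsLimit.ofIsoLimit hc (Cone.ext (Iso.refl _) (fun j => (Category.id_comp _).symm))
  obtain ⟨h₁, h₂⟩ := h D' c' hc' hD hT
  refine ⟨Types.FilteredColimit.isColimitOf' _ _ (fun ξ => ?_) (fun i ξ₁ ξ₂ e => ?_)⟩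
  · obtain ⟨i⟩ := IsCofiltered.nonempty (C := I)
    obtain ⟨j, φ, x', hx', hax'⟩ := h₁ i ξ.1 (G.map (overHom T (D.obj i)).op y) 
      (ξ.2.trans ((res_congr G (map_comp_overHom T (c.π.app i)).symm y).trans (res_res G _ _ y).symm))
    refine ⟨op j, ⟨x', ?_⟩, Subtype.ext hx'.symm⟩
    exact hax'.trans ((res_res G _ _ y).trans (res_congr G (map_comp_overHom T (D.map φ)) y))
  · obtain ⟨j, φ, hj⟩ := h₂ i.unop ξ₁.1 ξ₂.1 (ξ₁.2.trans ξ₂.2.symm) (congrArg Subtype.val e)
    exact ⟨op j, φ.op, Subtype.ext hj⟩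

theorem elt_of_isRelLimitPreserving (h : IsRelLimitPreserving a) : EltRelLP a := by
  intro I _ _ D c hc hD hT
  -- the system over a stage
  have key : ∀ (i : I) (y₀ : G.obj (op (D.obj i))),
      (∀ (x : F.obj (op c.pt)), a.app (op c.pt) x = G.map (c.π.app i).op y₀ →
        ∃ (j : I) (φ : j ⟶ i) (x' : F.obj (op (D.obj j))),
          F.map (c.π.app j).op x' = x ∧ a.app (op (D.obj j)) x' = G.map (D.map φ).op y₀) ∧
      ∀ (x₁ x₂ : F.obj (op (D.obj i))), a.app (op (D.obj i)) x₁ = y₀ → a.app (op (D.obj i)) x₂ = y₀ →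
        F.map (c.π.app i).op x₁ = F.map (c.π.app i).op x₂ →
        ∃ (j : I) (φ : j ⟶ i), F.map (D.map φ).op x₁ = F.map (D.map φ).op x₂ := by
    intro i y₀
    let T := D.obj i
    let D₁ : Over i ⥤ Over T.left :=
      { obj := fun l => Over.mk (D.map l.hom).left
        map := fun {l l'} φ => Over.homMk (D.map φ.left).left (by
          simp only [Over.mk_hom]
          rw [← Over.comp_left, ← D.map_comp, Over.w φ])
        map_id := fun l => Over.OverMorphism.ext (by simp)
        map_comp := fun φ ψ => Over.OverMorphism.ext (by simp) }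
    let c₁ : Cone D₁ :=
      { pt := Over.mk (c.π.app i).left
        π :=
          { app := fun l => Over.homMk (c.π.app l.left).left (by
              simp only [D₁, Over.mk_hom, Functor.const_obj_obj]
              rw [← Over.comp_left, c.w])
            naturality := fun l l' φ => Over.OverMorphism.ext (by
              simp only [D₁, Functor.const_obj_map, Over.comp_left, Over.id_left,
                Over.homMk_left]
              exact (congrArg CommaMorphism.left (c.w φ.left)).symm) } }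
    have hc₁ : IsLimit ((Over.forget T.left).mapCone c₁) :=
      IsLimit.ofIsoLimit ((Functor.Initial.isLimitWhiskerEquiv (Over.forget i) _).symm hc)
        (Cone.ext (Iso.refl _) (fun j => (Category.id_comp _).symm))
    obtain ⟨hcol⟩ := h T y₀ D₁ c₁ hc₁ (fun l => hD l.left) hT
    let α : (Over.map T.hom).obj c₁.pt ⟶ c.pt := Over.homMk (𝟙 c.pt.left) (by
      simp only [Over.map_obj_hom, c₁, Over.mk_hom, T]
      rw [Over.w]; exact Category.id_comp _)
    let α' : c.pt ⟶ (Over.map T.hom).obj c₁.pt := Over.homMk (𝟙 c.pt.left) (by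
      simp only [Over.map_obj_hom, c₁, Over.mk_hom, T]
      rw [Over.w]; exact Category.id_comp _)
    let β : ∀ l : Over i, D.obj l.left ⟶ (Over.map T.hom).obj (D₁.obj l) := fun l =>
      Over.homMk (𝟙 (D.obj l.left).left) (by
        simp only [Over.map_obj_hom, D₁, Over.mk_hom, T]
        rw [Over.w]; exact Category.id_comp _)
    let β' : ∀ l : Over i, (Over.map T.hom).obj (D₁.obj l) ⟶ D.obj l.left := fun l =>
      Over.homMk (𝟙 (D.obj l.left).left) (by
        simp only [Over.map_obj_hom, D₁, Over.mk_hom, T]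
        rw [Over.w]; exact Category.id_comp _)
    have hαo : α ≫ c.π.app i = overHom T c₁.pt := Over.OverMorphism.ext (Category.id_comp _)
    have hβo : ∀ l : Over i, β l ≫ overHom T (D₁.obj l) = D.map l.hom :=
      fun l => Over.OverMorphism.ext (Category.id_comp _)
    have hβ'o : ∀ l : Over i, β' l ≫ D.map l.hom = overHom T (D₁.obj l) :=
      fun l => Over.OverMorphism.ext (Category.id_comp _)
    have hπ : ∀ l : Over i, c.π.app l.left ≫ β l = α' ≫ (Over.map T.hom).map (c₁.π.app l) :=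
      fun l => Over.OverMorphism.ext ((Category.comp_id _).trans (Category.id_comp _).symm)
    have hπ' : ∀ l : Over i, (Over.map T.hom).map (c₁.π.app l) ≫ β' l = α ≫ c.π.app l.left :=
      fun l => Over.OverMorphism.ext ((Category.comp_id _).trans (Category.id_comp _).symm)
    refine ⟨fun x hx => ?_, fun x₁ x₂ hx₁ hx₂ hT' => ?_⟩
    · let ξ : (fiberFun a T y₀).obj (op c₁.pt) := ⟨F.map α.op x,
        ((NatTrans.naturality_apply a α.op x).trans (congrArg (G.map α.op) hx)).trans
          ((res_res G α (c.π.app i) y₀).trans (res_congr G hαo y₀))⟩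
      obtain ⟨l, ξ', hξ'⟩ := Types.jointly_surjective_of_isColimit hcol ξ
      refine ⟨l.unop.left, l.unop.hom, F.map (β l.unop).op ξ'.1, ?_, ?_⟩
      · have h₁ : F.map ((Over.map T.hom).map (c₁.π.app l.unop)).op ξ'.1 = F.map α.op x :=
          congrArg Subtype.val hξ'
        have hid : α' ≫ α = 𝟙 c.pt := Over.OverMorphism.ext (Category.id_comp _)
        refine ((res_res F _ _ _).trans ((res_congr F (hπ l.unop) _).trans (res_res F _ _ _).symm)).trans ?_
        refine ((congrArg (F.map α'.op) h₁).trans ((res_res F _ _ _).trans (res_congr F hid _))).trans ?_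
        rw [op_id, Functor.map_id_apply]
      · refine ((NatTrans.naturality_apply a (β l.unop).op _).trans (congrArg (G.map (β l.unop).op) ξ'.2)).trans ?_
        exact (res_res G _ _ y₀).trans (res_congr G (hβo l.unop) y₀)
    · let l₀ : Over i := Over.mk (𝟙 i)
      let mkξ : ∀ z : F.obj (op (D.obj i)), a.app (op (D.obj i)) z = y₀ →
          (fiberFun a T y₀).obj (op (D₁.obj l₀)) := fun z hz => ⟨F.map (β' l₀).op z, by
        refine ((NatTrans.naturality_apply a (β' l₀).op z).trans (congrArg (G.map (β' l₀).op) hz)).trans ?_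
        refine res_congr G ?_ y₀
        rw [← hβ'o l₀]
        show _ = β' l₀ ≫ D.map (𝟙 i)
        exact ((congrArg (β' l₀ ≫ ·) (D.map_id i)).trans (Category.comp_id _)).symm⟩
      obtain ⟨m, g, hm⟩ := (Types.FilteredColimit.isColimit_eq_iff' hcol (mkξ x₁ hx₁) (mkξ x₂ hx₂)).mp
        (Subtype.ext (by
          show F.map ((Over.map T.hom).map (c₁.π.app l₀)).op (F.map (β' l₀).op x₁) =
            F.map ((Over.map T.hom).map (c₁.π.app l₀)).op (F.map (β' l₀).op x₂)
          have key₂ : ∀ z : F.obj (op (D.obj i)),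
              F.map ((Over.map T.hom).map (c₁.π.app l₀)).op (F.map (β' l₀).op z) =
                F.map α.op (F.map (c.π.app i).op z) := fun z =>
            (res_res F _ _ z).trans ((res_congr F (hπ' l₀) z).trans (res_res F _ _ z).symm)
          exact (key₂ x₁).trans ((congrArg (F.map α.op) hT').trans (key₂ x₂).symm)))
      refine ⟨m.unop.left, g.unop.left, ?_⟩
      have hm' : F.map ((Over.map T.hom).map (D₁.map g.unop)).op (F.map (β' l₀).op x₁) =
          F.map ((Over.map T.hom).map (D₁.map g.unop)).op (F.map (β' l₀).op x₂) :=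
        congrArg Subtype.val hm
      have hid : β m.unop ≫ (Over.map T.hom).map (D₁.map g.unop) ≫ β' l₀ = D.map g.unop.left :=
        Over.OverMorphism.ext ((Category.id_comp _).trans (Category.comp_id _))
      have key₃ : ∀ z : F.obj (op (D.obj i)),
          F.map (β m.unop).op (F.map ((Over.map T.hom).map (D₁.map g.unop)).op (F.map (β' l₀).op z)) =
            F.map (D.map g.unop.left).op z := fun z =>
        ((congrArg (F.map (β m.unop).op) (res_res F _ _ z)).trans (res_res F _ _ z)).trans (res_congr F hid z)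
      exact (key₃ x₁).symm.trans ((congrArg (F.map (β m.unop).op) hm').trans (key₃ x₂))
  exact ⟨fun i x y hx => (key i y).1 x hx,
    fun i x₁ x₂ hax hT' => (key i _).2 x₁ x₂ rfl hax.symm hT'⟩

theorem isRelLimitPreserving_iff_elt : IsRelLimitPreserving a ↔ EltRelLP a :=
  ⟨elt_of_isRelLimitPreserving, isRelLimitPreserving_of_elt⟩

theorem isPullback_colimit_iff_elt :
    EltRelLP a ↔ ∀ ⦃I : Type u⦄ [SmallCategory I] [IsCofiltered I] (D : I ⥤ Over S) (c : Cone D),
      IsLimit ((Over.forget S).mapCone c) → (∀ i, IsAffine (D.obj i).left) → IsAffine c.pt.left →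
      IsPullback (colimMap (Functor.whiskerLeft D.op a)) (colimit.desc (D.op ⋙ F) (F.mapCocone c.op))
        (colimit.desc (D.op ⋙ G) (G.mapCocone c.op)) (a.app (op c.pt)) := by
  refine forall_congr' fun I => forall_congr' fun _ => forall_congr' fun _ => forall_congr' fun D =>
    forall_congr' fun c => forall_congr' fun _ => forall_congr' fun _ => forall_congr' fun _ => ?_
  have hι : ∀ (j : Iᵒᵖ) (x : F.obj (op (D.obj j.unop))),
      colimMap (Functor.whiskerLeft D.op a) (colimit.ι (D.op ⋙ F) j x) =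
        colimit.ι (D.op ⋙ G) j (a.app (op (D.obj j.unop)) x) := fun j x =>
    ConcreteCategory.congr_hom (ι_colimMap (Functor.whiskerLeft D.op a) j) x
  have hF : ∀ (j : Iᵒᵖ) (x : F.obj (op (D.obj j.unop))),
      colimit.desc (D.op ⋙ F) (F.mapCocone c.op) (colimit.ι (D.op ⋙ F) j x) =
        F.map (c.π.app j.unop).op x := fun j x =>
    ConcreteCategory.congr_hom (colimit.ι_desc (F.mapCocone c.op) j) x
  have hG : ∀ (j : Iᵒᵖ) (x : G.obj (op (D.obj j.unop))),
      colimit.desc (D.op ⋙ G) (G.mapCocone c.op) (colimit.ι (D.op ⋙ G) j x) =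
        G.map (c.π.app j.unop).op x := fun j x =>
    ConcreteCategory.congr_hom (colimit.ι_desc (G.mapCocone c.op) j) x
  have hwF : ∀ {j k : I} (φ : k ⟶ j) (x : F.obj (op (D.obj j))),
      colimit.ι (D.op ⋙ F) (op k) (F.map (D.map φ).op x) = colimit.ι (D.op ⋙ F) (op j) x := fun φ x =>
    ConcreteCategory.congr_hom (colimit.w (D.op ⋙ F) φ.op) x
  have hwG : ∀ {j k : I} (φ : k ⟶ j) (x : G.obj (op (D.obj j))),
      colimit.ι (D.op ⋙ G) (op k) (G.map (D.map φ).op x) = colimit.ι (D.op ⋙ G) (op j) x := fun φ x =>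
    ConcreteCategory.congr_hom (colimit.w (D.op ⋙ G) φ.op) x
  rw [Types.isPullback_iff]
  constructor
  · rintro ⟨hs, hinj⟩
    refine ⟨colimit.hom_ext fun j => ?_, fun z₁ z₂ ⟨e₁, e₂⟩ => ?_, fun w x e => ?_⟩
    · ext x
      refine ((congrArg (colimit.desc (D.op ⋙ G) (G.mapCocone c.op)) (hι j x)).trans (hG j _)).trans ?_
      refine ((NatTrans.naturality_apply a (c.π.app j.unop).op x).symm).trans ?_
      exact congrArg (a.app (op c.pt)) (hF j x).symm
    · obtain ⟨j₁, x₁, rfl⟩ := Types.jointly_surjective' z₁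
      obtain ⟨j₂, x₂, rfl⟩ := Types.jointly_surjective' z₂
      rw [hι, hι, Types.FilteredColimit.colimit_eq_iff] at e₁
      obtain ⟨k, g₁, g₂, e₁⟩ := e₁
      change G.map (D.map g₁.unop).op (a.app _ x₁) = G.map (D.map g₂.unop).op (a.app _ x₂) at e₁
      rw [← NatTrans.naturality_apply, ← NatTrans.naturality_apply] at e₁
      rw [hF, hF] at e₂
      obtain ⟨m, φ, hm⟩ := hinj k.unop (F.map (D.map g₁.unop).op x₁) (F.map (D.map g₂.unop).op x₂) e₁ (by
        rw [← Functor.map_comp_apply, ← Functor.map_comp_apply, ← op_comp, ← op_comp, c.w, c.w]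
        exact e₂)
      have := congrArg (colimit.ι (D.op ⋙ F) (op m)) hm
      rwa [hwF, hwF, hwF, hwF] at this
    · obtain ⟨j₀, y, rfl⟩ := Types.jointly_surjective' w
      rw [hG] at e
      obtain ⟨j, φ, x', hx', hax'⟩ := hs j₀.unop x y e.symm
      refine ⟨colimit.ι (D.op ⋙ F) (op j) x', ?_, ?_⟩
      · rw [hι]
        exact (congrArg (colimit.ι (D.op ⋙ G) (op j)) hax').trans (hwG φ y)
      · rw [hF]; exact hx'
  · rintro ⟨-, hinj, hs⟩
    refine ⟨fun i x y e => ?_, fun i x₁ x₂ e e' => ?_⟩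
    · obtain ⟨z, hz₁, hz₂⟩ := hs (colimit.ι (D.op ⋙ G) (op i) y) x (by rw [hG]; exact e.symm)
      obtain ⟨j, x', rfl⟩ := Types.jointly_surjective' z
      rw [hι, Types.FilteredColimit.colimit_eq_iff] at hz₁
      obtain ⟨k, g₁, g₂, hk⟩ := hz₁
      change G.map (D.map g₁.unop).op (a.app _ x') = G.map (D.map g₂.unop).op y at hk
      rw [← NatTrans.naturality_apply] at hk
      refine ⟨k.unop, g₂.unop, F.map (D.map g₁.unop).op x', ?_, hk⟩
      rw [← Functor.map_comp_apply, ← op_comp, c.w, ← hz₂, hF]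
      rfl
    · have := hinj (colimit.ι (D.op ⋙ F) (op i) x₁) (colimit.ι (D.op ⋙ F) (op i) x₂)
        ⟨by rw [hι, hι]; exact congrArg _ e, by rw [hF, hF]; exact e'⟩
      rw [Types.FilteredColimit.colimit_eq_iff] at this
      obtain ⟨k, g₁, g₂, hk⟩ := this
      change F.map (D.map g₁.unop).op x₁ = F.map (D.map g₂.unop).op x₂ at hk
      obtain ⟨m, t, ht⟩ : ∃ (m : I) (t : m ⟶ k.unop), t ≫ g₁.unop = t ≫ g₂.unop :=
        ⟨_, IsCofiltered.eqHom g₁.unop g₂.unop, IsCofiltered.eq_condition g₁.unop g₂.unop⟩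
      refine ⟨m, t ≫ g₁.unop, ?_⟩
      have h' := congrArg (F.map (D.map t).op) hk
      rw [← Functor.map_comp_apply, ← Functor.map_comp_apply, ← op_comp, ← op_comp, ← D.map_comp,
        ← D.map_comp, ← ht] at h'
      exact h'

theorem eltRelLP_comp {H : PSp S} {b : G ⟶ H} (ha : EltRelLP a) (hb : EltRelLP b) : EltRelLP (a ≫ b) := by
  intro I _ _ D c hc hD hT
  obtain ⟨ha₁, ha₂⟩ := ha D c hc hD hT
  obtain ⟨hb₁, hb₂⟩ := hb D c hc hD hT
  refine ⟨fun i x y e => ?_, fun i x₁ x₂ e e' => ?_⟩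
  · obtain ⟨j, φ, y', hy', hby'⟩ := hb₁ i (a.app _ x) y e
    obtain ⟨k, ψ, x', hx', hax'⟩ := ha₁ j x y' hy'.symm
    refine ⟨k, ψ ≫ φ, x', hx', ?_⟩
    show b.app _ (a.app _ x') = _
    rw [hax', NatTrans.naturality_apply, hby', ← Functor.map_comp_apply, ← op_comp, ← D.map_comp]
  · obtain ⟨j, φ, hj⟩ := hb₂ i (a.app _ x₁) (a.app _ x₂) e (by
      rw [← NatTrans.naturality_apply, ← NatTrans.naturality_apply, e'])
    obtain ⟨k, ψ, hk⟩ := ha₂ j (F.map (D.map φ).op x₁) (F.map (D.map φ).op x₂)
      (by rw [NatTrans.naturality_apply, NatTrans.naturality_apply, hj])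
      (by rw [← Functor.map_comp_apply, ← Functor.map_comp_apply, ← op_comp, c.w]; exact e')
    refine ⟨k, ψ ≫ φ, ?_⟩
    rw [← Functor.map_comp_apply, ← Functor.map_comp_apply, ← op_comp, ← D.map_comp] at hk
    exact hk

theorem eltRelLP_of_comp {H : PSp S} {b : G ⟶ H} (hab : EltRelLP (a ≫ b)) (hb : EltRelLP b) :
    EltRelLP a := by
  intro I _ _ D c hc hD hT
  obtain ⟨h₁, h₂⟩ := hab D c hc hD hT
  obtain ⟨-, hb₂⟩ := hb D c hc hD hT
  refine ⟨fun i x y e => ?_, fun i x₁ x₂ e e' => h₂ i x₁ x₂ (congrArg (b.app _) e) e'⟩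
  obtain ⟨j, φ, x', hx', hx''⟩ := h₁ i x (b.app _ y) (by
    show b.app _ (a.app _ x) = _
    exact (congrArg (b.app (op c.pt)) e).trans (NatTrans.naturality_apply b (c.π.app i).op y))
  obtain ⟨k, ψ, hk⟩ := hb₂ j (a.app _ x') (G.map (D.map φ).op y)
    (hx''.trans (NatTrans.naturality_apply b (D.map φ).op y).symm)
    ((((NatTrans.naturality_apply a (c.π.app j).op x').symm.trans (congrArg (a.app (op c.pt)) hx')).trans e).trans
      ((res_congr G (c.w φ).symm y).trans (res_res G _ _ y).symm))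
  refine ⟨k, ψ ≫ φ, F.map (D.map ψ).op x', ?_, ?_⟩
  · exact ((res_res F _ _ x').trans (res_congr F (c.w ψ) x')).trans hx'
  · rw [NatTrans.naturality_apply, hk, ← Functor.map_comp_apply, ← op_comp, ← D.map_comp]

theorem eltRelLP_of_isPullback {P H : PSp S} {b : H ⟶ G} {fst : P ⟶ F} {snd : P ⟶ H}
    (sq : IsPullback fst snd a b) (hb : EltRelLP b) : EltRelLP fst := by
  intro I _ _ D c hc hD hT
  obtain ⟨h₁, h₂⟩ := hb D c hc hD hT
  have hP : ∀ X, IsPullback (fst.app X) (snd.app X) (a.app X) (b.app X) := fun X =>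
    sq.map ((evaluation _ _).obj X)
  refine ⟨fun i p x e => ?_, fun i p₁ p₂ e e' => ?_⟩
  · obtain ⟨j, φ, z, hz, hz'⟩ := h₁ i (snd.app _ p) (a.app _ x) (by
      rw [← NatTrans.naturality_apply, ← e]
      exact (ConcreteCategory.congr_hom (hP (op c.pt)).w p).symm)
    obtain ⟨q, hq₁, hq₂⟩ := Types.exists_of_isPullback (hP (op (D.obj j))) (F.map (D.map φ).op x) z
      (by rw [NatTrans.naturality_apply, hz'])
    refine ⟨j, φ, q, Types.ext_of_isPullback (hP (op c.pt)) ?_ ?_, hq₁⟩
    · exact ((NatTrans.naturality_apply fst (c.π.app j).op q).trans (congrArg (F.map (c.π.app j).op) hq₁)).trans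
        (((res_res F _ _ x).trans (res_congr F (c.w φ) x)).trans e.symm)
    · exact ((NatTrans.naturality_apply snd (c.π.app j).op q).trans (congrArg (H.map (c.π.app j).op) hq₂)).trans hz
  · obtain ⟨j, φ, hj⟩ := h₂ i (snd.app _ p₁) (snd.app _ p₂) (by
      have w := fun p => ConcreteCategory.congr_hom (hP (op (D.obj i))).w p
      exact (w p₁).symm.trans ((congrArg (a.app _) e).trans (w p₂)))
      (by rw [← NatTrans.naturality_apply, ← NatTrans.naturality_apply, e'])
    refine ⟨j, φ, Types.ext_of_isPullback (hP (op (D.obj j))) ?_ ?_⟩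
    · rw [NatTrans.naturality_apply, NatTrans.naturality_apply, e]
    · rw [NatTrans.naturality_apply, NatTrans.naturality_apply, hj]

end

end Groth.Agent.AlgSpLimit
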