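import Groth.Agent.AlgSpLimit.SysBC
import Groth.Agent.AlgSpLimit.OpenDescend
import Groth.Agent.AlgSpLoc.Glue

/-!
# If a limit of algebraic spaces is a scheme then so is a stage
-/

set_option autoImplicit false
set_option backward.isDefEq.respectTransparency false
set_option linter.style.haveILetI false

universe u

open CategoryTheory CategoryTheory.Limits AlgebraicGeometry Opposite

namespace Groth.Agent.AlgSpLimit

open _root_.AlgSp Groth.Agent.AlgSpc

noncomputable section

variable {S : Scheme.{u}} {I : Type u} [SmallCategory I] [IsCofiltered I] (D : I ⥤ Sp S)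
  (hDa : ∀ (i j : I) (φ : i ⟶ j), IsAffineMor (D.map φ))
  (c : Cone D) (hc : IsLimit c)

set_option maxHeartbeats 1000000 in
include hDa hc in
/-- If the limit is a scheme, so is a stage. -/
theorem exists_yon_stage [QuasiSeparatedSpace ↥S] (hD : ∀ i, IsAlgSpace (D.obj i))
    (hqc : ∀ i, IsQuasiCompactSp (D.obj i)) (hqs : ∀ i, IsQuasiSeparatedSp (D.obj i))
    (X : Over S) (e : (yon S).obj X ≅ c.pt) :
    ∃ (i : I) (W : Over S), Nonempty ((yon S).obj W ≅ D.obj i) := by
  classical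
  let i₁ : I := (IsCofiltered.nonempty (C := I)).some
  have hπ := (repWith_affineHom_iff _).1 (isAffineMor_π D hDa c hc i₁)
  have hcqc : IsQuasiCompactSp c.pt :=
    (isQuasiCompactMor_of_repWith (repWith_mono (fun _ _ k (hk : IsAffineHom k) => inferInstanceAs (QuasiCompact k))
      hπ)) (hD i₁) (hqc i₁) (𝟙 _) _ _ (IsPullback.id_vert (c.π.app i₁)).flip
  haveI := compactSpace_points (isQuasiCompactSp_of_surjective (IsAlgSpace.yon_obj X) (f := e.inv)
    (fun x => ⟨Points.map e.hom x, by rw [← Points.map_comp, Iso.hom_inv_id, Points.map_id]⟩) hcqc)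
  haveI : CompactSpace ↥X.left := (Points.schemeHomeo X).symm.compactSpace
  obtain ⟨fin, hfin⟩ := isCompact_univ.elim_finite_subcover (fun O : X.left.affineOpens => (O.1 : Set X.left))
    (fun O => O.1.2) (fun x _ => by
      obtain ⟨O, hO, hx, -⟩ := exists_isAffineOpen_mem_and_subset (show x ∈ (⊤ : X.left.Opens) from trivial)
      exact Set.mem_iUnion.2 ⟨⟨O, hO⟩, hx⟩)
  have hst : ∀ O : fin, ∃ (i : I) (Ui : Sp S) (ji : Ui ⟶ D.obj i) (l : Over i),
      RepWith @IsOpenImmersion ji ∧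
      (∀ x : Points c.pt, (∃ y : X.left, y ∈ O.1.1 ∧ Points.ofPt e.hom y = x) →
        Points.map (c.π.app i) x ∈ Set.range (Points.map ji)) ∧
      ∀ (n : Over i) (_ : n ⟶ l), ∃ W : Over S, IsAffine W.left ∧ Nonempty ((yon S).obj W ≅ pullback (D.map n.hom) ji) := by
    intro O
    let U : Over S := Over.mk (O.1.1.ι ≫ X.hom)
    let u : U ⟶ X := Over.homMk O.1.1.ι rfl
    haveI : IsAffine U.left := O.1.2
    let j : (yon S).obj U ⟶ c.pt := (yon S).map u ≫ e.hom
    have hj : RepWith @IsOpenImmersion j :=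
      repWith_comp ((repWith_yon_map_iff _ u).2 (inferInstanceAs (IsOpenImmersion O.1.1.ι))) (repWith_iso _)
    obtain ⟨i, Ui, ji, q, hji, hUc, sq⟩ := exists_open_stage D hD hDa hqc hqs c hc j hj isQuasiCompactSp_yon
    have hUa : IsAlgSpace Ui := isAlgSpace_of_representable hji.1 (hD i)
    have hUs : IsQuasiSeparatedSp Ui := by
      obtain ⟨q⟩ := AlgSpDesc.exists_toBase (hD i)
      refine AlgSpDesc.isQuasiSeparatedSp_of_mor (fun w' => ?_) (ji ≫ q)
      rw [yon_toBase_unique w' (ji ≫ q)]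
      exact repWith_diagonal_comp
        (repWith_diagonal_of_repWith (P := @IsOpenImmersion) (fun _ _ k (hk : IsOpenImmersion k) =>
          inferInstanceAs (QuasiCompact (pullback.diagonal k))) hji)
        (AlgSpDesc.isQuasiSeparatedMor_of_sp (hD i) (hqs i) q)
    obtain ⟨l, hl⟩ := exists_affine_stage (bcSys D ji) (isAffineMor_bcSys D ji hDa) (bcSpCone D c ji)
      (isLimitBcSpCone D c ji hc) (isAlgSpace_bcSys D ji hD hUa) (isQuasiCompactSp_bcSys D ji hDa hUa hUc)
      (isQuasiSeparatedSp_bcSys D ji hDa hUa hUs) U O.1.2 sq.isoPullback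
    refine ⟨i, Ui, ji, l, hji, ?_, fun n t => hl n t⟩
    rintro _ ⟨y, hy, rfl⟩
    refine ⟨Points.map q (Points.ofScheme U ⟨y, hy⟩), ?_⟩
    rw [← Points.map_comp, ← sq.w, Points.map_comp]
    congr 1
    rw [← Points.ofPt_eq_map_ofScheme]
    exact ofPt_comp u e.hom _
  choose i Ui ji l hji hcov hl using hst
  obtain ⟨k, hk⟩ := IsCofiltered.inf_objs_exists (Finset.univ.image fun O : fin => (l O).left)
  have r : ∀ O : fin, k ⟶ (l O).left := fun O => (hk (Finset.mem_image_of_mem _ (Finset.mem_univ O))).some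
  -- cover at a later stage
  obtain ⟨V, b, hV, hb, hbs⟩ := (isQuasiCompactSp_iff_affine (hD k)).1 (hqc k)
  obtain ⟨F, φ, ψ, hF, hsq, hφ, hψ⟩ := exists_affine_system D hDa b hV
  obtain ⟨C, hC, φ₁, hsq₁, hφ₁⟩ := exists_affine_limit' D c hc b F φ ψ hF hsq hφ hψ
  let D' := F ⋙ Over.forget S
  haveI : ∀ k, IsAffine (D'.obj k) := hF
  haveI : ∀ {k' l' : Over k} (t : k' ⟶ l'), IsAffineHom (D'.map t) := fun t => inferInstance
  let top : Over k := Over.mk (𝟙 k)
  let g : ∀ O : fin, D.obj k ⟶ D.obj (i O) := fun O => D.map (r O ≫ (l O).hom)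
  let R : fin → Set (Points (D.obj k)) := fun O => Points.map (g O) ⁻¹' Set.range (Points.map (ji O))
  have hR : ∀ O, IsOpen (R O) := fun O =>
    ((isOpenMap_map_of_repWith (fun _ _ f (hf : IsOpenImmersion f) => f.isOpenEmbedding.isOpenMap) (hji O)).isOpen_range).preimage
      (Points.continuous_map _)
  let U₀ : (D'.obj top).Opens := ⟨Points.ofPt (φ top) ⁻¹' ⋃ O, R O,
    (isOpen_iUnion hR).preimage (Points.continuous_ofPt (φ top))⟩
  obtain ⟨m, t, hm⟩ := exists_map_eq_top D' _ hC (i := top) U₀ (by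
    ext y
    refine iff_of_true ?_ trivial
    show Points.ofPt (φ top) ((C.π.app top).left y) ∈ ⋃ O, R O
    rw [← ofPt_comp, ← hφ₁, ← Points.map_ofPt]
    obtain ⟨x, hx⟩ := surjective_ofPt (repWith_iso (P := @Surjective) e.hom) (Points.ofPt φ₁ y)
    obtain ⟨O, hO, hxO⟩ := Set.mem_iUnion₂.1 (hfin (Set.mem_univ x))
    refine Set.mem_iUnion.2 ⟨⟨O, hO⟩, ?_⟩
    show Points.map (g ⟨O, hO⟩) (Points.map (c.π.app k) (Points.ofPt φ₁ y)) ∈ Set.range (Points.map (ji ⟨O, hO⟩))
    rw [← Points.map_comp, c.w]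
    exact hcov _ _ ⟨x, hxO, hx⟩)
  let n : ∀ O : fin, Over (i O) := fun O => Over.mk ((m.hom ≫ r O) ≫ (l O).hom)
  choose W hWa ε using fun O => hl O (n O) (Over.homMk (m.hom ≫ r O) rfl)
  obtain ⟨W', hW'⟩ := AlgSpLoc.exists_yon_iso_of_open_cover (X := D.obj m.left) (V := W)
    (e := fun O => (ε O).some.hom ≫ pullback.fst (D.map (n O).hom) (ji O))
    (fun O => repWith_comp (repWith_iso _) (repWith_of_isPullback
      (IsPullback.of_hasPullback (D.map (n O).hom) (ji O)).flip (hji O))) fun x => by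
    obtain ⟨y, rfl⟩ := surjective_ofPt (repWith_of_isPullback (hsq m).flip hbs) x
    have hy : (F.map t).left y ∈ U₀ := (SetLike.ext_iff.1 hm y).2 trivial
    obtain ⟨O, hO⟩ := Set.mem_iUnion.1 (show Points.ofPt (φ top) ((F.map t).left y) ∈ ⋃ O, R O from hy)
    refine ⟨O, ?_⟩
    rw [← ofPt_comp, hφ, ← Points.map_ofPt] at hO
    obtain ⟨z, hz⟩ := hO
    rw [← Points.map_comp, ← D.map_comp] at hz
    have hn : t.left ≫ r O ≫ (l O).hom = (n O).hom := by
      have : t.left = m.hom := by simpa [top] using Over.w t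
      simp [n, this]
    rw [hn] at hz
    obtain ⟨p, hp, -⟩ := exists_point_of_isPullback (IsPullback.of_hasPullback (D.map (n O).hom) (ji O)) _ z hz.symm
    obtain ⟨q, rfl⟩ := surjective_ofPt (repWith_iso (P := @Surjective) (ε O).some.hom) p
    exact ⟨q, by rw [← hp]; exact (Points.map_ofPt _ _ _).symm⟩
  exact ⟨m.left, W', hW'⟩

end

end Groth.Agent.AlgSpLimit
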