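import Groth.Agent.AlgSpLimit.AffineLimit

/-!
# Base change of a system of algebraic spaces along a morphism to one of its members
-/

set_option autoImplicit false
set_option backward.isDefEq.respectTransparency false
set_option linter.style.haveILetI false

universe u

open CategoryTheory CategoryTheory.Limits AlgebraicGeometry Opposite

namespace Groth.Agent.AlgSpLimit

open _root_.AlgSp Groth.Agent.AlgSpc

noncomputable section

variable {S : Scheme.{u}} {I : Type u} [SmallCategory I] (D : I ⥤ Sp S) (c : Cone D) {i : I} {W : Sp S}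
  (w : W ⟶ D.obj i)

/-- The base change of the system along `w`. -/
def bcSys : Over i ⥤ Sp S where
  obj l := pullback (D.map l.hom) w
  map {l m} t := pullback.map _ _ _ _ (D.map t.left) (𝟙 W) (𝟙 _)
    (by rw [Category.comp_id, ← D.map_comp, Over.w t]) (by simp)
  map_id l := by apply pullback.hom_ext <;> simp
  map_comp t t' := by apply pullback.hom_ext <;> simp

theorem isPullback_bcSys_map {l m : Over i} (t : l ⟶ m) :
    IsPullback ((bcSys D w).map t) (pullback.fst (D.map l.hom) w) (pullback.fst (D.map m.hom) w) (D.map t.left) :=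
  IsPullback.of_right (h₁₂ := pullback.snd _ _) (h₂₂ := D.map m.hom)
    (by
      rw [show (bcSys D w).map t ≫ pullback.snd _ _ = pullback.snd (D.map l.hom) w by simp [bcSys],
        ← D.map_comp, Over.w t]
      exact (IsPullback.of_hasPullback _ _).flip)
    (by simp [bcSys]) (IsPullback.of_hasPullback (D.map m.hom) w).flip

/-- The base change of the cone. -/
def bcSpCone : Cone (bcSys D w) where
  pt := pullback (c.π.app i) w
  π :=
    { app := fun l => pullback.map _ _ _ _ (c.π.app l.left) (𝟙 W) (𝟙 _) (by rw [Category.comp_id, c.w]) (by simp)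
      naturality := fun l m t => by
        apply pullback.hom_ext
        · simp only [Functor.const_obj_map, Category.assoc, bcSys, pullback.lift_fst, pullback.lift_fst_assoc, c.w]
          exact Category.id_comp _
        · simp [bcSys] }

/-- The projection to the system. -/
def bcFst : bcSys D w ⟶ Over.forget i ⋙ D where
  app l := pullback.fst (D.map l.hom) w
  naturality _ _ _ := by simp [bcSys]

/-- The base change of a limit is a limit. -/
def isLimitBcSpCone [IsCofiltered I] (hc : IsLimit c) : IsLimit (bcSpCone D c w) :=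
  have : IsConnected (Over i) := isConnected_of_hasTerminal _
  isLimitOfIsPullbackOfIsConnected (bcFst D w) _ (c.whisker (Over.forget i))
    { hom := pullback.fst (c.π.app i) w
      w := fun l => (pullback.lift_fst _ _ _).symm }
    (fun l => IsPullback.of_right (h₁₂ := pullback.snd (D.map l.hom) w) (h₂₂ := D.map l.hom) (v₁₃ := w)
      (by
        rw [show (bcSpCone D c w).π.app l ≫ pullback.snd (D.map l.hom) w = pullback.snd (c.π.app i) w by
          simp [bcSpCone]]
        exact (c.w l.hom).symm ▸ (IsPullback.of_hasPullback (c.π.app i) w).flip)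
      (pullback.lift_fst _ _ _) (IsPullback.of_hasPullback (D.map l.hom) w).flip)
    ((Functor.Initial.isLimitWhiskerEquiv (Over.forget i) _).symm hc)

variable (hDa : ∀ (i j : I) (φ : i ⟶ j), IsAffineMor (D.map φ))

include hDa in
theorem isAffineMor_bcSys (l m : Over i) (t : l ⟶ m) : IsAffineMor ((bcSys D w).map t) :=
  (repWith_affineHom_iff _).2 (repWith_of_isPullback (isPullback_bcSys_map D w t).flip
    ((repWith_affineHom_iff _).1 (hDa _ _ t.left)))

theorem isAlgSpace_bcSys (hD : ∀ i, IsAlgSpace (D.obj i)) (hW : IsAlgSpace W) (l : Over i) :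
    IsAlgSpace ((bcSys D w).obj l) :=
  isAlgSpace_of_isPullback (hD _) (hD i) hW (IsPullback.of_hasPullback (D.map l.hom) w)

include hDa in
theorem repWith_affineHom_bcSys_snd (l : Over i) : RepWith @IsAffineHom (pullback.snd (D.map l.hom) w) :=
  repWith_of_isPullback (IsPullback.of_hasPullback (D.map l.hom) w) ((repWith_affineHom_iff _).1 (hDa _ _ l.hom))

include hDa in
theorem isQuasiCompactSp_bcSys (hW : IsAlgSpace W) (hWc : IsQuasiCompactSp W) (l : Over i) :
    IsQuasiCompactSp ((bcSys D w).obj l) :=
  (isQuasiCompactMor_of_repWith (repWith_mono (fun _ _ k (hk : IsAffineHom k) => inferInstanceAs (QuasiCompact k))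
    (repWith_affineHom_bcSys_snd D w hDa l))) hW hWc (𝟙 _) _ _ (IsPullback.id_vert (pullback.snd (D.map l.hom) w)).flip

include hDa in
theorem isQuasiSeparatedSp_bcSys (hW : IsAlgSpace W) (hWs : IsQuasiSeparatedSp W) (l : Over i) :
    IsQuasiSeparatedSp ((bcSys D w).obj l) := by
  obtain ⟨q⟩ := AlgSpDesc.exists_toBase hW
  refine AlgSpDesc.isQuasiSeparatedSp_of_mor (fun w' => ?_) (pullback.snd (D.map l.hom) w ≫ q)
  rw [yon_toBase_unique w' (pullback.snd (D.map l.hom) w ≫ q)]
  exact repWith_diagonal_comp
    (repWith_mono (fun _ _ g (hg : IsClosedImmersion g) => inferInstanceAs (QuasiCompact g))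
      (isSeparatedMor_of_repWith_affineHom (repWith_affineHom_bcSys_snd D w hDa l)))
    (AlgSpDesc.isQuasiSeparatedMor_of_sp hW hWs q)

end

end Groth.Agent.AlgSpLimit
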